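import Groth.Agent.SemiAbLib.Basic
import Groth.Agent.AlbLib.AffineHom
import Mathlib.Algebra.MvPolynomial.Nilpotent
import Mathlib.LinearAlgebra.SymmetricAlgebra.Basis

/-!
Maps from affine spaces to semi-abelian varieties are constant.
-/

set_option autoImplicit false
set_option linter.style.haveILetI false
set_option backward.isDefEq.respectTransparency false
set_option maxHeartbeats 1000000

noncomputable section

universe u

open CategoryTheory CategoryTheory.Limits MonoidalCategory CartesianMonoidalCategory AlgebraicGeometry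
open scoped MonObj TensorProduct
open Groth.Agent CoactBr

attribute [-instance] CategoryTheory.Hom.commGroup

namespace SemiAbLib

variable {k : Type u} [Field k] [IsAlgClosed k]

/-- Maps to a torus from an affine scheme with only constant units are constant. -/
theorem torus_const {T : Over (Spec (CommRingCat.of k))} [GrpObj T] (hT : Red.IsTorus T) {C : Type u} [CommRing C]
    [Algebra k C] (hC : ∀ u : C, IsUnit u → u ∈ (algebraMap k C).range) (ε : C →ₐ[k] k) (f : sp k C ⟶ T) :
    ∃ g : 𝟙_ (Over (Spec (CommRingCat.of k))) ⟶ T, f = toUnit _ ≫ g := by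
  obtain ⟨r, v, hv, hv'⟩ := exists_laurent_iso hT
  obtain ⟨φ, hφ⟩ := DiagRep.exists_pt (f ≫ v.inv)
  refine ⟨inv (DiagRep.toBase (R := k)) ≫ pt (ε.comp φ) ≫ v.hom, ?_⟩
  have h1 : φ = (Algebra.ofId k C).comp (ε.comp φ) := by
    refine MonoidAlgebra.algHom_ext (fun m => ?_) (Subsingleton.elim _ _)
    obtain ⟨c, hc⟩ := hC (φ (MonoidAlgebra.single m 1)) (((Group.isUnit m).map (MonoidAlgebra.of k _)).map φ)
    show φ _ = algebraMap k C (ε (φ _))
    rw [← hc, AlgHom.commutes, Algebra.algebraMap_self, RingHom.id_apply]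
  have h2 : toUnit (sp k C) ≫ inv (DiagRep.toBase (R := k)) = pt (Algebra.ofId k C) := by
    rw [IsIso.comp_inv_eq]; exact Subsingleton.elim _ _
  rw [← Category.assoc, h2, ← Category.assoc, ← pt_comp, ← h1, ← hφ, Category.assoc, v.inv_hom_id, Category.comp_id]

variable (V : Type u) [AddCommGroup V] [Module k V] [Module.Finite k V]

/-- The coordinate ring of an affine space has only constant units. -/
theorem units_symm (u : SymmetricAlgebra k V) (hu : IsUnit u) : u ∈ (algebraMap k (SymmetricAlgebra k V)).range := by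
  let e := SymmetricAlgebra.equivMvPolynomial (Module.Free.chooseBasis k V)
  obtain ⟨h0, h1⟩ := MvPolynomial.isUnit_iff.1 (hu.map e)
  refine ⟨(e u).coeff 0, e.injective ?_⟩
  rw [AlgEquiv.commutes]
  refine MvPolynomial.ext _ _ fun i => ?_
  classical
  rw [MvPolynomial.algebraMap_eq, MvPolynomial.coeff_C]
  split_ifs with h
  · rw [← h]
  · exact ((h1 i (Ne.symm h)).eq_zero).symm

theorem finiteType_symm : Algebra.FiniteType k (SymmetricAlgebra k V) :=
  Algebra.FiniteType.equiv inferInstance (SymmetricAlgebra.equivMvPolynomial (Module.Free.chooseBasis k V)).symm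

variable {G : Over (Spec (CommRingCat.of k))} [GrpObj G] [LocallyOfFiniteType G.hom] [QuasiCompact G.hom]

/-- Maps from an affine space to a semi-abelian variety are constant. -/
theorem IsSemiAb.affineSpace_const (hG : IsSemiAb G) (f : sp k (SymmetricAlgebra k V) ⟶ G) :
    ∃ g : 𝟙_ (Over (Spec (CommRingCat.of k))) ⟶ G, f = toUnit _ ≫ g := by
  obtain ⟨T, _, i, A, _, q, hi, hic, hT, hq, hqs, hqf, hker, hAp, hAs, hAc⟩ := hG
  haveI := hi; haveI := hq; haveI := hAp; haveI := hAs; haveI := hAc
  haveI : GeometricallyIntegral A.hom := AlbLib.geometricallyIntegral_grp A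
  let L := sp k (SymmetricAlgebra k V)
  haveI := finiteType_symm (k := k) V
  haveI : LocallyOfFiniteType L.hom := AlbLib.lft_sp _
  haveI : IsIntegral L.left := inferInstanceAs (IsIntegral (Spec (CommRingCat.of (SymmetricAlgebra k V))))
  haveI : IsAffine L.left := inferInstanceAs (IsAffine (Spec (CommRingCat.of (SymmetricAlgebra k V))))
  haveI : GeometricallyIntegral L.hom := AlbLib.geometricallyIntegral_of_isIntegral L
  haveI : Smooth L.hom := GrpSchLib.smooth_of_isAlgClosed_of_isReduced L
  haveI : ConnectedSpace L.left := inferInstance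
  let g₀ : 𝟙_ (Over (Spec (CommRingCat.of k))) ⟶ G := η[L] ≫ f
  let f' : L ⟶ G := f * (toUnit L ≫ g₀)⁻¹
  have h0 : η[L] ≫ f' = η[G] := by
    rw [MonObj.comp_mul, GrpObj.comp_inv, ← Category.assoc, toUnit_unique (η[L] ≫ toUnit L) (𝟙 _), Category.id_comp,
      mul_inv_cancel, MonObj.one_eq_one]
  haveI : IsMonHom (f' ≫ q) := AlbLib.isMonHom_of_pointed _ (by rw [reassoc_of% h0, IsMonHom.one_hom q])
  obtain ⟨l, hl⟩ := AntiAffLib.exists_lift_kernel hker f' (AlbLib.eq_one_of_affine (f' ≫ q))
  obtain ⟨g, rfl⟩ := torus_const hT (units_symm V) (Bialgebra.counitAlgHom k _) l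
  refine ⟨(g ≫ i) * g₀, ?_⟩
  rw [MonObj.comp_mul, ← Category.assoc, hl, inv_mul_cancel_right]

/-- A semi-abelian variety has no non-trivial homomorphism from the additive group. -/
theorem IsSemiAb.eq_one_of_ga (hG : IsSemiAb G) (j : Red.Ga (Spec (CommRingCat.of k)) ⟶ G) [IsMonHom j] : j = 1 := by
  obtain ⟨g, hg⟩ := hG.affineSpace_const k (toGa k ≫ j)
  have h1 : g = 1 := by
    have h := congrArg (η[sp k (SymmetricAlgebra k k)] ≫ ·) hg
    simp only [← Category.assoc, toUnit_unique (η[sp k (SymmetricAlgebra k k)] ≫ toUnit _) (𝟙 _),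
      Category.id_comp, IsMonHom.one_hom] at h
    rw [← h, MonObj.one_eq_one]
  rw [← cancel_epi (toGa k), hg, h1, MonObj.comp_one, MonObj.comp_one]

end SemiAbLib

end
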