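import Groth.Agent.GaGmKerLib.GaPts
import Groth.Agent.DiagRepLib.Scheme

/-!
The additive group is the spectrum of the symmetric algebra of the base field.
-/

set_option autoImplicit false
set_option linter.style.haveILetI false
set_option backward.isDefEq.respectTransparency false
set_option maxHeartbeats 1000000

noncomputable section

universe u

open CategoryTheory CategoryTheory.Limits MonoidalCategory CartesianMonoidalCategory AlgebraicGeometry CoactBr
open scoped MonObj TensorProduct
open Groth.Agent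

namespace SemiAbLib

variable (k : Type u) [Field k]

/-- The coordinate on the spectrum of the symmetric algebra. -/
def coord : Γ((sp k (SymmetricAlgebra k k)).left, ⊤) :=
  (Scheme.ΓSpecIso (CommRingCat.of (SymmetricAlgebra k k))).inv (SymmetricAlgebra.ι k k 1)

/-- The comparison with the additive group. -/
def toGa : sp k (SymmetricAlgebra k k) ⟶ Red.Ga (Spec (CommRingCat.of k)) := GaPts.ptOf (coord k)

theorem gaFn_toGa : Red.gaFn (toGa k) = coord k := GaPts.gaFn_ptOf _

instance isMonHom_toGa : IsMonHom (toGa k) where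
  one_hom := by
    refine GaPts.gaFn_injective ?_
    show Red.gaFn _ = Red.gaFn _
    rw [GaPts.gaFn_comp, gaFn_toGa, MonObj.one_eq_one, MonObj.one_eq_one, GaPts.gaFn_one]
    show (η[sp k (SymmetricAlgebra k k)]).left.appTop (coord k) = 0
    have h : (Bialgebra.counitAlgHom k (SymmetricAlgebra k k)) (SymmetricAlgebra.ι k k 1) = 0 := by
      simp [SymmetricAlgebra.algebraMapInv]
    have key := congrArg (fun ψ => (ConcreteCategory.hom ψ) (SymmetricAlgebra.ι k k 1))
      (Scheme.ΓSpecIso_inv_naturality (CommRingCat.ofHom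
        (Bialgebra.counitAlgHom k (SymmetricAlgebra k k)).toRingHom))
    refine Eq.trans key.symm ?_
    show (Scheme.ΓSpecIso (CommRingCat.of k)).inv ((Bialgebra.counitAlgHom k (SymmetricAlgebra k k)) (SymmetricAlgebra.ι k k 1)) = 0
    rw [h, map_zero]
  mul_hom := by
    refine GaPts.gaFn_injective ?_
    show Red.gaFn _ = Red.gaFn _
    rw [GaPts.gaFn_comp, gaFn_toGa]
    have hm : (toGa k ⊗ₘ toGa k) ≫ μ[Red.Ga (Spec (CommRingCat.of k))] =
        (fst _ _ ≫ toGa k) * (snd _ _ ≫ toGa k) := by
      rw [MonObj.mul_eq_mul, MonObj.comp_mul, tensorHom_fst, tensorHom_snd]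
    rw [hm, GaPts.gaFn_mul, GaPts.gaFn_comp, GaPts.gaFn_comp, gaFn_toGa]
    exact GaPts.mul_appTop_primitive k (SymmetricAlgebra k k) _ (by simp)

/-- The structure of an algebra over the field on the functions of an object over the field. -/
def fnHom {X : Over (Spec (CommRingCat.of k))} : k →+* Γ(X.left, ⊤) :=
  ((Scheme.ΓSpecIso (CommRingCat.of k)).inv ≫ X.hom.appTop).hom

theorem fnHom_natural {X Y : Over (Spec (CommRingCat.of k))} (f : X ⟶ Y) (c : k) :
    f.left.appTop (fnHom k c) = fnHom k (X := X) c := by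
  show (Y.hom.appTop ≫ f.left.appTop) _ = _
  rw [← Scheme.Hom.comp_appTop, Over.w f]
  rfl

/-- A function on an object gives a map to the spectrum of the symmetric algebra. -/
theorem exists_fromFn {X : Over (Spec (CommRingCat.of k))} (a : Γ(X.left, ⊤)) :
    ∃ v : X ⟶ sp k (SymmetricAlgebra k k), v.left.appTop (coord k) = a := by
  letI := (fnHom k (X := X)).toAlgebra
  let θ : SymmetricAlgebra k k →ₐ[k] Γ(X.left, ⊤) := SymmetricAlgebra.lift (LinearMap.toSpanSingleton k Γ(X.left, ⊤) a)
  have hθ : θ (SymmetricAlgebra.ι k k 1) = a := by simp [θ]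
  let v0 : X.left ⟶ (sp k (SymmetricAlgebra k k)).left :=
    X.left.toSpecΓ ≫ Spec.map (CommRingCat.ofHom θ.toRingHom)
  refine ⟨Over.homMk v0 ?_, ?_⟩
  · show (X.left.toSpecΓ ≫ Spec.map _) ≫ Spec.map (CommRingCat.ofHom (algebraMap k (SymmetricAlgebra k k))) = X.hom
    rw [Category.assoc, ← Spec.map_comp, ← CommRingCat.ofHom_comp, show θ.toRingHom.comp (algebraMap k (SymmetricAlgebra k k)) = algebraMap k Γ(X.left, ⊤) from θ.comp_algebraMap,
      show CommRingCat.ofHom (algebraMap k Γ(X.left, ⊤)) = (Scheme.ΓSpecIso (CommRingCat.of k)).inv ≫ X.hom.appTop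
        from rfl, Spec.map_comp, ← Category.assoc, ← Scheme.toSpecΓ_naturality, Category.assoc]
    simp
  · show v0.appTop _ = a
    show (X.left.toSpecΓ ≫ Spec.map (CommRingCat.ofHom θ.toRingHom)).appTop (coord k) = a
    rw [Scheme.Hom.comp_appTop, Scheme.toSpecΓ_appTop]
    show (Scheme.ΓSpecIso _).hom ((Spec.map (CommRingCat.ofHom θ.toRingHom)).appTop (coord k)) = a
    rw [← hθ, coord]
    exact congrArg (fun ψ => (ConcreteCategory.hom ψ) (SymmetricAlgebra.ι k k 1))
      ((congrArg (· ≫ (Scheme.ΓSpecIso _).hom) (Scheme.ΓSpecIso_inv_naturality (CommRingCat.ofHom θ.toRingHom))).symm.trans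
        (by rw [Category.assoc, Iso.inv_hom_id, Category.comp_id]))

/-- The additive group is the spectrum of the symmetric algebra. -/
instance isIso_toGa : IsIso (toGa k) := by
  obtain ⟨v, hv⟩ := exists_fromFn k (Red.gaFn (𝟙 (Red.Ga (Spec (CommRingCat.of k)))))
  have h1 : v ≫ toGa k = 𝟙 _ := GaPts.gaFn_injective (by
    show Red.gaFn _ = Red.gaFn _
    rw [GaPts.gaFn_comp, gaFn_toGa, hv])
  have h2 : toGa k ≫ v = 𝟙 _ := by
    haveI : IsAffine (sp k (SymmetricAlgebra k k)).left :=
      inferInstanceAs (IsAffine (Spec (CommRingCat.of (SymmetricAlgebra k k))))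
    refine Over.OverMorphism.ext (ext_of_isAffine ?_)
    let e := (Scheme.ΓSpecIso (CommRingCat.of (SymmetricAlgebra k k))).inv
    rw [← cancel_epi e]
    letI := (fnHom k (X := sp k (SymmetricAlgebra k k))).toAlgebra
    let P : (sp k (SymmetricAlgebra k k) ⟶ sp k (SymmetricAlgebra k k)) →
        (SymmetricAlgebra k k →ₐ[k] Γ((sp k (SymmetricAlgebra k k)).left, ⊤)) := fun f =>
      { (e ≫ f.left.appTop).hom with
        commutes' := fun c => by
          show f.left.appTop (e (algebraMap k _ c)) = fnHom k c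
          rw [← fnHom_natural k f c]
          congr 1
          exact congrArg (fun ψ => (ConcreteCategory.hom ψ) c)
            (Scheme.ΓSpecIso_inv_naturality (CommRingCat.ofHom (algebraMap k (SymmetricAlgebra k k)))) }
    have : P (toGa k ≫ v) = P (𝟙 _) := by
      refine SymmetricAlgebra.algHom_ext (LinearMap.ext_ring ?_)
      show (toGa k ≫ v).left.appTop (coord k) = (𝟙 (sp k (SymmetricAlgebra k k)) : _ ⟶ _).left.appTop (coord k)
      rw [Over.comp_left, Scheme.Hom.comp_appTop]
      show (toGa k).left.appTop (v.left.appTop (coord k)) = _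
      rw [hv, ← GaPts.gaFn_comp, Category.comp_id, gaFn_toGa]
      rfl
    exact CommRingCat.hom_ext (congrArg AlgHom.toRingHom this)
  exact ⟨v, h2, h1⟩

end SemiAbLib

end
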