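import Groth.Agent.SemiAbLib.UnipSub
import Groth.Agent.SemiAbLib.GaSpec
import Groth.Agent.TorusFieldLib.Scheme
import Groth.Agent.AlbLib.Torus
import Groth.Agent.AlbLib.AlgClosed
import Groth.Agent.AlbLib.AVBasic

/-!
A connected commutative affine algebraic group is a torus or contains the additive group.
-/

set_option autoImplicit false
set_option linter.style.haveILetI false
set_option backward.isDefEq.respectTransparency false
set_option maxHeartbeats 1000000

noncomputable section

universe u

open CategoryTheory CategoryTheory.Limits MonoidalCategory CartesianMonoidalCategory AlgebraicGeometry CoactBr WithConv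
open scoped MonObj TensorProduct
open Groth.Agent HopfRep

attribute [local instance] HopfFF.pointsGroup

namespace SemiAbLib

/-- A split torus is a torus. -/
theorem isTorus_of_iso {S : Scheme.{u}} (T : Over S) [GrpObj T] {r : ℕ} (e : T ≅ Red.DS S (Fin r → ℤ))
    [IsMonHom e.hom] : Red.IsTorus T := by
  refine ⟨S, 𝟙 S, inferInstance, inferInstance, fun V hV => ⟨V, hV.isCompact, by simp⟩, fun s => ?_⟩
  refine ⟨⊤, trivial, r, ?_⟩
  obtain ⟨e2, he2⟩ := AlbLib.exists_DS_bc ((⊤ : S.Opens).ι ≫ 𝟙 S) (Fin r → ℤ)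
  let j : Red.bc ((⊤ : S.Opens).ι ≫ 𝟙 S) T ≅ Red.DS _ (Fin r → ℤ) :=
    (Over.pullback ((⊤ : S.Opens).ι ≫ 𝟙 S)).mapIso e ≪≫ e2.symm
  haveI : IsMonHom ((Over.pullback ((⊤ : S.Opens).ι ≫ 𝟙 S)).mapIso e).hom :=
    @Functor.map.instIsMonHom _ _ _ _ _ _ (Over.pullback ((⊤ : S.Opens).ι ≫ 𝟙 S)) _ _ _ _ _ e.hom _
  haveI := he2
  haveI : IsMonHom j.hom := by dsimp only [j, Iso.trans_hom, Iso.symm_hom]; infer_instance
  exact ⟨Grp.mkIso j (IsMonHom.one_hom j.hom) (IsMonHom.mul_hom j.hom)⟩

variable {k : Type u} [Field k] [IsAlgClosed k]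

/-- A diagonalizable group variety is a split torus. -/
theorem exists_glBasis {A : Type u} [CommRing A] [HopfAlgebra k A] [Algebra.FiniteType k A] [IsDomain A]
    (h : IsDiagonalizable k A) : ∃ r : ℕ, Nonempty (DiagRep.GLBasis k (Fin r → ℤ) A) := by
  classical
  let G := GroupLike k A
  have hli : LinearIndependent k (GroupLike.val (R := k) (A := A)) := linearIndep_groupLikeVal
  have hr : Set.range (GroupLike.val (R := k) (A := A)) = {a : A | IsGroupLikeElem k a} :=
    Set.ext fun a => ⟨by rintro ⟨g, rfl⟩; exact g.isGroupLikeElem_val, fun ha => ⟨⟨a, ha⟩, rfl⟩⟩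
  let b : Module.Basis G k A := Module.Basis.mk hli (by rw [hr]; exact h.ge)
  haveI : Group.FG G := by
    obtain ⟨M, _, ⟨e⟩⟩ := isDiag_of_isDiagonalizable h
    haveI : Algebra.FiniteType k (MonoidAlgebra k G) := by
      let φ : MonoidAlgebra k G ≃ₗ[k] A := (MonoidAlgebra.basis G k).equiv b (Equiv.refl G)
      let ψ : MonoidAlgebra k G →ₐ[k] A := MonoidAlgebra.lift k A G (GroupLike.valMonoidHom k A)
      have hψ : ψ.toLinearMap = φ.toLinearMap := (MonoidAlgebra.basis G k).ext fun g => by
        simp only [φ, LinearEquiv.coe_coe, Module.Basis.equiv_apply]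
        simp [ψ, b, Module.Basis.mk_apply]
        rfl
      have hbij : Function.Bijective ψ := by
        rw [show (ψ : MonoidAlgebra k G → A) = φ from funext fun z => LinearMap.congr_fun hψ z]
        exact φ.bijective
      exact Algebra.FiniteType.equiv (inferInstance : Algebra.FiniteType k A) (AlgEquiv.ofBijective ψ hbij).symm
    exact MonoidAlgebra.finiteType_iff_group_fg.1 (inferInstance : Algebra.FiniteType k (MonoidAlgebra k G))
  have htf : ∀ (g : G) (n : ℕ), 0 < n → g ^ n = 1 → g = 1 := by
    intro g n hn hgn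
    have hg : g.val ^ n = 1 := congrArg GroupLike.val hgn
    have hint : IsIntegral k g.val := ⟨Polynomial.X ^ n - Polynomial.C 1,
      Polynomial.monic_X_pow_sub_C 1 hn.ne', by simp [hg]⟩
    obtain ⟨c, hc⟩ := minpoly.mem_range_of_degree_eq_one k g.val
      (IsAlgClosed.degree_eq_one_of_irreducible k (minpoly.irreducible hint))
    refine GroupLike.val_injective ?_
    have h1 := g.isGroupLikeElem_val.counit_eq_one
    rw [← hc, Bialgebra.counit_algebraMap] at h1
    show g.val = 1
    rw [← hc, h1, map_one]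
  haveI : Module.Finite ℤ (Additive G) := Module.Finite.iff_addGroup_fg.2 inferInstance
  haveI : Module.IsTorsionFree ℤ (Additive G) := by
    refine Module.isTorsionFree_int_iff_isAddTorsionFree.2 ?_
    refine ⟨fun n hn x y hxy => ?_⟩
    have h : n • (x - y) = 0 := by rw [nsmul_sub, sub_eq_zero]; exact hxy
    exact sub_eq_zero.1 (congrArg Additive.ofMul (htf (Additive.toMul (x - y)) n (Nat.pos_of_ne_zero hn)
      (congrArg Additive.toMul h)))
  haveI : Module.Free ℤ (Additive G) := Module.free_of_finite_type_torsion_free'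
  let eA : Additive G ≃+ (Fin (Module.finrank ℤ (Additive G)) → ℤ) :=
    (Module.finBasis ℤ (Additive G)).equivFun.toAddEquiv
  let eq : G ≃ (Fin (Module.finrank ℤ (Additive G)) → ℤ) := Additive.ofMul.trans eA.toEquiv
  have hb : ∀ a, b.reindex eq a = (Additive.toMul (eA.symm a)).val := fun a => by
    rw [Module.Basis.reindex_apply, Module.Basis.mk_apply]
    rfl
  refine ⟨_, ⟨⟨b.reindex eq, ?_, fun x y => ?_, fun a => ?_, fun a => ?_⟩⟩⟩
  · rw [hb, map_zero]; rfl
  · rw [hb, hb, hb, map_add]; rfl
  · rw [hb]; exact (Additive.toMul (eA.symm a)).isGroupLikeElem_val.comul_eq_tmul_self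
  · rw [hb]; exact (Additive.toMul (eA.symm a)).isGroupLikeElem_val.counit_eq_one

/-- The Hopf algebra of a connected commutative affine algebraic group. -/
theorem exists_hopf_rep (L : Over (Spec (CommRingCat.of k))) [GrpObj L] [IsCommMonObj L] [Smooth L.hom]
    [ConnectedSpace L.left] [IsAffine L.left] :
    ∃ (A : Type u) (_ : CommRing A) (_ : HopfAlgebra k A) (v : sp k A ≅ L),
      IsMonHom v.hom ∧ IsMonHom v.inv ∧ Algebra.FiniteType k A ∧ IsDomain A ∧ Coalgebra.IsCocomm k A := by
  obtain ⟨H, ⟨e⟩⟩ : (hopfSpec (CommRingCat.of k)).essImage (Grp.mk L) :=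
    (essImage_hopfSpec (R := CommRingCat.of k) (G := Grp.mk L)).2 inferInstance
  let A : Type u := H.unop.X
  letI : CommRing A := H.unop.commRing
  letI : HopfAlgebra k A := H.unop.hopfAlgebra
  let v : sp k A ≅ L := (Grp.forget _).mapIso e
  haveI : IsMonHom v.hom := e.hom.hom.isMonHom_hom
  haveI : IsMonHom v.inv := e.inv.hom.isMonHom_hom
  haveI : IsIso v.hom.left := (Over.forget _).map_isIso v.hom
  haveI : Algebra.FiniteType k A := by
    haveI : LocallyOfFiniteType (sp k A).hom := by rw [← Over.w v.hom]; infer_instance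
    have h : (algebraMap k A).FiniteType :=
      (HasRingHomProperty.Spec_iff (P := @LocallyOfFiniteType) (φ := CommRingCat.ofHom (algebraMap k A))).1
        (inferInstance : LocallyOfFiniteType (sp k A).hom)
    exact RingHom.finiteType_algebraMap.1 h
  haveI : IsDomain A := by
    haveI : GeometricallyIntegral L.hom := AlbLib.geometricallyIntegral_grp L
    haveI : IsIntegral L.left := GeometricallyIntegral.isIntegral_of_subsingleton L.hom
    haveI : Nonempty ↥(Spec (CommRingCat.of A)) := Nonempty.map (inv v.hom.left) inferInstance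
    haveI : IsIntegral (Spec (CommRingCat.of A)) := isIntegral_of_isOpenImmersion v.hom.left
    exact (affine_isIntegral_iff (CommRingCat.of A)).1 inferInstance
  haveI : IsCommMonObj (sp k A) := ⟨by
    rw [← cancel_mono v.hom, Category.assoc, IsMonHom.mul_hom, ← BraidedCategory.braiding_naturality_assoc,
      IsCommMonObj.mul_comm]⟩
  haveI : Coalgebra.IsCocomm k A := by
    letI : CommGroup (sp k (A ⊗[k] A) ⟶ sp k A) := Hom.commGroup
    have h : toConv (Algebra.TensorProduct.includeLeft : A →ₐ[k] A ⊗[k] A) * toConv Algebra.TensorProduct.includeRight =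
        toConv Algebra.TensorProduct.includeRight * toConv Algebra.TensorProduct.includeLeft := by
      refine WithConv.ext (pt_injective ?_)
      rw [← DiagRep.pt_mul_conv, ← DiagRep.pt_mul_conv]
      exact mul_comm _ _
    let σ : A ⊗[k] A →ₐ[k] A ⊗[k] A := (Algebra.TensorProduct.comm k A A).toAlgHom
    have h1 : UnipSplit.push σ (toConv (Bialgebra.comulAlgHom k A)) = toConv (Bialgebra.comulAlgHom k A) := by
      rw [DiagRep.toConv_comul, UnipSplit.push_mul, h]
      congr 1 <;> exact WithConv.ext (AlgHom.ext fun a => by simp [UnipSplit.push, σ])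
    refine ⟨LinearMap.ext fun a => ?_⟩
    exact DFunLike.congr_fun (congrArg ofConv h1) a
  exact ⟨A, inferInstance, inferInstance, v, inferInstance, inferInstance, inferInstance, inferInstance, inferInstance⟩

/-- A diagonalizable connected group is a torus. -/
theorem isTorus_of_diag {L : Over (Spec (CommRingCat.of k))} [GrpObj L] {A : Type u} [CommRing A] [HopfAlgebra k A]
    [Algebra.FiniteType k A] [IsDomain A] (v : sp k A ≅ L) [IsMonHom v.inv] (h : IsDiagonalizable k A) :
    Red.IsTorus L := by
  obtain ⟨r, ⟨E⟩⟩ := exists_glBasis h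
  obtain ⟨u, hu, hu'⟩ := TorusField.exists_iso_of_basis (DiagRep.monoidAlgebraBasis k (Fin r → ℤ)) E
  obtain ⟨w, hw, hw'⟩ := TorusField.exists_DS_iso k (Fin r → ℤ)
  haveI : IsMonHom (v.symm ≪≫ u ≪≫ w).hom := by dsimp only [Iso.trans_hom, Iso.symm_hom]; infer_instance
  exact isTorus_of_iso L (v.symm ≪≫ u ≪≫ w)

/-- A connected commutative affine algebraic group is a torus or has the additive group as a closed subgroup. -/
theorem isTorus_or_exists_ga (L : Over (Spec (CommRingCat.of k))) [GrpObj L] [IsCommMonObj L] [Smooth L.hom]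
    [ConnectedSpace L.left] [IsAffine L.left] :
    Red.IsTorus L ∨ ∃ j : Red.Ga (Spec (CommRingCat.of k)) ⟶ L, IsMonHom j ∧ IsClosedImmersion j.left := by
  obtain ⟨A, _, _, v, hv, hv', hft, hdom, hcc⟩ := exists_hopf_rep L
  haveI := hv; haveI := hv'; haveI := hft; haveI := hdom; haveI := hcc
  haveI : IsIso v.hom.left := (Over.forget _).map_isIso v.hom
  rcases exists_surjective_to_ga (k := k) (A := A) with h | ⟨φ, hφ⟩
  · exact Or.inl (isTorus_of_diag v h)
  · right
    haveI : IsMonHom (pt (φ : A →ₐ[k] SymmetricAlgebra k k)) := SekSuwa.isMonHom_specHom φ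
    haveI : IsMonHom (asIso (toGa k)).hom := isMonHom_toGa k
    refine ⟨(asIso (toGa k)).inv ≫ pt (φ : A →ₐ[k] SymmetricAlgebra k k) ≫ v.hom, inferInstance, ?_⟩
    haveI : IsIso (asIso (toGa k)).inv.left := (Over.forget _).map_isIso _
    haveI : IsClosedImmersion (pt (φ : A →ₐ[k] SymmetricAlgebra k k)).left := by
      rw [pt_left]
      exact IsClosedImmersion.spec_of_surjective _ hφ
    rw [Over.comp_left, Over.comp_left]
    infer_instance

end SemiAbLib

end
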