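import Groth.Agent.AVAmpleLib.HomDiv
import Groth.Agent.AlbLib.AlgClosed
import Groth.Agent.AntiAffLib.Image

/-!
Dense sets of rational points.
-/

set_option autoImplicit false
set_option linter.style.haveILetI false
set_option backward.isDefEq.respectTransparency false
set_option maxHeartbeats 1000000

noncomputable section

universe u

open CategoryTheory CategoryTheory.Limits MonoidalCategory CartesianMonoidalCategory AlgebraicGeometry
open scoped MonObj

attribute [-instance] CategoryTheory.Hom.commGroup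

namespace SemiAbLib

variable {k : Type u} [Field k]

/-- Morphisms to a separated scheme which agree on a dense set of rational points agree. -/
theorem hom_ext_of_dense {X Z : Over (Spec (CommRingCat.of k))} [IsReduced X.left] [IsSeparated Z.hom]
    (S : Set (𝟙_ (Over (Spec (CommRingCat.of k))) ⟶ X)) (hS : closure (AVAmpleLib.pt '' S) = Set.univ)
    (f g : X ⟶ Z) (h : ∀ a ∈ S, a ≫ f = a ≫ g) : f = g := by
  refine Over.OverMorphism.ext ?_
  let σ : (∐ fun _ : S => Spec (CommRingCat.of k)) ⟶ X.left := Sigma.desc fun a => a.1.left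
  haveI : IsDominant σ := ⟨by
    rw [DenseRange, dense_iff_closure_eq]
    refine Set.eq_univ_of_univ_subset ((hS.symm.le).trans (closure_mono ?_))
    rintro _ ⟨a, ha, rfl⟩
    refine ⟨Sigma.ι (fun _ : S => Spec (CommRingCat.of k)) ⟨a, ha⟩ (IsLocalRing.closedPoint k), ?_⟩
    rw [← Scheme.Hom.comp_apply, Sigma.ι_desc]
    rfl⟩
  refine ext_of_isDominant_of_isSeparated Z.hom (by rw [Over.w, Over.w]) σ ?_
  refine Sigma.hom_ext _ _ fun a => ?_
  rw [Sigma.ι_desc_assoc, Sigma.ι_desc_assoc]
  exact congrArg CommaMorphism.left (h a.1 a.2)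

/-- Homomorphisms trivial on a dense set of rational points are trivial. -/
theorem eq_one_of_dense {X Z : Over (Spec (CommRingCat.of k))} [IsReduced X.left] [GrpObj Z] [IsSeparated Z.hom]
    (S : Set (𝟙_ (Over (Spec (CommRingCat.of k))) ⟶ X)) (hS : closure (AVAmpleLib.pt '' S) = Set.univ)
    (f : X ⟶ Z) (h : ∀ a ∈ S, a ≫ f = 1) : f = 1 :=
  hom_ext_of_dense S hS f 1 fun a ha => by rw [h a ha, MonObj.comp_one]

/-- Rational points of a scheme of finite type over an algebraically closed field are dense. -/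
theorem closure_pt_univ [IsAlgClosed k] (X : Over (Spec (CommRingCat.of k))) [LocallyOfFiniteType X.hom] :
    closure (AVAmpleLib.pt '' (Set.univ : Set (𝟙_ (Over (Spec (CommRingCat.of k))) ⟶ X))) = Set.univ := by
  refine Set.eq_univ_of_forall fun x => mem_closure_iff.2 fun U hU hx => ?_
  obtain ⟨s, hs⟩ := AlbLib.exists_ratPt_mem X ⟨U, hU⟩ ⟨x, hx⟩
  exact ⟨_, hs, ⟨s, trivial, rfl⟩⟩

/-- The power map is a homomorphism of a commutative group. -/
theorem pt_pow {X : Over (Spec (CommRingCat.of k))} [GrpObj X]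
    (a : 𝟙_ (Over (Spec (CommRingCat.of k))) ⟶ X) (n : ℕ) : a ≫ (𝟙 X) ^ n = a ^ n := by
  rw [MonObj.comp_pow, Category.comp_id]

/-- An endomorphism whose image contains all rational points is an epimorphism to separated schemes. -/
theorem cancel_of_pts [IsAlgClosed k] {X Y Z : Over (Spec (CommRingCat.of k))} [IsReduced Y.left]
    [LocallyOfFiniteType Y.hom] [IsSeparated Z.hom] (p : X ⟶ Y)
    (hp : ∀ b : 𝟙_ (Over (Spec (CommRingCat.of k))) ⟶ Y, ∃ a, a ≫ p = b) {f g : Y ⟶ Z} (h : p ≫ f = p ≫ g) :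
    f = g := by
  refine hom_ext_of_dense Set.univ (closure_pt_univ Y) f g fun b _ => ?_
  obtain ⟨a, rfl⟩ := hp b
  rw [Category.assoc, h, Category.assoc]

/-- A nonempty constructible subset of a Jacobson space contains a closed point. -/
theorem exists_closedPoint_of_isConstructible {X : Type*} [TopologicalSpace X] [JacobsonSpace X] {s : Set X}
    (hs : Topology.IsConstructible s) (hne : s.Nonempty) : ∃ x ∈ s, x ∈ closedPoints X := by
  have key : ∀ x : X, (x ∈ s → ∃ U : Set X, IsOpen U ∧ x ∈ U ∧ closure {x} ∩ U ⊆ s) ∧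
      (x ∉ s → ∃ U : Set X, IsOpen U ∧ x ∈ U ∧ closure {x} ∩ U ⊆ sᶜ) := by
    clear hne
    induction hs using Topology.IsConstructible.empty_union_induction with
    | open_retrocompact U hU _ =>
      refine fun x => ⟨fun hx => ⟨U, hU, hx, Set.inter_subset_right⟩,
        fun hx => ⟨Set.univ, isOpen_univ, trivial, fun y hy hyU => hx ?_⟩⟩
      obtain ⟨_, hz, rfl⟩ := mem_closure_iff.1 hy.1 U hU hyU
      exact hz
    | union s _ t _ hs ht =>
      refine fun x => ⟨?_, fun hx => ?_⟩
      · rintro (hx | hx)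
        · obtain ⟨U, h1, h2, h3⟩ := (hs x).1 hx
          exact ⟨U, h1, h2, h3.trans Set.subset_union_left⟩
        · obtain ⟨U, h1, h2, h3⟩ := (ht x).1 hx
          exact ⟨U, h1, h2, h3.trans Set.subset_union_right⟩
      · obtain ⟨U, h1, h2, h3⟩ := (hs x).2 fun h => hx (Or.inl h)
        obtain ⟨V, g1, g2, g3⟩ := (ht x).2 fun h => hx (Or.inr h)
        refine ⟨U ∩ V, h1.inter g1, ⟨h2, g2⟩, fun y hy hst => hst.elim ?_ ?_⟩
        · exact fun h => h3 ⟨hy.1, hy.2.1⟩ h
        · exact fun h => g3 ⟨hy.1, hy.2.2⟩ h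
    | compl s _ hs =>
      refine fun x => ⟨(hs x).2, fun hx => ?_⟩
      rw [compl_compl]
      exact (hs x).1 (not_not.1 hx)
  obtain ⟨x, hx⟩ := hne
  obtain ⟨U, hU, hxU, hsub⟩ := (key x).1 hx
  obtain ⟨y, hy, hyc⟩ := nonempty_inter_closedPoints (Z := closure {x} ∩ U) ⟨x, subset_closure rfl, hxU⟩
    (isClosed_closure.isLocallyClosed.inter hU.isLocallyClosed)
  exact ⟨y, hsub hy, hyc⟩

/-- A morphism hitting all rational points is surjective. -/
theorem surjective_of_pts [IsAlgClosed k] {X Y : Over (Spec (CommRingCat.of k))}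
    [LocallyOfFiniteType X.hom] [QuasiCompact X.hom] [LocallyOfFiniteType Y.hom] [QuasiCompact Y.hom]
    [IsSeparated Y.hom] (p : X ⟶ Y)
    (hp : ∀ b : 𝟙_ (Over (Spec (CommRingCat.of k))) ⟶ Y, ∃ a, a ≫ p = b) : Surjective p.left := by
  haveI : LocallyOfFiniteType (p.left ≫ Y.hom) := by rw [Over.w]; infer_instance
  haveI : LocallyOfFiniteType p.left := locallyOfFiniteType_of_comp p.left Y.hom
  haveI : QuasiCompact (p.left ≫ Y.hom) := by rw [Over.w]; infer_instance
  haveI : QuasiCompact p.left := QuasiCompact.of_comp p.left Y.hom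
  haveI : IsLocallyNoetherian Y.left := LocallyOfFiniteType.isLocallyNoetherian Y.hom
  haveI : LocallyOfFinitePresentation p.left := AntiAffLib.lfp_of_lft p
  haveI : JacobsonSpace Y.left := LocallyOfFiniteType.jacobsonSpace Y.hom
  haveI : CompactSpace Y.left := QuasiCompact.compactSpace_of_compactSpace Y.hom
  refine ⟨fun y => by_contra fun hy => ?_⟩
  obtain ⟨x, hx, hxc⟩ := exists_closedPoint_of_isConstructible
    (p.left.isConstructible_image Topology.IsConstructible.univ).compl
    (show ((p.left '' Set.univ)ᶜ).Nonempty from ⟨y, fun ⟨z, _, hz⟩ => hy ⟨z, hz⟩⟩)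
  obtain ⟨a, ha⟩ := hp (AlbLib.ratPt Y x hxc)
  refine hx ⟨a.left (IsLocalRing.closedPoint k), trivial, ?_⟩
  rw [← Scheme.Hom.comp_apply, ← Over.comp_left, ha]
  exact AlbLib.ratPt_apply Y x hxc _

end SemiAbLib

end
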