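import Groth.Agent.SemiAbLib.Lines
import Groth.Agent.ChevThmLib.PtSub
import Groth.Agent.AVAmpleLib.ReducedSub
import Groth.Agent.S14595

/-!
Stability of semi-abelian varieties under subgroups, isogenies, extensions and quotients.
-/

set_option autoImplicit false
set_option linter.style.haveILetI false
set_option backward.isDefEq.respectTransparency false
set_option maxHeartbeats 1000000

noncomputable section

universe u

open CategoryTheory CategoryTheory.Limits MonoidalCategory CartesianMonoidalCategory AlgebraicGeometry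
open scoped MonObj TensorProduct
open Groth.Agent CoactBr

attribute [-instance] CategoryTheory.Hom.commGroup

namespace SemiAbLib

variable {k : Type u} [Field k] [IsAlgClosed k]

/-- The rational points of the additive group. -/
theorem infinite_ga_points : Infinite (𝟙_ (Over (Spec (CommRingCat.of k))) ⟶ Red.Ga (Spec (CommRingCat.of k))) := by
  refine Infinite.of_injective (fun c : k => GaPts.ptOf (fnHom k (X := 𝟙_ (Over (Spec (CommRingCat.of k)))) c))
    fun c d h => ?_
  have h' := congrArg Red.gaFn h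
  simp only [GaPts.gaFn_ptOf] at h'
  haveI : Nontrivial Γ((𝟙_ (Over (Spec (CommRingCat.of k)))).left, ⊤) :=
    (Scheme.ΓSpecIso (CommRingCat.of k)).commRingCatIsoToRingEquiv.toEquiv.nontrivial
  exact (fnHom k (X := 𝟙_ (Over (Spec (CommRingCat.of k))))).injective h'

omit [IsAlgClosed k] in
/-- The additive group has no torsion of order invertible in the field. -/
theorem ga_torsion_eq_one {n : ℕ} (hn : (n : k) ≠ 0)
    (t : 𝟙_ (Over (Spec (CommRingCat.of k))) ⟶ Red.Ga (Spec (CommRingCat.of k))) (ht : t ^ n = 1) : t = 1 := by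
  refine GaPts.gaFn_injective ?_
  show Red.gaFn t = Red.gaFn (1 : 𝟙_ (Over (Spec (CommRingCat.of k))) ⟶ Red.Ga (Spec (CommRingCat.of k)))
  rw [GaPts.gaFn_one]
  have h : ∀ m : ℕ, Red.gaFn (t ^ m) = m • Red.gaFn t := fun m => by
    induction m with
    | zero => rw [pow_zero, GaPts.gaFn_one, zero_smul]
    | succ m ih => rw [pow_succ, GaPts.gaFn_mul, ih, succ_nsmul]
  have h0 := h n
  rw [ht, GaPts.gaFn_one, nsmul_eq_mul] at h0
  have hu : IsUnit ((n : ℕ) : Γ((𝟙_ (Over (Spec (CommRingCat.of k)))).left, ⊤)) := by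
    rw [← map_natCast (fnHom k (X := 𝟙_ (Over (Spec (CommRingCat.of k))))) n]
    exact (isUnit_iff_ne_zero.2 hn).map _
  exact hu.mul_right_eq_zero.1 h0.symm

/-- A closed immersion from the additive group is not constant. -/
theorem ne_one_of_isClosedImmersion {G : Over (Spec (CommRingCat.of k))} [GrpObj G]
    (j : Red.Ga (Spec (CommRingCat.of k)) ⟶ G) [IsClosedImmersion j.left] : j ≠ 1 := by
  haveI : Mono j := Over.mono_of_mono_left j
  intro h
  haveI := infinite_ga_points (k := k)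
  obtain ⟨a, b, hab⟩ := exists_pair_ne (𝟙_ (Over (Spec (CommRingCat.of k))) ⟶ Red.Ga (Spec (CommRingCat.of k)))
  exact hab (by rw [← cancel_mono j, h, MonObj.comp_one, MonObj.comp_one])

/-- A connected commutative group without non-trivial maps from the additive group is semi-abelian. -/
theorem isSemiAb_of_hom_ga {G : Over (Spec (CommRingCat.of k))} [GrpObj G] [IsCommMonObj G] [Smooth G.hom]
    [QuasiCompact G.hom] [ConnectedSpace G.left]
    (h : ∀ j : Red.Ga (Spec (CommRingCat.of k)) ⟶ G, IsMonHom j → j = 1) : IsSemiAb G :=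
  isSemiAb_of_no_ga fun j hj hjc => by
    haveI := hjc
    exact ne_one_of_isClosedImmersion j (h j hj)

variable {G H : Over (Spec (CommRingCat.of k))} [GrpObj G] [GrpObj H]

/-- A smooth connected subgroup of a semi-abelian variety is semi-abelian. -/
theorem IsSemiAb.sub [LocallyOfFiniteType G.hom] [QuasiCompact G.hom] (hG : IsSemiAb G) [Smooth H.hom]
    [QuasiCompact H.hom] [ConnectedSpace H.left] (i : H ⟶ G) [IsMonHom i] [IsClosedImmersion i.left] :
    IsSemiAb H := by
  haveI : Mono i := Over.mono_of_mono_left i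
  haveI := hG.comm.2
  haveI : IsCommMonObj H := AntiAffLib.CommCat.isComm_of_mono i
  refine isSemiAb_of_hom_ga fun j hj => ?_
  haveI := hj
  rw [← cancel_mono i, MonObj.one_comp]
  exact hG.eq_one_of_ga (j ≫ i)

/-- A map from a variety to a finite scheme is constant. -/
theorem eq_one_of_finite {X N : Over (Spec (CommRingCat.of k))} [IsIntegral X.left] [LocallyOfFiniteType X.hom]
    [GrpObj N] [IsFinite N.hom] (c : X ⟶ N) (x₀ : 𝟙_ (Over (Spec (CommRingCat.of k))) ⟶ X) (h : x₀ ≫ c = 1) :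
    c = 1 := by
  haveI : Subsingleton ↥(Spec (CommRingCat.of k)) := inferInstanceAs (Subsingleton (PrimeSpectrum k))
  have hd : _root_.IsDiscrete (N.hom ⁻¹' {IsLocalRing.closedPoint k}) := N.hom.isDiscrete_preimage_singleton _
  haveI : DiscreteTopology N.left := by
    rw [show N.hom ⁻¹' {IsLocalRing.closedPoint k} = Set.univ from
      Set.eq_univ_of_forall fun x => @Subsingleton.elim (PrimeSpectrum k) _ _ _] at hd
    exact isDiscrete_univ_iff.1 hd
  haveI : PreconnectedSpace X.left := inferInstance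
  have hc : ∀ x, c.left x = c.left (AVAmpleLib.pt x₀) := fun x =>
    PreconnectedSpace.constant inferInstance c.left.continuous
  refine hom_ext_of_dense Set.univ (closure_pt_univ X) c 1 fun s _ => ?_
  rw [MonObj.comp_one]
  refine Over.OverMorphism.ext (ext_of_apply_closedPoint_eq N.hom (Over.w _) (Over.w _) ?_)
  have h1 := congrArg (fun m : 𝟙_ (Over (Spec (CommRingCat.of k))) ⟶ N => m.left (IsLocalRing.closedPoint k)) h
  show c.left (s.left (IsLocalRing.closedPoint k)) = _
  rw [hc]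
  exact h1

omit [IsAlgClosed k] in
/-- A kernel is a monomorphism. -/
theorem kernel_mono {N X Q : Over (Spec (CommRingCat.of k))} [GrpObj Q] {n : N ⟶ X} {f : X ⟶ Q}
    (hker : AlgGrp.IsKernel n f) : Mono n :=
  ⟨fun {Z} a b h => hker.hom_ext h (toUnit_unique _ _)⟩

/-- A group with a finite kernel map to a semi-abelian variety is semi-abelian. -/
theorem IsSemiAb.of_finite_kernel [LocallyOfFiniteType H.hom] [QuasiCompact H.hom] (hH : IsSemiAb H) [Smooth G.hom]
    [QuasiCompact G.hom] [ConnectedSpace G.left] (f : G ⟶ H) [IsMonHom f]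
    {N : Over (Spec (CommRingCat.of k))} [GrpObj N] (n : N ⟶ G) [IsMonHom n] [IsFinite N.hom]
    (hker : AlgGrp.IsKernel n f) : IsSemiAb G := by
  haveI := hH.comm.2
  letI : CommGroup (G ⊗ G ⟶ H) := Hom.commGroup
  haveI := AlbLib.geometricallyIntegral_grp G
  haveI : IsIntegral G.left := GeometricallyIntegral.isIntegral_of_subsingleton G.hom
  haveI : IsIntegral (G ⊗ G).left := AlbLib.isIntegral_tensor G G
  haveI : LocallyOfFiniteType (G ⊗ G).hom :=
    inferInstanceAs (LocallyOfFiniteType (pullback.fst G.hom G.hom ≫ G.hom))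
  let C : G ⊗ G ⟶ G := fst G G * snd G G * (fst G G)⁻¹ * (snd G G)⁻¹
  obtain ⟨F, hF⟩ := AntiAffLib.exists_lift_kernel hker C (by
    simp only [C, MonObj.mul_comp, GrpObj.inv_comp]
    rw [mul_comm (fst G G ≫ f) (snd G G ≫ f), _root_.mul_assoc (snd G G ≫ f) (fst G G ≫ f), mul_inv_cancel,
      _root_.mul_one, mul_inv_cancel])
  have hF0 : lift η[G] η[G] ≫ C = 1 := by
    simp [C, MonObj.comp_mul, GrpObj.comp_inv, MonObj.one_eq_one]
  have h2 : C = 1 := by
    haveI : IsSeparated G.hom := GrpField.isSeparated_grp (G := G)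
    have hm : Mono n := kernel_mono hker
    rw [← hF, eq_one_of_finite F (lift η[G] η[G]) (by
      rw [← cancel_mono n, Category.assoc, hF, hF0, MonObj.one_comp]), MonObj.one_comp]
  haveI : IsCommMonObj G := ⟨by
    have h3 : fst G G * snd G G = snd G G * fst G G :=
      eq_mul_of_mul_inv_eq (eq_of_mul_inv_eq_one h2)
    have hb : (β_ G G).hom = lift (snd G G) (fst G G) := CartesianMonoidalCategory.hom_ext _ _ (by simp) (by simp)
    have hm : μ[G] = fst G G * snd G G := by rw [Hom.mul_def, lift_fst_snd, Category.id_comp]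
    rw [hb]
    show lift (snd G G) (fst G G) ≫ μ[G] = μ[G]
    conv_rhs => rw [hm, h3]
    rw [Hom.mul_def]⟩
  refine isSemiAb_of_no_ga fun j hj hjc => ?_
  haveI := hj; haveI := hjc
  obtain ⟨l, rfl⟩ := AntiAffLib.exists_lift_kernel hker j (hH.eq_one_of_ga (j ≫ f))
  let L := sp k (SymmetricAlgebra k k)
  haveI := finiteType_symm (k := k) k
  haveI : LocallyOfFiniteType L.hom := AlbLib.lft_sp _
  haveI : IsIntegral L.left := inferInstanceAs (IsIntegral (Spec (CommRingCat.of (SymmetricAlgebra k k))))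
  haveI : Mono n := kernel_mono hker
  have h5 : toGa k ≫ l = 1 := eq_one_of_finite _ η[L] (by
    have h6 : (η[L] ≫ toGa k) ≫ l ≫ n = 1 := by
      rw [IsMonHom.one_hom, IsMonHom.one_hom, MonObj.one_eq_one]
    rw [← cancel_mono n, MonObj.one_comp, ← h6]
    simp only [Category.assoc])
  refine ne_one_of_isClosedImmersion (l ≫ n) ?_
  rw [← cancel_epi (toGa k), ← Category.assoc, h5, MonObj.one_comp, MonObj.comp_one]

/-- An extension of semi-abelian varieties is semi-abelian. -/
theorem IsSemiAb.extension {G' : Over (Spec (CommRingCat.of k))} [GrpObj G'] [LocallyOfFiniteType G'.hom]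
    [QuasiCompact G'.hom] (hG' : IsSemiAb G') [LocallyOfFiniteType H.hom] [QuasiCompact H.hom] (hH : IsSemiAb H)
    [Smooth G.hom] [QuasiCompact G.hom] [ConnectedSpace G.left] (i : G' ⟶ G) [IsMonHom i] (f : G ⟶ H) [IsMonHom f]
    (hker : AlgGrp.IsKernel i f) : IsSemiAb G := by
  haveI := hH.comm.2
  haveI : Mono i := kernel_mono hker
  letI : CommGroup (G ⊗ G ⟶ H) := Hom.commGroup
  haveI := AlbLib.geometricallyIntegral_grp G
  haveI : IsSeparated G.hom := GrpField.isSeparated_grp (G := G)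
  let C : G ⊗ G ⟶ G := fst G G * snd G G * (fst G G)⁻¹ * (snd G G)⁻¹
  obtain ⟨F, hF⟩ := AntiAffLib.exists_lift_kernel hker C (by
    simp only [C, MonObj.mul_comp, GrpObj.inv_comp]
    rw [mul_comm (fst G G ≫ f) (snd G G ≫ f), _root_.mul_assoc (snd G G ≫ f) (fst G G ≫ f), mul_inv_cancel,
      _root_.mul_one, mul_inv_cancel])
  have hX : lift (𝟙 G) (toUnit G ≫ η[G]) ≫ F = 1 := by
    rw [← cancel_mono i, Category.assoc, hF, MonObj.one_comp]
    simp [C, MonObj.comp_mul, GrpObj.comp_inv, ← Hom.one_def]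
  have hY : lift (toUnit G ≫ η[G]) (𝟙 G) ≫ F = 1 := by
    rw [← cancel_mono i, Category.assoc, hF, MonObj.one_comp]
    simp [C, MonObj.comp_mul, GrpObj.comp_inv, ← Hom.one_def]
  have h0 : lift η[G] η[G] ≫ F = 1 := by
    rw [← cancel_mono i, Category.assoc, hF, MonObj.one_comp]
    simp [C, MonObj.comp_mul, GrpObj.comp_inv, MonObj.one_eq_one]
  have hF1 : F = 1 := by
    have h := Groth.Agent.S14595.result k G G G' hG' η[G] η[G] F
    simpa [hX, hY, h0] using h
  have h2 : C = 1 := by rw [← hF, hF1, MonObj.one_comp]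
  haveI : IsCommMonObj G := ⟨by
    have h3 : fst G G * snd G G = snd G G * fst G G :=
      eq_mul_of_mul_inv_eq (eq_of_mul_inv_eq_one h2)
    have hb : (β_ G G).hom = lift (snd G G) (fst G G) := CartesianMonoidalCategory.hom_ext _ _ (by simp) (by simp)
    have hm : μ[G] = fst G G * snd G G := by rw [Hom.mul_def, lift_fst_snd, Category.id_comp]
    rw [hb]
    show lift (snd G G) (fst G G) ≫ μ[G] = μ[G]
    conv_rhs => rw [hm, h3]
    rw [Hom.mul_def]⟩
  refine isSemiAb_of_hom_ga fun j hj => ?_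
  haveI := hj
  obtain ⟨l, rfl⟩ := AntiAffLib.exists_lift_kernel hker j (hH.eq_one_of_ga (j ≫ f))
  haveI : IsMonHom l := DiagRep.isMonHom_of_comp_mono l i
  rw [hG'.eq_one_of_ga l, MonObj.one_comp]

/-- A connected quotient of a semi-abelian variety is semi-abelian. -/
theorem IsSemiAb.quotient [LocallyOfFiniteType G.hom] [QuasiCompact G.hom] (hG : IsSemiAb G) [Smooth H.hom]
    [QuasiCompact H.hom] [ConnectedSpace H.left] (f : G ⟶ H) [IsMonHom f] [Surjective f.left] : IsSemiAb H := by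
  haveI := hG.smooth
  haveI := hG.comm.2
  haveI : IsSeparated H.hom := GrpField.isSeparated_grp (G := H)
  haveI : IsSeparated G.hom := GrpField.isSeparated_grp (G := G)
  haveI : IsReduced H.left := AlgSpLib.isReduced_of_smooth H.hom
  haveI : Flat f.left := AntiAffLib.flat_of_surjective f
  haveI := AntiAffLib.lfp_of_lft f
  haveI : IsCommMonObj H := AntiAffLib.CommCat.isComm_of_epi f
  refine isSemiAb_of_no_ga fun j hj hjc => ?_
  haveI := hj; haveI := hjc
  haveI : Mono j := Over.mono_of_mono_left j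
  let S : Set (𝟙_ (Over (Spec (CommRingCat.of k))) ⟶ G) := {g | ∃ t, t ≫ j = g ≫ f}
  obtain ⟨B, _, b, hb, hbc, hbr, hbl, hrange⟩ := AVAmpleLib.exists_reduced_subgroup S
    ⟨1, by rw [MonObj.one_comp, MonObj.one_comp]⟩
    (fun a ⟨s, hs⟩ a' ⟨s', hs'⟩ => ⟨s * s', by rw [MonObj.mul_comp, MonObj.mul_comp, hs, hs']⟩)
    (fun a ⟨s, hs⟩ => ⟨s⁻¹, by rw [GrpObj.inv_comp, GrpObj.inv_comp, hs]⟩)
  haveI := hb; haveI := hbc; haveI := hbr; haveI := hbl
  haveI : Smooth B.hom := GrpSchLib.smooth_of_isAlgClosed_of_isReduced B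
  haveI : QuasiCompact B.hom := by rw [← Over.w b]; infer_instance
  have hsub : Set.range (b ≫ f).left ⊆ Set.range j.left := by
    rintro _ ⟨x, rfl⟩
    rw [Over.comp_left, Scheme.Hom.comp_apply]
    have hx : b.left x ∈ closure (AVAmpleLib.pt '' S) := hrange ▸ ⟨x, rfl⟩
    refine closure_minimal ?_ ((j.left.isClosedEmbedding.isClosed_range).preimage f.left.continuous) hx
    rintro _ ⟨g, ⟨t, ht⟩, rfl⟩
    exact ⟨t.left (IsLocalRing.closedPoint k),
      congrArg (fun m : 𝟙_ (Over (Spec (CommRingCat.of k))) ⟶ H => m.left (IsLocalRing.closedPoint k)) ht⟩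
  obtain ⟨l₀, hl₀⟩ := AVAmpleLib.exists_lift_of_reduced j.left (b ≫ f).left hsub
  let l : B ⟶ Red.Ga (Spec (CommRingCat.of k)) := Over.homMk l₀ (by rw [← Over.w j, reassoc_of% hl₀, Over.w])
  have hl : l ≫ j = b ≫ f := Over.OverMorphism.ext hl₀
  haveI : IsMonHom (l ≫ j) := hl ▸ inferInstance
  haveI : IsMonHom l := DiagRep.isMonHom_of_comp_mono l j
  obtain ⟨B0, _, i₀, hi₀, hi₀c, -, hB0s, hB0q, -, hB0c, -, s, hs⟩ := ChevThmLib.exists_component' B
  haveI := hi₀; haveI := hi₀c; haveI := hB0s; haveI := hB0q; haveI := hB0c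
  haveI : IsClosedImmersion (i₀ ≫ b).left := by rw [Over.comp_left]; infer_instance
  have hB0 : IsSemiAb B0 := hG.sub (i₀ ≫ b)
  obtain ⟨l', hl', hlk⟩ : ∃ m : ℕ, Fact m.Prime ∧ (m : k) ≠ 0 := by
    rcases CharP.exists k with ⟨p, hp⟩
    by_cases h2 : p = 2
    · subst h2
      exact ⟨3, ⟨Nat.prime_three⟩, fun h => absurd ((CharP.cast_eq_zero_iff k 2 3).1 h) (by norm_num)⟩
    · refine ⟨2, ⟨Nat.prime_two⟩, fun h => ?_⟩
      have := (CharP.cast_eq_zero_iff k p 2).1 h
      rcases Nat.prime_two.eq_one_or_self_of_dvd p this with h1 | h1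
      · exact CharP.ringChar_ne_one (R := k) (by rw [← h1]; exact (ringChar.eq k p).symm ▸ rfl)
      · exact h2 h1
  have hz : i₀ ≫ l = 1 := by
    haveI : IsSeparated (Red.Ga (Spec (CommRingCat.of k))).hom := GrpField.isSeparated_grp
    refine hB0.eq_one_of_torsion l' hlk _ fun a ⟨m, ha⟩ => ga_torsion_eq_one (n := l' ^ m)
      (by rw [Nat.cast_pow]; exact pow_ne_zero _ hlk) _ ?_
    rw [← MonObj.pow_comp, ha, MonObj.one_comp]
  refine (infinite_ga_points (k := k)).not_finite ?_
  refine Finite.of_surjective (fun c : s => (c : 𝟙_ (Over (Spec (CommRingCat.of k))) ⟶ B) ≫ l) fun t => ?_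
  obtain ⟨g, hg⟩ := AVAmpleLib.exists_pt_lift f (t ≫ j)
  have hgB : ∃ β : 𝟙_ (Over (Spec (CommRingCat.of k))) ⟶ B, β ≫ b = g := by
    obtain ⟨x, hx⟩ : AVAmpleLib.pt g ∈ Set.range b.left := hrange ▸ subset_closure ⟨g, ⟨t, hg.symm⟩, rfl⟩
    haveI : IsReduced (𝟙_ (Over (Spec (CommRingCat.of k)))).left :=
      inferInstanceAs (IsReduced (Spec (CommRingCat.of k)))
    obtain ⟨β, hβ⟩ := AVAmpleLib.exists_lift_of_reduced b.left g.left (by
      rw [AVAmpleLib.range_pt g]; exact Set.singleton_subset_iff.2 ⟨x, hx⟩)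
    exact ⟨Over.homMk β (by rw [← Over.w b, reassoc_of% hβ, Over.w]), Over.OverMorphism.ext hβ⟩
  obtain ⟨β, hβ⟩ := hgB
  obtain ⟨c, hc, e, he⟩ := hs β
  refine ⟨⟨c, hc⟩, ?_⟩
  show c ≫ l = t
  have hβl : β ≫ l = c ≫ l := by
    rw [← he, MonObj.mul_comp, Category.assoc, hz, MonObj.comp_one, _root_.one_mul]
  rw [← hβl, ← cancel_mono j, Category.assoc, hl, reassoc_of% hβ, hg]

end SemiAbLib

end
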