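import Groth.Agent.SemiAbLib.BaseChange
import Groth.Agent.SemiAbLib.Stability

/-!
Semi-abelian varieties over an arbitrary field: sub, quotient, extension.
-/

set_option autoImplicit false
set_option linter.style.haveILetI false
set_option backward.isDefEq.respectTransparency false
set_option maxHeartbeats 1000000

noncomputable section

universe u

open CategoryTheory CategoryTheory.Limits MonoidalCategory CartesianMonoidalCategory AlgebraicGeometry
open scoped MonObj
open Groth.Agent AVAmpleLib

attribute [-instance] CategoryTheory.Hom.commGroup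

namespace SemiAbLib

variable {k : Type u} [Field k]

local notation "𝔅" => AVAmpleLib.bcF (k := k) (AlgebraicClosure k)

local instance grpB₄ (Z : Over (Spec (CommRingCat.of k))) [GrpObj Z] : GrpObj ((𝔅).obj Z) := Functor.grpObjObj

local instance qcB₄ (Z : Over (Spec (CommRingCat.of k))) [QuasiCompact Z.hom] : QuasiCompact ((𝔅).obj Z).hom :=
  inferInstanceAs (QuasiCompact (pullback.snd Z.hom _))

local instance lftB₄ (Z : Over (Spec (CommRingCat.of k))) [LocallyOfFiniteType Z.hom] :
    LocallyOfFiniteType ((𝔅).obj Z).hom :=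
  inferInstanceAs (LocallyOfFiniteType (pullback.snd Z.hom _))

local instance smB₄ (Z : Over (Spec (CommRingCat.of k))) [Smooth Z.hom] : Smooth ((𝔅).obj Z).hom :=
  inferInstanceAs (Smooth (pullback.snd Z.hom _))

/-- The geometric fibre of a connected group variety is connected. -/
theorem connected_bc (Z : Over (Spec (CommRingCat.of k))) [GrpObj Z] [Smooth Z.hom] [QuasiCompact Z.hom]
    [ConnectedSpace Z.left] : ConnectedSpace ((𝔅).obj Z).left := by
  haveI := AlbLib.geometricallyIntegral_grp Z
  haveI : GeometricallyIntegral ((𝔅).obj Z).hom := inferInstanceAs (GeometricallyIntegral (pullback.snd Z.hom _))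
  exact AlbLib.connectedSpace_gi _

/-- A semi-abelian variety is a smooth connected algebraic group. -/
theorem IsSemiAb.props {G : Over (Spec (CommRingCat.of k))} [GrpObj G] [LocallyOfFiniteType G.hom]
    [QuasiCompact G.hom] (hG : IsSemiAb G) : Smooth G.hom ∧ ConnectedSpace G.left := by
  have hB := isSemiAb_bc (AlgebraicClosure k) hG
  haveI : GeometricallyIntegral ((𝔅).obj G).hom := hB.comm.1
  haveI hs : Smooth (pullback.snd G.hom (Spec.map (CommRingCat.ofHom (algebraMap k (AlgebraicClosure k))))) :=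
    hB.smooth
  haveI : Surjective (Spec.map (CommRingCat.ofHom (algebraMap k (AlgebraicClosure k)))) := surjective_spec _
  haveI : Flat (Spec.map (CommRingCat.ofHom (algebraMap k (AlgebraicClosure k)))) := GrpField.flat_field _
  haveI : QuasiCompact (Spec.map (CommRingCat.ofHom (algebraMap k (AlgebraicClosure k)))) :=
    quasiCompact_of_compactSpace _
  refine ⟨MorphismProperty.of_pullback_snd_of_descendsAlong (P := @Smooth) (Q := @Surjective ⊓ @Flat ⊓ @QuasiCompact)
      (g := Spec.map (CommRingCat.ofHom (algebraMap k (AlgebraicClosure k))))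
      ⟨⟨inferInstance, inferInstance⟩, inferInstance⟩ hs, ?_⟩
  haveI : ConnectedSpace ((𝔅).obj G).left := AlbLib.connectedSpace_gi _
  haveI : ConnectedSpace ↥(pullback G.hom (Spec.map (CommRingCat.ofHom (algebraMap k (AlgebraicClosure k))))) :=
    ‹ConnectedSpace ((𝔅).obj G).left›
  haveI : Surjective (pullback.fst G.hom (Spec.map (CommRingCat.ofHom (algebraMap k (AlgebraicClosure k))))) :=
    MorphismProperty.pullback_fst _ _ inferInstance
  exact (pullback.fst G.hom (Spec.map (CommRingCat.ofHom (algebraMap k (AlgebraicClosure k))))).surjective.connectedSpace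
    (pullback.fst G.hom (Spec.map (CommRingCat.ofHom (algebraMap k (AlgebraicClosure k))))).continuous

variable {G H : Over (Spec (CommRingCat.of k))} [GrpObj G] [GrpObj H]

/-- A connected smooth closed subgroup of a semi-abelian variety is semi-abelian. -/
theorem IsSemiAb.sub' [LocallyOfFiniteType G.hom] [QuasiCompact G.hom] (hG : IsSemiAb G) [Smooth H.hom] [QuasiCompact H.hom] [ConnectedSpace H.left] (i : H ⟶ G)
    [IsMonHom i] [IsClosedImmersion i.left] : IsSemiAb H := by
  obtain ⟨hs, -⟩ := hG.props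
  haveI := hs
  haveI : IsMonHom ((𝔅).map i) := @Functor.map.instIsMonHom _ _ _ _ _ _ (𝔅) _ _ _ _ _ i _
  haveI := isClosedImmersion_map (AlgebraicClosure k) i
  haveI := connected_bc H
  exact isSemiAb_of_bc (AlgebraicClosure k) H
    (IsSemiAb.sub (G := (𝔅).obj G) (isSemiAb_bc (AlgebraicClosure k) hG) ((𝔅).map i))

/-- A quotient of a semi-abelian variety is semi-abelian. -/
theorem IsSemiAb.quotient' [LocallyOfFiniteType G.hom] [QuasiCompact G.hom] (hG : IsSemiAb G) [Smooth H.hom] [QuasiCompact H.hom] [ConnectedSpace H.left] (f : G ⟶ H)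
    [IsMonHom f] [Surjective f.left] : IsSemiAb H := by
  obtain ⟨hs, -⟩ := hG.props
  haveI := hs
  haveI : IsMonHom ((𝔅).map f) := @Functor.map.instIsMonHom _ _ _ _ _ _ (𝔅) _ _ _ _ _ f _
  haveI : Surjective ((𝔅).map f).left :=
    MorphismProperty.of_isPullback (P := @Surjective) (AVAmpleLib.isPullback_bc _ f) ‹_›
  haveI := connected_bc H
  exact isSemiAb_of_bc (AlgebraicClosure k) H
    (IsSemiAb.quotient (G := (𝔅).obj G) (isSemiAb_bc (AlgebraicClosure k) hG) ((𝔅).map f))

/-- An extension of semi-abelian varieties is semi-abelian. -/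
theorem IsSemiAb.extension' {N : Over (Spec (CommRingCat.of k))} [GrpObj N] [LocallyOfFiniteType N.hom] [QuasiCompact N.hom]
    (hN : IsSemiAb N) [LocallyOfFiniteType H.hom] [QuasiCompact H.hom] (hH : IsSemiAb H)
    [Smooth G.hom] [QuasiCompact G.hom] [ConnectedSpace G.left] (i : N ⟶ G) [IsMonHom i] (f : G ⟶ H) [IsMonHom f]
    (hker : AlgGrp.IsKernel i f) : IsSemiAb G := by
  obtain ⟨hs, -⟩ := hN.props
  obtain ⟨hs', -⟩ := hH.props
  haveI := hs; haveI := hs'
  haveI : IsMonHom ((𝔅).map f) := @Functor.map.instIsMonHom _ _ _ _ _ _ (𝔅) _ _ _ _ _ f _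
  haveI : IsMonHom ((𝔅).map i) := @Functor.map.instIsMonHom _ _ _ _ _ _ (𝔅) _ _ _ _ _ i _
  haveI := connected_bc G
  exact isSemiAb_of_bc (AlgebraicClosure k) G
    (IsSemiAb.extension (G' := (𝔅).obj N) (isSemiAb_bc (AlgebraicClosure k) hN) (H := (𝔅).obj H)
      (isSemiAb_bc (AlgebraicClosure k) hH) (G := (𝔅).obj G) ((𝔅).map i) ((𝔅).map f)
      (isKernel_map _ hker))

/-- The trivial group is semi-abelian. -/
theorem isSemiAb_unit : IsSemiAb (𝟙_ (Over (Spec (CommRingCat.of k)))) := by
  haveI : Smooth (𝟙_ (Over (Spec (CommRingCat.of k)))).hom := inferInstanceAs (Smooth (𝟙 _))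
  haveI : QuasiCompact (𝟙_ (Over (Spec (CommRingCat.of k)))).hom := inferInstanceAs (QuasiCompact (𝟙 _))
  haveI : ConnectedSpace (𝟙_ (Over (Spec (CommRingCat.of k)))).left :=
    inferInstanceAs (ConnectedSpace (PrimeSpectrum k))
  haveI := connected_bc (𝟙_ (Over (Spec (CommRingCat.of k))))
  haveI hsub : ∀ T, Subsingleton (T ⟶ (𝔅).obj (𝟙_ (Over (Spec (CommRingCat.of k))))) := fun T => ⟨fun a b => by
    refine (cancel_mono (Functor.OplaxMonoidal.η (𝔅))).1 ?_
    exact toUnit_unique _ _⟩
  haveI : IsCommMonObj ((𝔅).obj (𝟙_ (Over (Spec (CommRingCat.of k))))) := ⟨Subsingleton.elim _ _⟩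
  exact isSemiAb_of_bc (AlgebraicClosure k) _ (isSemiAb_of_hom_ga fun j _ => Subsingleton.elim _ _)

end SemiAbLib

end
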