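import Groth.Agent.SemiAbLib.Descent
import Groth.Agent.SemiAbLib.Lines
import Groth.Agent.AlbLib.Albanese
import Groth.Agent.ChevThmLib.DescentGen
import Groth.Agent.ChevThmLib.PtSub

/-!
A group which becomes semi-abelian over an algebraically closed extension is semi-abelian.
-/

set_option autoImplicit false
set_option linter.style.haveILetI false
set_option backward.isDefEq.respectTransparency false
set_option maxHeartbeats 1000000

noncomputable section

universe u

open CategoryTheory CategoryTheory.Limits MonoidalCategory CartesianMonoidalCategory AlgebraicGeometry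
open scoped MonObj
open Groth.Agent AVAmpleLib

attribute [-instance] CategoryTheory.Hom.commGroup

namespace SemiAbLib

variable {k : Type u} [Field k] (K : Type u) [Field K] [Algebra k K]

local notation "𝔅" => AVAmpleLib.bcF (k := k) K

local instance grpB' (Z : Over (Spec (CommRingCat.of k))) [GrpObj Z] : GrpObj ((𝔅).obj Z) := Functor.grpObjObj

local instance commB' (Z : Over (Spec (CommRingCat.of k))) [GrpObj Z] [IsCommMonObj Z] : IsCommMonObj ((𝔅).obj Z) :=
  Functor.isCommMonObj_obj (F := 𝔅)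

/-- A group which becomes a torus over an algebraically closed field is a torus. -/
theorem isTorus_of_bc [IsAlgClosed K] {T : Over (Spec (CommRingCat.of k))} [GrpObj T]
    {R : Over (Spec (CommRingCat.of K))} [GrpObj R] (hR : Red.IsTorus R) (e : (𝔅).obj T ≅ R) [IsMonHom e.hom] :
    Red.IsTorus T := by
  obtain ⟨r, v, hv, hv'⟩ := exists_laurent_iso hR
  obtain ⟨w, hw, hw'⟩ := TorusField.exists_DS_iso K (Fin r → ℤ)
  let ξ : Spec (CommRingCat.of K) ⟶ Spec (CommRingCat.of k) := Spec.map (CommRingCat.ofHom (algebraMap k K))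
  refine ⟨Spec (CommRingCat.of K), ξ, GrpField.flat_field _, surjective_spec K, fun V hV => ?_, fun s' => ?_⟩
  · refine ⟨ξ ⁻¹ᵁ V, ?_, ?_⟩
    · haveI : Subsingleton ↥(Spec (CommRingCat.of K)) := inferInstanceAs (Subsingleton (PrimeSpectrum K))
      exact Set.Subsingleton.isCompact (Set.subsingleton_of_subsingleton)
    · exact Set.image_preimage_eq _ (surjective_spec (k := k) K).surj
  refine ⟨⊤, trivial, r, ?_⟩
  obtain ⟨e2, he2⟩ := AlbLib.exists_DS_bc (⊤ : (Spec (CommRingCat.of K)).Opens).ι (Fin r → ℤ)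
  obtain ⟨θ, hθ⟩ := AlbLib.exists_bc_comp (⊤ : (Spec (CommRingCat.of K)).Opens).ι ξ T
  let f : (𝔅).obj T ≅ Red.DS _ (Fin r → ℤ) := e ≪≫ v.symm ≪≫ w
  haveI : IsMonHom f.hom := by dsimp only [f, Iso.trans_hom, Iso.symm_hom]; infer_instance
  let j : Red.bc ((⊤ : (Spec (CommRingCat.of K)).Opens).ι ≫ ξ) T ≅ Red.DS _ (Fin r → ℤ) :=
    θ ≪≫ (Over.pullback (⊤ : (Spec (CommRingCat.of K)).Opens).ι).mapIso f ≪≫ e2.symm
  haveI : IsMonHom ((Over.pullback (⊤ : (Spec (CommRingCat.of K)).Opens).ι).mapIso f).hom :=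
    @Functor.map.instIsMonHom _ _ _ _ _ _ (Over.pullback (⊤ : (Spec (CommRingCat.of K)).Opens).ι) _ _ _ _ _ f.hom _
  haveI := hθ
  haveI := he2
  haveI : IsMonHom j.hom := by dsimp only [j, Iso.trans_hom, Iso.symm_hom]; infer_instance
  exact ⟨Grp.mkIso j (IsMonHom.one_hom j.hom) (IsMonHom.mul_hom j.hom)⟩

/-- Base change takes kernels to kernels. -/
theorem exists_lift_map {N G Q : Over (Spec (CommRingCat.of k))} [GrpObj Q] {i : N ⟶ G} {q : G ⟶ Q}
    (h : AlgGrp.IsKernel i q) {T : Over (Spec (CommRingCat.of K))} (g : T ⟶ (𝔅).obj G) (hg : g ≫ (𝔅).map q = 1) :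
    ∃ l : T ⟶ (𝔅).obj N, l ≫ (𝔅).map i = g := by
  have hP := h.map (𝔅)
  refine ⟨hP.lift g (toUnit T ≫ Functor.LaxMonoidal.ε (𝔅)) ?_, hP.lift_fst _ _ _⟩
  rw [hg, Hom.one_def, Category.assoc]
  rfl

theorem map_one_pt {X Y : Over (Spec (CommRingCat.of k))} [GrpObj Y] : (𝔅).map (1 : X ⟶ Y) = 1 :=
  map_one (Functor.homMonoidHom (𝔅) : (X ⟶ Y) →* _)

variable [IsAlgClosed K]

theorem isSemiAb_of_bc (G : Over (Spec (CommRingCat.of k))) [GrpObj G] [LocallyOfFiniteType G.hom]
    [QuasiCompact G.hom] (hG : IsSemiAb ((𝔅).obj G)) : IsSemiAb G := by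
  haveI hξ := surjective_spec (k := k) K
  haveI : Flat (Spec.map (CommRingCat.ofHom (algebraMap k K))) := GrpField.flat_field _
  haveI : QuasiCompact (Spec.map (CommRingCat.ofHom (algebraMap k K))) := quasiCompact_of_compactSpace _
  haveI : LocallyOfFiniteType ((𝔅).obj G).hom := inferInstanceAs (LocallyOfFiniteType (pullback.snd G.hom _))
  haveI : QuasiCompact ((𝔅).obj G).hom := inferInstanceAs (QuasiCompact (pullback.snd G.hom _))
  obtain ⟨hGI, hcomm⟩ := hG.comm
  haveI := hGI
  haveI := hG.smooth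
  haveI : Smooth (pullback.snd G.hom (Spec.map (CommRingCat.ofHom (algebraMap k K)))) := hG.smooth
  haveI hGs : Smooth G.hom :=
    MorphismProperty.of_pullback_snd_of_descendsAlong (P := @Smooth) (Q := @Surjective ⊓ @Flat ⊓ @QuasiCompact)
      (g := Spec.map (CommRingCat.ofHom (algebraMap k K))) ⟨⟨inferInstance, inferInstance⟩, inferInstance⟩ ‹_›
  haveI : ConnectedSpace ((𝔅).obj G).left := AlbLib.connectedSpace_gi _
  haveI hfst : Surjective (pullback.fst G.hom (Spec.map (CommRingCat.ofHom (algebraMap k K)))) :=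
    MorphismProperty.pullback_fst _ _ hξ
  haveI : ConnectedSpace ↥(pullback G.hom (Spec.map (CommRingCat.ofHom (algebraMap k K)))) :=
    ‹ConnectedSpace ((𝔅).obj G).left›
  haveI : ConnectedSpace G.left :=
    (pullback.fst G.hom (Spec.map (CommRingCat.ofHom (algebraMap k K)))).surjective.connectedSpace
      (pullback.fst G.hom (Spec.map (CommRingCat.ofHom (algebraMap k K)))).continuous
  haveI : IsCommMonObj G := ⟨by
    have h3 : fst G G * snd G G = snd G G * fst G G := by
      refine AVAmpleLib.map_injective K ?_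
      letI : CommGroup ((𝔅).obj (G ⊗ G) ⟶ (𝔅).obj G) := Hom.commGroup
      rw [show (𝔅).map (fst G G * snd G G) = (𝔅).map (fst G G) * (𝔅).map (snd G G) from
          map_mul (Functor.homMonoidHom (𝔅) : (G ⊗ G ⟶ G) →* _) _ _,
        show (𝔅).map (snd G G * fst G G) = (𝔅).map (snd G G) * (𝔅).map (fst G G) from
          map_mul (Functor.homMonoidHom (𝔅) : (G ⊗ G ⟶ G) →* _) _ _, mul_comm]
    have hb : (β_ G G).hom = lift (snd G G) (fst G G) := CartesianMonoidalCategory.hom_ext _ _ (by simp) (by simp)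
    have hm : μ[G] = fst G G * snd G G := by rw [Hom.mul_def, lift_fst_snd, Category.id_comp]
    rw [hb]
    show lift (snd G G) (fst G G) ≫ μ[G] = μ[G]
    conv_rhs => rw [hm, h3]
    rw [Hom.mul_def]⟩
  have hG' := hG
  obtain ⟨T, _, i, A', _, q, hi, hic, hT, hq, hqs, hqf, hker, hAp, hAs, hAc⟩ := hG
  haveI := hi; haveI := hic; haveI := hq; haveI := hqs; haveI := hqf; haveI := hAp; haveI := hAs; haveI := hAc
  haveI : LocallyOfFiniteType T.hom := by rw [← Over.w i]; infer_instance
  haveI : QuasiCompact T.hom := by rw [← Over.w i]; infer_instance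
  obtain ⟨hTs, hTc⟩ := AlbLib.smooth_connected_of_isTorus hT
  haveI := hTs; haveI := hTc
  haveI := AlbLib.isAffine_of_isTorus hT
  haveI : IsReduced T.left := AlgSpLib.isReduced_of_smooth T.hom
  -- a proper image with affine kernel
  obtain ⟨H, _, f, hfm, hHp, hHk⟩ := ChevThmLib.exists_affineKer_map G
  haveI := hfm; haveI := hHp
  obtain ⟨C, _, p, hpm, hCp, hCs, hCc, hpf, hps, hpt⟩ := AlbLib.exists_av_image f
  haveI := hpm; haveI := hCp; haveI := hCs; haveI := hCc; haveI := hpf; haveI := hps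
  obtain ⟨N, _, n, hnm, hnc, hnk, -⟩ := AntiAffLib.exists_kernel p
  haveI := hnm; haveI := hnc
  haveI : IsAffine N.left := hHk N n hnc ((hpt _ n).1 (AntiAffLib.kernel_comp hnk))
  haveI : LocallyOfFiniteType N.hom := by rw [← Over.w n]; infer_instance
  haveI : QuasiCompact N.hom := by rw [← Over.w n]; infer_instance
  obtain ⟨N0, _, i₀, hi₀, hi₀c, hi₀f, hi₀r, hN0g, -⟩ := GrpField.exists_identity_component (G := N)
  haveI := hi₀; haveI := hi₀c; haveI := hi₀f; haveI := hN0g
  haveI : LocallyOfFiniteType N0.hom := by rw [← Over.w i₀]; infer_instance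
  haveI : QuasiCompact N0.hom := by rw [← Over.w i₀]; infer_instance
  haveI : Mono i₀.left := inferInstance
  haveI : Mono i₀ := Over.mono_of_mono_left i₀
  haveI : LocallyOfFinitePresentation i₀.left := AntiAffLib.lfp_of_lft i₀
  haveI hi₀o : IsOpenImmersion i₀.left := IsOpenImmersion.of_flat_of_mono _
  haveI : IsAffine N0.left := isAffine_of_isAffineHom i₀.left
  haveI : IsClosedImmersion (i₀ ≫ n).left := by rw [Over.comp_left]; infer_instance
  haveI : Mono (i₀ ≫ n) := Over.mono_of_mono_left _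
  haveI : IsCommMonObj N0 := AntiAffLib.CommCat.isComm_of_mono (i₀ ≫ n)
  haveI : GeometricallyIrreducible ((𝔅).obj N0).hom :=
    inferInstanceAs (GeometricallyIrreducible (pullback.snd N0.hom _))
  haveI : Subsingleton ↥(Spec (CommRingCat.of K)) := inferInstanceAs (Subsingleton (PrimeSpectrum K))
  haveI : IrreducibleSpace ((𝔅).obj N0).left :=
    GeometricallyIrreducible.irreducibleSpace_of_subsingleton ((𝔅).obj N0).hom
  haveI : ConnectedSpace ((𝔅).obj N0).left := inferInstance
  haveI : LocallyOfFiniteType ((𝔅).obj N0).hom := inferInstanceAs (LocallyOfFiniteType (pullback.snd N0.hom _))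
  haveI : QuasiCompact ((𝔅).obj N0).hom := inferInstanceAs (QuasiCompact (pullback.snd N0.hom _))
  haveI hcB : IsClosedImmersion ((𝔅).map (i₀ ≫ n)).left := isClosedImmersion_map K (i₀ ≫ n)
  haveI : IsMonHom ((𝔅).map (i₀ ≫ n)) := @Functor.map.instIsMonHom _ _ _ _ _ _ (𝔅) _ _ _ _ _ (i₀ ≫ n) _
  haveI : Mono ((𝔅).map (i₀ ≫ n)) := Over.mono_of_mono_left _
  haveI : IsProper ((𝔅).obj C).hom := inferInstanceAs (IsProper (pullback.snd C.hom _))
  haveI : IsMonHom ((𝔅).map p) := @Functor.map.instIsMonHom _ _ _ _ _ _ (𝔅) _ _ _ _ _ p _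
  -- the torus lies in the connected kernel
  obtain ⟨l, hl⟩ := exists_lift_map K hnk i (AlbLib.eq_one_of_affine (i ≫ (𝔅).map p))
  haveI hoB : IsOpenImmersion ((𝔅).map i₀).left :=
    MorphismProperty.of_isPullback (P := @IsOpenImmersion) (AVAmpleLib.isPullback_bc K i₀) hi₀o
  haveI hcB' : IsClosedImmersion ((𝔅).map i₀).left := isClosedImmersion_map K i₀
  have hrange : Set.range l.left ⊆ Set.range ((𝔅).map i₀).left := by
    have hcl : IsClopen (l.left ⁻¹' Set.range ((𝔅).map i₀).left) :=
      ⟨((𝔅).map i₀).left.isClosedEmbedding.isClosed_range.preimage l.left.continuous,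
        ((𝔅).map i₀).left.isOpenEmbedding.isOpen_range.preimage l.left.continuous⟩
    rintro _ ⟨x, rfl⟩
    refine Set.eq_univ_iff_forall.1 (hcl.eq_univ ⟨η[T].left (IsLocalRing.closedPoint K), ?_⟩) x
    have h1 : η[T] ≫ l = η[(𝔅).obj N0] ≫ (𝔅).map i₀ := by
      haveI : IsMonHom ((𝔅).map i₀) := @Functor.map.instIsMonHom _ _ _ _ _ _ (𝔅) _ _ _ _ _ i₀ _
      haveI : IsMonHom ((𝔅).map n) := @Functor.map.instIsMonHom _ _ _ _ _ _ (𝔅) _ _ _ _ _ n _
      haveI : IsClosedImmersion ((𝔅).map n).left := isClosedImmersion_map K n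
      haveI : Mono ((𝔅).map n) := Over.mono_of_mono_left _
      rw [← cancel_mono ((𝔅).map n), Category.assoc, hl, IsMonHom.one_hom, IsMonHom.one_hom, IsMonHom.one_hom]
    exact ⟨η[(𝔅).obj N0].left (IsLocalRing.closedPoint K), (congrArg (fun m : 𝟙_ (Over (Spec (CommRingCat.of K))) ⟶
      (𝔅).obj N => m.left (IsLocalRing.closedPoint K)) h1).symm⟩
  let r : T ⟶ (𝔅).obj N0 := Over.homMk (IsOpenImmersion.lift ((𝔅).map i₀).left l.left hrange) (by
    rw [← Over.w ((𝔅).map i₀), ← Category.assoc, IsOpenImmersion.lift_fac, Over.w])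
  have hr : r ≫ (𝔅).map (i₀ ≫ n) = i := by
    rw [Functor.map_comp, ← Category.assoc, show r ≫ (𝔅).map i₀ = l from
      Over.OverMorphism.ext (IsOpenImmersion.lift_fac _ _ _), hl]
  haveI : IsClosedImmersion (r.left ≫ ((𝔅).map (i₀ ≫ n)).left) := by rw [← Over.comp_left, hr]; infer_instance
  haveI : IsClosedImmersion r.left := IsClosedImmersion.of_comp r.left ((𝔅).map (i₀ ≫ n)).left
  haveI : IsMonHom (r ≫ (𝔅).map (i₀ ≫ n)) := hr.symm ▸ hi
  haveI : IsMonHom r := DiagRep.isMonHom_of_comp_mono r ((𝔅).map (i₀ ≫ n))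
  haveI : IsSeparated ((𝔅).obj N0).hom := GrpField.isSeparated_grp (G := (𝔅).obj N0)
  haveI : Surjective r.left := by
    obtain ⟨M, _, b, hb, hbc, hbr, hbl, hbrange⟩ := AVAmpleLib.exists_reduced_subgroup
      (Set.univ : Set (𝟙_ (Over (Spec (CommRingCat.of K))) ⟶ (𝔅).obj N0)) trivial (fun _ _ _ _ => trivial)
      (fun _ _ => trivial)
    haveI := hb; haveI := hbc; haveI := hbr; haveI := hbl
    haveI : Smooth M.hom := GrpSchLib.smooth_of_isAlgClosed_of_isReduced M
    haveI : Surjective b.left := ⟨Set.range_eq_univ.1 (hbrange.trans (closure_pt_univ _))⟩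
    haveI : IrreducibleSpace M.left := by
      let h := b.left.isClosedEmbedding.isEmbedding.toHomeomorphOfSurjective b.left.surjective
      exact h.irreducibleSpace_iff.2 inferInstance
    haveI : IsAffine ((𝔅).obj N0).left := by
      exact inferInstanceAs (IsAffine (pullback N0.hom (Spec.map (CommRingCat.ofHom (algebraMap k K)))))
    haveI : IsAffine M.left := isAffine_of_isAffineHom b.left
    have h1 : (b ≫ (𝔅).map (i₀ ≫ n)) ≫ q = 1 := AlbLib.eq_one_of_affine _
    obtain ⟨t, ht⟩ := AntiAffLib.exists_lift_kernel hker _ h1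
    refine ⟨fun x => ?_⟩
    obtain ⟨y, rfl⟩ := b.left.surjective x
    refine ⟨t.left y, ?_⟩
    rw [← Scheme.Hom.comp_apply, ← Over.comp_left,
      show t ≫ r = b from by rw [← cancel_mono ((𝔅).map (i₀ ≫ n)), Category.assoc, hr, ht]]
  haveI : IsSeparated T.hom := GrpField.isSeparated_grp (G := T)
  haveI : Mono i := Over.mono_of_mono_left i
  haveI : IsCommMonObj T := AntiAffLib.CommCat.isComm_of_mono i
  obtain ⟨m, S, _, s, π, e, -, hsm, hsc, -, -, -, -, hem, her, hSs⟩ := exists_smooth_sub K N0 T r fun j hj => by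
    haveI : IsMonHom (𝟙 T ^ j) := by rw [← zpow_natCast]; exact AbSchLib.isMonHom_zpow T (j : ℤ)
    exact surjective_of_pts _ fun x => by
      obtain ⟨y, hy⟩ := torus_exists_root hT hj x
      exact ⟨y, by rw [pt_pow, hy]⟩
  haveI := hsm; haveI := hsc; haveI := hSs; haveI := hem
  have hST : Red.IsTorus S := isTorus_of_bc K hT e
  let t : S ⟶ G := s ≫ i₀ ≫ n
  haveI htc : IsClosedImmersion t.left := by
    simp only [t, Over.comp_left]; infer_instance
  haveI : Mono t := Over.mono_of_mono_left t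
  haveI : Flat S.hom := inferInstance
  haveI : Flat G.hom := inferInstance
  haveI : IsSeparated G.hom := GrpField.isSeparated_grp (G := G)
  obtain ⟨A, _, α, hαm, hαf, hαs, hαp, hαk, hAsep, -, hAsm⟩ := Groth.Agent.S3030.result k S G t
    (fun T g m => ⟨m, by
      letI : CommGroup (T ⟶ G) := Hom.commGroup
      rw [_root_.mul_comm g, mul_inv_cancel_right]⟩)
  haveI := hαm; haveI := hαf; haveI := hαs; haveI := hαp; haveI := hAsm inferInstance; haveI := hAsep
  haveI : ConnectedSpace A.left := α.left.surjective.connectedSpace α.left.continuous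
  haveI : CompactSpace G.left := QuasiCompact.compactSpace_of_compactSpace G.hom
  haveI : CompactSpace A.left := ⟨by rw [← α.left.surjective.range_eq]; exact isCompact_range α.left.continuous⟩
  haveI : QuasiCompact A.hom := quasiCompact_of_compactSpace _
  refine ⟨S, inferInstance, t, A, inferInstance, α, inferInstance, htc, hST, hαm, hαs, hαf, hαk, ?_, inferInstance,
    inferInstance⟩
  haveI : IsMonHom ((𝔅).map α) := @Functor.map.instIsMonHom _ _ _ _ _ _ (𝔅) _ _ _ _ _ α _
  haveI : Surjective ((𝔅).map α).left :=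
    MorphismProperty.of_isPullback (P := @Surjective) (AVAmpleLib.isPullback_bc K α) hαs
  haveI : LocallyOfFinitePresentation q.left := AntiAffLib.lfp_of_lft q
  obtain ⟨y, hy, -⟩ := AntiAffLib.CommCat.exists_descend q ((𝔅).map α) fun T' a ha => by
    obtain ⟨t', rfl⟩ := AntiAffLib.exists_lift_kernel hker a ha
    have hit : i ≫ (𝔅).map α = 1 := by
      rw [← hr, ← cancel_epi e.hom, Category.assoc, reassoc_of% her, ← Functor.map_comp, ← Functor.map_comp,
        show s ≫ (i₀ ≫ n) ≫ α = 1 from by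
          rw [← Category.assoc]; exact AntiAffLib.kernel_comp hαk, map_one_pt, MonObj.comp_one]
    rw [Category.assoc, hit, MonObj.comp_one]
  haveI : Surjective y.left := by
    haveI : Surjective (q.left ≫ y.left) := by rw [← Over.comp_left, hy]; infer_instance
    exact Surjective.of_comp q.left y.left
  haveI : IsSeparated ((𝔅).obj A).hom := inferInstanceAs (IsSeparated (pullback.snd A.hom _))
  haveI : UniversallyClosed ((𝔅).obj A).hom := by
    haveI : UniversallyClosed (y.left ≫ ((𝔅).obj A).hom) := by rw [Over.w y]; infer_instance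
    exact UniversallyClosed.of_comp_surjective y.left ((𝔅).obj A).hom
  haveI : UniversallyClosed A.hom := by
    haveI : UniversallyClosed (pullback.snd A.hom (Spec.map (CommRingCat.ofHom (algebraMap k K)))) :=
      ‹UniversallyClosed ((𝔅).obj A).hom›
    exact MorphismProperty.of_pullback_snd_of_descendsAlong (P := @UniversallyClosed)
      (Q := @Surjective ⊓ @Flat ⊓ @QuasiCompact) (g := Spec.map (CommRingCat.ofHom (algebraMap k K)))
      ⟨⟨inferInstance, inferInstance⟩, inferInstance⟩ ‹_›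
  exact ⟨⟩

end SemiAbLib

end
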