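import Groth.Agent.SemiAbLib.Points
import Groth.Agent.TorusFieldLib.Scheme
import Groth.Agent.AlbLib.Torus
import Mathlib.FieldTheory.IsAlgClosed.Basic
import Groth.Agent.AVAmpleLib.Dense

/-!
Rational points of tori over algebraically closed fields.
-/

set_option autoImplicit false
set_option linter.style.haveILetI false
set_option backward.isDefEq.respectTransparency false
set_option maxHeartbeats 1000000

noncomputable section

universe u

open CategoryTheory CategoryTheory.Limits MonoidalCategory CartesianMonoidalCategory AlgebraicGeometry CoactBr WithConv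
open scoped MonObj TensorProduct
open Groth.Agent

attribute [-instance] CategoryTheory.Hom.commGroup

namespace SemiAbLib

variable {k : Type u} [Field k] [IsAlgClosed k]

/-- A torus over an algebraically closed field is the spectrum of a group algebra. -/
theorem exists_laurent_iso {T : Over (Spec (CommRingCat.of k))} [GrpObj T] (hT : Red.IsTorus T) :
    ∃ (r : ℕ) (v : sp k (MonoidAlgebra k (Multiplicative (Fin r → ℤ))) ≅ T), IsMonHom v.hom ∧ IsMonHom v.inv := by
  obtain ⟨S', f, -, hfs, -, hloc⟩ := hT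
  obtain ⟨s', -⟩ := hfs.surj (IsLocalRing.closedPoint k)
  obtain ⟨U, hU, r, ⟨e⟩⟩ := hloc s'
  let u : U.toScheme := ⟨s', hU⟩
  let L : Type u := U.toScheme.residueField u
  let g : Spec (CommRingCat.of L) ⟶ U.toScheme := U.toScheme.fromSpecResidueField u
  letI : Algebra k L := (Spec.preimage (g ≫ U.ι ≫ f)).hom.toAlgebra
  have hh : Spec.map (CommRingCat.ofHom (algebraMap k L)) = g ≫ U.ι ≫ f := Spec.map_preimage _
  have hsplit : Red.IsSplitTorusWith (Fin r → ℤ) (Red.bc (DiagRep.baseHom k L) T) := by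
    show Red.IsSplitTorusWith (Fin r → ℤ) (Red.bc (Spec.map (CommRingCat.ofHom (algebraMap k L))) T)
    rw [hh]
    obtain ⟨ψ, h1, h2⟩ := AlbLib.exists_split_at g (U.ι ≫ f) T _ e
    haveI := h1; haveI := h2
    exact ⟨Grp.mkIso (asIso ψ) (IsMonHom.one_hom ψ) (IsMonHom.mul_hom ψ)⟩
  obtain ⟨A, _, _, v, hv, hv', ⟨E⟩⟩ := TorusField.exists_torus_rep T k ⟨L, inferInstance, inferInstance, hsplit⟩
  let ld : k ⊗[k] A ≃ₐ[k] A := Algebra.TensorProduct.lid k A
  have hld : ∀ x, E.e x = (1 : k) ⊗ₜ[k] ld (E.e x) := fun x => by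
    conv_lhs => rw [← ld.symm_apply_apply (E.e x)]
    rfl
  have h2 : ∀ x, CoalgebraStruct.comul (R := k) (ld (E.e x)) = ld (E.e x) ⊗ₜ[k] ld (E.e x) := fun x => by
    have h := (E.gl x).1
    rw [hld x] at h
    have h' := congrArg (Algebra.TensorProduct.lid k (A ⊗[k] A)) h
    simpa [TorusField.D, TorusField.J₁, TorusField.J₂, Algebra.TensorProduct.tmul_mul_tmul] using h'
  have h3 : ∀ x, CoalgebraStruct.counit (R := k) (ld (E.e x)) = 1 := fun x => by
    have h := (E.gl x).2
    rw [hld x] at h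
    simpa [TorusField.ev1] using h
  let B : DiagRep.GLBasis k (Fin r → ℤ) A := ⟨E.e.map ld.toLinearEquiv,
    by rw [Module.Basis.map_apply, E.e_zero]; exact map_one ld,
    fun a b => by simp only [Module.Basis.map_apply, E.e_add]; exact (map_mul ld _ _).symm,
    fun a => by rw [Module.Basis.map_apply]; exact h2 a, fun a => by rw [Module.Basis.map_apply]; exact h3 a⟩
  obtain ⟨w, hw, hw'⟩ := TorusField.exists_iso_of_basis B (DiagRep.monoidAlgebraBasis k (Fin r → ℤ))
  refine ⟨r, w ≪≫ v, ?_, ?_⟩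
  · dsimp only [Iso.trans_hom]; infer_instance
  · dsimp only [Iso.trans_inv]; infer_instance

section

variable (r : ℕ)

/-- Laurent polynomials. -/
abbrev Laur (k : Type u) [Field k] (r : ℕ) : Type u := MonoidAlgebra k (Multiplicative (Fin r → ℤ))

/-- The character attached to a tuple of units. -/
def chr (c : Fin r → kˣ) : Multiplicative (Fin r → ℤ) →* k where
  toFun m := ((∏ i, c i ^ m.toAdd i : kˣ) : k)
  map_one' := by simp
  map_mul' m n := by simp [zpow_add, Finset.prod_mul_distrib]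

/-- The point attached to a tuple of units. -/
def chrPt (c : Fin r → kˣ) : sp k k ⟶ sp k (Laur k r) :=
  pt (MonoidAlgebra.lift k k _ (chr r c))

theorem chrPt_mul (c d : Fin r → kˣ) : chrPt r (c * d) = chrPt r c * chrPt r d := by
  rw [chrPt, chrPt, chrPt, DiagRep.pt_mul_conv]
  congr 1
  refine MonoidAlgebra.algHom_ext (fun m => ?_) (Subsingleton.elim _ _)
  rw [WithConv.ofConv_toConv]
  show _ = (toConv (MonoidAlgebra.lift k k _ (chr r c)) * toConv (MonoidAlgebra.lift k k _ (chr r d)) :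
    WithConv (Laur k r →ₐ[k] k)) (MonoidAlgebra.single m 1)
  simp [AlgHom.convMul_apply, chr, mul_zpow, Finset.prod_mul_distrib]

theorem chrPt_surjective : Function.Surjective (chrPt (k := k) r) := by
  intro x
  obtain ⟨φ, rfl⟩ := DiagRep.exists_pt x
  let ψ : Multiplicative (Fin r → ℤ) →* k :=
    (φ : Laur k r →* k).comp (MonoidAlgebra.of k (Multiplicative (Fin r → ℤ)))
  let ψu : Multiplicative (Fin r → ℤ) →* kˣ := ψ.toHomUnits
  let c : Fin r → kˣ := fun i => ψu (Multiplicative.ofAdd (Pi.single i 1))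
  refine ⟨c, ?_⟩
  rw [chrPt]
  congr 1
  refine MonoidAlgebra.algHom_ext (fun m => ?_) (Subsingleton.elim _ _)
  have hm : (∏ i, c i ^ m.toAdd i) = ψu m := by
    conv_rhs => rw [← ofAdd_toAdd m, ← Finset.univ_sum_single m.toAdd, ofAdd_sum, map_prod]
    refine Finset.prod_congr rfl fun i _ => ?_
    rw [← map_zpow, ← ofAdd_zsmul, ← Pi.single_smul, smul_eq_mul, mul_one]
  simpa [chr, ψu, ψ] using congrArg Units.val hm

theorem closure_torsion (l : ℕ) [Fact l.Prime] (hl : (l : k) ≠ 0) :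
    closure ((fun c => (chrPt (k := k) r c).left (IsLocalRing.closedPoint k)) '' {c | ∃ m, c ^ l ^ m = 1}) =
      Set.univ := by
  rw [Set.eq_univ_iff_forall]
  intro x
  rw [(PrimeSpectrum.isTopologicalBasis_basic_opens (R := Laur k r)).mem_closure_iff]
  rintro _ ⟨f, rfl⟩ hx
  have hf : f ≠ 0 := fun h => by simp [h] at hx
  suffices h : ∃ c : Fin r → kˣ, (∃ m, c ^ l ^ m = 1) ∧ MonoidAlgebra.lift k k _ (chr r c) f ≠ 0 by
    obtain ⟨c, hc, hfc⟩ := h
    refine ⟨_, ?_, ⟨c, hc, rfl⟩⟩
    simp only [chrPt, pt_left]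
    show f ∉ Ideal.comap (MonoidAlgebra.lift k k _ (chr r c)).toRingHom (IsLocalRing.maximalIdeal k)
    rw [Ideal.mem_comap, IsLocalRing.maximalIdeal_eq_bot, Ideal.mem_bot]
    exact hfc
  classical
  -- exponents are told apart by a large power of `l`
  obtain ⟨j, hj⟩ : ∃ j : ℕ, ∀ a ∈ f.coeff.support, ∀ b ∈ f.coeff.support,
      (∀ i, ((l ^ j : ℕ) : ℤ) ∣ a.toAdd i - b.toAdd i) → a = b := by
    obtain ⟨N, hN⟩ := ((f.coeff.support ×ˢ f.coeff.support).image fun p : _ × _ =>
      ∑ i, (p.1.toAdd i - p.2.toAdd i).natAbs).bddAbove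
    refine ⟨N, fun a ha b hb h => Multiplicative.toAdd.injective (funext fun i => ?_)⟩
    refine sub_eq_zero.1 (Int.eq_zero_of_dvd_of_natAbs_lt_natAbs (h i) ?_)
    rw [Int.natAbs_natCast]
    refine lt_of_le_of_lt ?_ (Nat.lt_pow_self (Fact.out : l.Prime).one_lt)
    refine le_trans ?_ (hN (Finset.mem_image.2 ⟨(a, b), Finset.mem_product.2 ⟨ha, hb⟩, rfl⟩))
    exact Finset.single_le_sum (f := fun i => (a.toAdd i - b.toAdd i).natAbs) (fun i _ => Nat.zero_le _)
      (Finset.mem_univ i)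
  haveI : NeZero ((l ^ j : ℕ) : k) := ⟨by rw [Nat.cast_pow]; exact pow_ne_zero _ hl⟩
  haveI : NeZero (l ^ j) := ⟨pow_ne_zero _ (Fact.out : l.Prime).ne_zero⟩
  obtain ⟨ζ₀, hζ₀⟩ := HasEnoughRootsOfUnity.exists_primitiveRoot k (l ^ j)
  let ζ : kˣ := (hζ₀.isUnit (NeZero.ne _)).unit
  have hζ : IsPrimitiveRoot ζ (l ^ j) := IsPrimitiveRoot.coe_units_iff.1 hζ₀
  let ev : f.coeff.support → (Multiplicative (Fin r → ZMod (l ^ j)) →* k) := fun a =>
    { toFun := fun t => ((∏ i, (ζ ^ (t.toAdd i).val) ^ a.1.toAdd i : kˣ) : k)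
      map_one' := by simp
      map_mul' := fun s t => by
        rw [← Units.val_mul, ← Finset.prod_mul_distrib]
        refine congrArg Units.val (Finset.prod_congr rfl fun i _ => ?_)
        rw [← mul_zpow, ← pow_add, toAdd_mul, Pi.add_apply]
        congr 1
        rw [ZMod.val_add]
        exact pow_eq_pow_iff_modEq.2 (by rw [← hζ.eq_orderOf]; exact Nat.mod_modEq _ _) }
  have hinj : Function.Injective ev := by
    intro a b hab
    refine Subtype.ext (hj _ a.2 _ b.2 fun i => ?_)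
    rcases Nat.eq_zero_or_pos j with rfl | hjpos
    · simp
    haveI : Fact (1 < l ^ j) := ⟨Nat.one_lt_pow hjpos.ne' (Fact.out : l.Prime).one_lt⟩
    have h := DFunLike.congr_fun hab (Multiplicative.ofAdd (Pi.single i 1))
    have h' : ζ ^ a.1.toAdd i = ζ ^ b.1.toAdd i := by
      refine Units.ext ?_
      simpa [ev, Pi.single_apply, apply_ite ZMod.val, ZMod.val_one, Finset.prod_ite_eq'] using h
    rw [← hζ.zpow_eq_one_iff_dvd, zpow_sub, h', mul_inv_cancel]
  by_contra hno
  push_neg at hno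
  have hzero : ∀ t : Multiplicative (Fin r → ZMod (l ^ j)),
      ∑ a : f.coeff.support, f.coeff a.1 * ev a t = 0 := by
    intro t
    have h := hno (fun i => ζ ^ (t.toAdd i).val) ⟨j, funext fun i => by
      rw [Pi.pow_apply, ← pow_mul, mul_comm, pow_mul, hζ.pow_eq_one, one_pow, Pi.one_apply]⟩
    rw [MonoidAlgebra.lift_apply, Finsupp.sum, ← Finset.sum_coe_sort] at h
    simpa [chr, ev] using h
  have hli : LinearIndependent k (fun a : f.coeff.support => (ev a : _ → k)) :=
    (linearIndependent_monoidHom (Multiplicative (Fin r → ZMod (l ^ j))) k).comp ev hinj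
  have := Fintype.linearIndependent_iff.1 hli (fun a => f.coeff a.1)
    (funext fun t => by simpa using hzero t)
  obtain ⟨a, ha⟩ : f.coeff.support.Nonempty := by
    rw [Finsupp.support_nonempty_iff]
    exact fun h => hf (MonoidAlgebra.coeff_injective h)
  exact Finsupp.mem_support_iff.1 ha (this ⟨a, ha⟩)

end

variable {T : Over (Spec (CommRingCat.of k))} [GrpObj T]

/-- The rational points of a torus are the tuples of units. -/
theorem exists_torus_points (hT : Red.IsTorus T) :
    ∃ (r : ℕ) (Φ : (Fin r → kˣ) →* (𝟙_ (Over (Spec (CommRingCat.of k))) ⟶ T)), Function.Surjective Φ ∧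
      ∀ (l : ℕ) [Fact l.Prime], (l : k) ≠ 0 → closure (AVAmpleLib.pt '' (Φ '' {c | ∃ m, c ^ l ^ m = 1})) = Set.univ := by
  obtain ⟨r, v, hv, hv'⟩ := exists_laurent_iso hT
  let Φ : (Fin r → kˣ) →* (𝟙_ (Over (Spec (CommRingCat.of k))) ⟶ T) := MonoidHom.mk'
    (fun c => inv (DiagRep.toBase (R := k)) ≫ chrPt r c ≫ v.hom)
    (fun c d => by rw [chrPt_mul, MonObj.mul_comp, MonObj.comp_mul])
  refine ⟨r, Φ, fun x => ?_, fun l _ hl => ?_⟩
  · obtain ⟨c, hc⟩ := chrPt_surjective r (DiagRep.toBase ≫ x ≫ v.inv)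
    exact ⟨c, by simp [Φ, hc]⟩
  · haveI : IsIso v.hom.left := (Over.forget _).map_isIso v.hom
    let h := Scheme.homeoOfIso (asIso v.hom.left)
    have hA : AVAmpleLib.pt '' (Φ '' {c | ∃ m, c ^ l ^ m = 1}) = h ''
        ((fun c => (chrPt (k := k) r c).left (IsLocalRing.closedPoint k)) '' {c | ∃ m, c ^ l ^ m = 1}) := by
      rw [Set.image_image, Set.image_image]
      refine Set.image_congr' fun c => ?_
      show (inv (DiagRep.toBase (R := k)) ≫ chrPt r c ≫ v.hom).left (IsLocalRing.closedPoint k) = _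
      rw [Over.comp_left, Over.comp_left, Scheme.Hom.comp_apply, Scheme.Hom.comp_apply]
      exact congrArg (fun z => v.hom.left ((chrPt r c).left z)) (@Subsingleton.elim (PrimeSpectrum k) _ _ _)
    rw [hA, ← h.image_closure, closure_torsion r l hl, Set.image_univ, h.surjective.range_eq]

/-- Rational points of a torus over an algebraically closed field have roots of all orders. -/
theorem torus_exists_root (hT : Red.IsTorus T) {n : ℕ} (hn : n ≠ 0)
    (x : 𝟙_ (Over (Spec (CommRingCat.of k))) ⟶ T) : ∃ y : 𝟙_ (Over (Spec (CommRingCat.of k))) ⟶ T, y ^ n = x := by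
  obtain ⟨r, Φ, hΦ, -⟩ := exists_torus_points hT
  obtain ⟨c, rfl⟩ := hΦ x
  have h : ∀ i, ∃ d : kˣ, d ^ n = c i := fun i => by
    obtain ⟨z, hz⟩ := IsAlgClosed.exists_pow_nat_eq (c i : k) (Nat.pos_of_ne_zero hn)
    exact ⟨Units.mk0 z fun h0 => (c i).ne_zero (by rw [← hz, h0, zero_pow hn]), Units.ext hz⟩
  choose d hd using h
  exact ⟨Φ d, by rw [← map_pow]; exact congrArg Φ (funext hd)⟩

/-- The points of `l`-power order of a torus are dense. -/
theorem torus_dense_torsPow (hT : Red.IsTorus T) (l : ℕ) [Fact l.Prime] (hl : (l : k) ≠ 0) :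
    closure (AVAmpleLib.pt '' AVAmpleLib.torsPow T l) = Set.univ := by
  obtain ⟨r, Φ, -, hd⟩ := exists_torus_points hT
  refine Set.eq_univ_of_univ_subset ((hd l hl).symm.le.trans (closure_mono (Set.image_mono ?_)))
  rintro _ ⟨c, ⟨m, hm⟩, rfl⟩
  exact ⟨m, by rw [← map_pow, hm, map_one]⟩

end SemiAbLib

end
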