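import Groth.Agent.S3264
import Groth.Agent.S4128
import Groth.Agent.S7967
import Groth.Agent.S7976
import Groth.Agent.S9628
import Groth.Agent.S3308
import Groth.Agent.SweepSix.TensorDomain
import Groth.Agent.UnipSplitLib.Translate
import Groth.Agent.DiagHopfLib.Basic
import Groth.Agent.DiagRepLib.Scheme

/-!
A connected commutative affine group which is not diagonalizable has the additive group as a subgroup.
-/

set_option autoImplicit false
set_option linter.style.haveILetI false
set_option maxHeartbeats 1000000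

noncomputable section

universe u

open TensorProduct HopfRep WithConv Groth.Agent
open scoped ComodLib

attribute [local instance] HopfFF.pointsGroup

namespace SemiAbLib

variable {k : Type u} [Field k] [IsAlgClosed k] {A : Type u} [CommRing A] [HopfAlgebra k A]
  [Algebra.FiniteType k A]

local notation "aug" => RingHom.ker (Bialgebra.counitAlgHom k A)

/-- The tensor square of two quotients by primes is a domain. -/
theorem isDomain_tensor_quot (P Q : Ideal A) [P.IsPrime] [Q.IsPrime] : IsDomain ((A ⧸ P) ⊗[k] (A ⧸ Q)) :=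
  S9628.result fun k' _ _ => SweepSix.isDomain_tensor k' (A ⧸ Q)

omit [IsAlgClosed k] [Algebra.FiniteType k A] in
/-- The quotient maps send the comultiplication to a map whose kernel lies in both primes. -/
theorem ker_comul_le (P Q : Ideal A) (hP : P ≤ aug) (hQ : Q ≤ aug) :
    RingHom.ker ((Algebra.TensorProduct.map (Ideal.Quotient.mkₐ k P) (Ideal.Quotient.mkₐ k Q)).comp
      (Bialgebra.comulAlgHom k A)) ≤ P ⊓ Q := by
  let εP : A ⧸ P →ₐ[k] k := Ideal.Quotient.liftₐ P (Bialgebra.counitAlgHom k A) hP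
  let εQ : A ⧸ Q →ₐ[k] k := Ideal.Quotient.liftₐ Q (Bialgebra.counitAlgHom k A) hQ
  intro a ha
  have ha' : TensorProduct.map (Ideal.Quotient.mkₐ k P).toLinearMap (Ideal.Quotient.mkₐ k Q).toLinearMap
      (CoalgebraStruct.comul (R := k) a) = 0 := ha
  constructor
  · have h := congrArg (TensorProduct.rid k (A ⧸ P) ∘ₗ LinearMap.lTensor (A ⧸ P) εQ.toLinearMap :
      (A ⧸ P) ⊗[k] (A ⧸ Q) →ₗ[k] A ⧸ P) ha'
    rw [map_zero] at h
    refine Ideal.Quotient.eq_zero_iff_mem.1 ?_
    rw [← h]
    have e : a = TensorProduct.rid k A (LinearMap.lTensor A Coalgebra.counit (CoalgebraStruct.comul (R := k) a)) := by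
      rw [Coalgebra.lTensor_counit_comul]; simp
    conv_lhs => rw [e]
    generalize CoalgebraStruct.comul (R := k) a = z
    induction z using TensorProduct.induction_on with
    | zero => simp
    | add p q hp hq => simp only [map_add, hp, hq]
    | tmul p q => simp [εQ, Algebra.smul_def, mul_comm]
  · have h := congrArg (TensorProduct.lid k (A ⧸ Q) ∘ₗ LinearMap.rTensor (A ⧸ Q) εP.toLinearMap :
      (A ⧸ P) ⊗[k] (A ⧸ Q) →ₗ[k] A ⧸ Q) ha'
    rw [map_zero] at h
    refine Ideal.Quotient.eq_zero_iff_mem.1 ?_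
    rw [← h]
    have e : a = TensorProduct.lid k A (LinearMap.rTensor A Coalgebra.counit (CoalgebraStruct.comul (R := k) a)) := by
      rw [Coalgebra.rTensor_counit_comul]; simp
    conv_lhs => rw [e]
    generalize CoalgebraStruct.comul (R := k) a = z
    induction z using TensorProduct.induction_on with
    | zero => simp
    | add p q hp hq => simp only [map_add, hp, hq]
    | tmul p q => simp [εP, Algebra.smul_def, mul_comm]

/-- A minimal prime over a Hopf ideal inside the augmentation ideal is a Hopf ideal. -/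
theorem isHopfIdeal_of_mem_minimalPrimes (J : Ideal A) [hJ : J.IsHopfIdeal k] {P : Ideal A}
    (hP : P ∈ J.minimalPrimes) (hPa : P ≤ aug) : P.IsHopfIdeal k := by
  haveI : P.IsPrime := hP.1.1
  have key : ∀ (Q : Ideal A) [Q.IsPrime], J ≤ Q → Q ≤ aug → P ≤ Q ∧ P ≤ RingHom.ker
      ((Algebra.TensorProduct.map (Ideal.Quotient.mkₐ k P) (Ideal.Quotient.mkₐ k Q)).comp
        (Bialgebra.comulAlgHom k A)) := by
    intro Q _ hJQ hQa
    let N := RingHom.ker ((Algebra.TensorProduct.map (Ideal.Quotient.mkₐ k P) (Ideal.Quotient.mkₐ k Q)).comp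
      (Bialgebra.comulAlgHom k A))
    haveI := isDomain_tensor_quot (k := k) P Q
    have hN : N.IsPrime := RingHom.ker_isPrime _
    have hJN : J ≤ N := fun a ha => by
      have h := Submodule.IsCoideal.map_mkQ_comul_eq_zero (I := J.restrictScalars k) ha
      let fP : (A ⧸ J.restrictScalars k) →ₗ[k] A ⧸ P :=
        (J.restrictScalars k).liftQ (Ideal.Quotient.mkₐ k P).toLinearMap
          fun x hx => Ideal.Quotient.eq_zero_iff_mem.2 (hP.1.2 hx)
      let fQ : (A ⧸ J.restrictScalars k) →ₗ[k] A ⧸ Q :=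
        (J.restrictScalars k).liftQ (Ideal.Quotient.mkₐ k Q).toLinearMap
          fun x hx => Ideal.Quotient.eq_zero_iff_mem.2 (hJQ hx)
      have h' := congrArg (TensorProduct.map fP fQ) h
      rw [map_zero, ← LinearMap.comp_apply, ← TensorProduct.map_comp] at h'
      exact h'
    have hle := ker_comul_le P Q hPa hQa
    have hPN : P ≤ N := hP.2 ⟨hN, hJN⟩ (hle.trans inf_le_left)
    exact ⟨hPN.trans (hle.trans inf_le_right), hPN⟩
  refine { counit_eq_zero := fun a ha => hPa ha, map_mkQ_comul_eq_zero := fun a ha => ?_, antipode_mem := ?_ }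
  · exact (key P hP.1.2 hPa).2 ha
  · let S : A →ₐ[k] A := HopfAlgebra.antipodeAlgHom k A
    have hS : J ≤ P.comap S := fun a ha => hP.1.2 (Ideal.IsHopfIdeal.antipode_mem (R := k) ha)
    have hSa : P.comap S ≤ aug := fun a ha => by
      have h := hPa (Ideal.mem_comap.1 ha)
      simpa [S] using h
    intro a ha
    exact (key (P.comap S) hS hSa).1 ha

/-- Translation by a point. -/
def transl (g : WithConv (A →ₐ[k] k)) : A →ₐ[k] A :=
  (UnipSplit.push (Algebra.ofId k A) g * toConv (AlgHom.id k A)).ofConv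

theorem transl_comp (g h : WithConv (A →ₐ[k] k)) : (transl h).comp (transl g) = transl (g * h) := by
  have e : toConv ((transl h).comp (transl g)) = toConv (transl (g * h)) := by
    show UnipSplit.push (transl h) (UnipSplit.push (Algebra.ofId k A) g * toConv (AlgHom.id k A)) =
      UnipSplit.push (Algebra.ofId k A) (g * h) * toConv (AlgHom.id k A)
    rw [UnipSplit.push_mul, UnipSplit.push_mul, _root_.mul_assoc]
    congr 1
    exact WithConv.ext (AlgHom.ext fun a => (transl h).commutes _)
  exact congrArg ofConv e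

theorem transl_one : transl (1 : WithConv (A →ₐ[k] k)) = AlgHom.id k A := by
  have : UnipSplit.push (Algebra.ofId k A) (1 : WithConv (A →ₐ[k] k)) = 1 :=
    WithConv.ext (AlgHom.ext fun a => by simp [UnipSplit.push])
  rw [transl, this, one_mul]

theorem counit_transl (g : WithConv (A →ₐ[k] k)) : (Bialgebra.counitAlgHom k A).comp (transl g) = g.ofConv := by
  have e : UnipSplit.push (Bialgebra.counitAlgHom k A) (UnipSplit.push (Algebra.ofId k A) g *
      toConv (AlgHom.id k A)) = g := by
    rw [UnipSplit.push_mul]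
    have h1 : UnipSplit.push (Bialgebra.counitAlgHom k A) (UnipSplit.push (Algebra.ofId k A) g) = g :=
      WithConv.ext (AlgHom.ext fun a => by simp [UnipSplit.push])
    have h2 : UnipSplit.push (Bialgebra.counitAlgHom k A) (toConv (AlgHom.id k A)) = 1 :=
      WithConv.ext (AlgHom.ext fun a => by simp [UnipSplit.push])
    rw [h1, h2, mul_one]
  exact congrArg ofConv e

/-- All maximal ideals have the height of the augmentation ideal. -/
theorem height_maximal_eq (m : Ideal A) [m.IsMaximal] : m.height = Ideal.height aug := by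
  letI : Field (A ⧸ m) := Ideal.Quotient.field m
  haveI : Module.Finite k (A ⧸ m) := finite_of_finite_type_of_isJacobsonRing k (A ⧸ m)
  let eqv := AlgEquiv.ofBijective (Algebra.ofId k (A ⧸ m)) IsAlgClosed.algebraMap_bijective_of_isIntegral
  let g : WithConv (A →ₐ[k] k) := toConv (eqv.symm.toAlgHom.comp (Ideal.Quotient.mkₐ k m))
  let e : A ≃ₐ[k] A := AlgEquiv.ofAlgHom (transl g) (transl g⁻¹)
    (by rw [transl_comp, inv_mul_cancel, transl_one]) (by rw [transl_comp, mul_inv_cancel, transl_one])
  have hm : m = Ideal.comap (e.toRingEquiv : A →+* A) aug := by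
    ext a
    show a ∈ m ↔ Bialgebra.counitAlgHom k A (transl g a) = 0
    rw [← AlgHom.comp_apply, counit_transl]
    show _ ↔ eqv.symm (Ideal.Quotient.mk m a) = 0
    rw [map_eq_zero_iff _ eqv.symm.injective, Ideal.Quotient.eq_zero_iff_mem]
  rw [hm]
  exact RingEquiv.height_comap e.toRingEquiv aug

omit [Algebra.FiniteType k A] [IsAlgClosed k] in
theorem aug_isMaximal : Ideal.IsMaximal aug :=
  RingHom.ker_isMaximal_of_surjective _ fun c => ⟨algebraMap k A c, by simp⟩

/-- A domain with a nonzero primitive element and no intermediate prime Hopf ideal is of dimension one. -/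
theorem dim_eq_one [IsDomain A] {x : A} (hx0 : x ≠ 0)
    (hx : CoalgebraStruct.comul (R := k) x = x ⊗ₜ[k] (1 : A) + (1 : A) ⊗ₜ[k] x)
    (hmax : ∀ (P : Ideal A) [P.IsPrime], P.IsHopfIdeal k → P ≠ ⊥ → P = aug) :
    ringKrullDim A = 1 := by
  haveI : IsNoetherianRing A := Algebra.FiniteType.isNoetherianRing k A
  haveI := UnipHopf.isHopfIdeal_span_primitive hx
  haveI := aug_isMaximal (k := k) (A := A)
  have hxa : x ∈ aug := UnipHopf.counit_primitive hx
  obtain ⟨P, hP, hPa⟩ := Ideal.exists_minimalPrimes_le (I := Ideal.span {x}) (J := aug)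
    ((Ideal.span_singleton_le_iff_mem _).2 hxa)
  haveI : P.IsPrime := hP.1.1
  have hPe : P = aug := hmax P (isHopfIdeal_of_mem_minimalPrimes _ hP hPa) fun h =>
    hx0 (by simpa [h] using hP.1.2 (Ideal.subset_span rfl))
  have h1 : Ideal.height aug ≤ 1 := hPe ▸ Ideal.height_le_one_of_isPrincipal_of_mem_minimalPrimes _ P hP
  refine le_antisymm ((ringKrullDim_le_iff_isMaximal_height_le 1).2 fun m hm => ?_) ?_
  · rw [height_maximal_eq (k := k) m]
    exact_mod_cast h1
  · refine Order.one_le_krullDim_iff.2 ⟨⟨⊥, Ideal.isPrime_bot⟩, ⟨aug, inferInstance⟩, ?_⟩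
    exact lt_of_le_of_ne bot_le fun h => hx0 (by
      have hbot : aug = ⊥ := (congrArg PrimeSpectrum.asIdeal h).symm
      have hx' : x ∈ (⊥ : Ideal A) := hbot ▸ hxa
      simpa using hx')

omit [IsAlgClosed k] in
/-- A unipotent kernel with trivial underlying ring means a diagonalizable group. -/
theorem isDiagonalizable_of_surjective {B : Type u} [CommRing B] [HopfAlgebra k B] (ψ : B →ₐc[k] A)
    (hψ : Function.Surjective ψ) (hB : IsDiagonalizable k B) : IsDiagonalizable k A := by
  rw [IsDiagonalizable, eq_top_iff]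
  rintro a -
  obtain ⟨b, rfl⟩ := hψ a
  have hb : b ∈ Submodule.span k {b : B | IsGroupLikeElem k b} := hB ▸ trivial
  induction hb using Submodule.span_induction with
  | mem y hy => exact Submodule.subset_span (hy.map ψ)
  | zero => rw [map_zero]; exact zero_mem _
  | add p q _ _ hp hq => rw [map_add]; exact add_mem hp hq
  | smul c p _ hp => rw [map_smul]; exact Submodule.smul_mem _ c hp

omit [IsAlgClosed k] [Algebra.FiniteType k A] in
/-- A Hopf algebra spanned by group-like elements is a group algebra. -/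
theorem isDiag_of_isDiagonalizable {B : Type u} [CommRing B] [HopfAlgebra k B] (hB : IsDiagonalizable k B) :
    SGA3b.IsDiag k B := by
  let φ : MonoidAlgebra k (GroupLike k B) →ₐ[k] B := MonoidAlgebra.lift k B (GroupLike k B) (GroupLike.valMonoidHom k B)
  have hφ : ∀ g : GroupLike k B, φ (MonoidAlgebra.of k _ g) = g.val := fun g => MonoidAlgebra.lift_of _ _
  let f : MonoidAlgebra k (GroupLike k B) →ₐc[k] B := BialgHom.ofAlgHom φ
    (MonoidAlgebra.algHom_ext' (MonoidHom.ext fun g => by
      show Coalgebra.counit (R := k) (φ (MonoidAlgebra.of k _ g)) = Coalgebra.counit (R := k) (MonoidAlgebra.of k _ g)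
      rw [hφ, g.isGroupLikeElem_val.counit_eq_one, (MonoidAlgebra.isGroupLikeElem_of g).counit_eq_one]) (Subsingleton.elim _ _))
    (MonoidAlgebra.algHom_ext' (MonoidHom.ext fun g => by
      show TensorProduct.map φ.toLinearMap φ.toLinearMap (CoalgebraStruct.comul (R := k) (MonoidAlgebra.of k _ g)) =
        CoalgebraStruct.comul (R := k) (φ (MonoidAlgebra.of k _ g))
      rw [hφ, g.isGroupLikeElem_val.comul_eq_tmul_self, (MonoidAlgebra.isGroupLikeElem_of g).comul_eq_tmul_self]
      simp [← hφ]) (Subsingleton.elim _ _))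
  have hbij : Function.Bijective f := by
    constructor
    · show Function.Injective φ.toLinearMap
      have hb : (φ.toLinearMap : MonoidAlgebra k (GroupLike k B) → B) =
          Finsupp.linearCombination k (GroupLike.val (R := k) (A := B)) ∘ MonoidAlgebra.coeffEquiv := by
        funext z
        simp [φ, MonoidAlgebra.lift_apply, Finsupp.linearCombination_apply, GroupLike.valMonoidHom]
      rw [hb]
      have hi : Function.Injective (Finsupp.linearCombination k (GroupLike.val (R := k) (A := B))) :=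
        linearIndep_groupLikeVal
      exact hi.comp MonoidAlgebra.coeffEquiv.injective
    · intro b
      have hb : b ∈ Submodule.span k {b : B | IsGroupLikeElem k b} := hB ▸ trivial
      induction hb using Submodule.span_induction with
      | mem y hy => exact ⟨MonoidAlgebra.of k _ ⟨y, hy⟩, hφ ⟨y, hy⟩⟩
      | zero => exact ⟨0, map_zero f⟩
      | add p q _ _ hp hq =>
        obtain ⟨z, rfl⟩ := hp; obtain ⟨w, rfl⟩ := hq
        exact ⟨z + w, map_add f z w⟩
      | smul c p _ hp => obtain ⟨z, rfl⟩ := hp; exact ⟨c • z, map_smul f c z⟩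
  exact ⟨GroupLike k B, inferInstance, ⟨(BialgEquiv.ofBijective f hbij).symm⟩⟩

/-- A connected commutative affine group is diagonalizable or has a subgroup which is the additive group. -/
theorem exists_surjective_to_ga [IsDomain A] [Coalgebra.IsCocomm k A] :
    IsDiagonalizable k A ∨ ∃ φ : A →ₐc[k] SymmetricAlgebra k k, Function.Surjective φ := by
  obtain ⟨B, _, _, ψ, J, hJ, hψ, hB, hJe, hU⟩ := (S7967.result k A).1 (S3308.result k A)
  haveI := hJ
  obtain ⟨r, hr⟩ := S4128.result k A B (isDiag_of_isDiagonalizable hB) ψ hψ J hJe hU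
  let π : WithConv (A →ₐ[k] A) := toConv (AlgHom.id k A) *
    (toConv ((ψ : B →ₐ[k] A).comp (r : A →ₐ[k] B)))⁻¹
  have hπ : ∀ b, π.ofConv (ψ b) = algebraMap k A (Coalgebra.counit (R := k) b) := fun b => by
    have h1 : UnipSplit.pull ψ π.ofConv = 1 := by
      show UnipSplit.pull ψ (toConv (AlgHom.id k A) *
        (toConv ((ψ : B →ₐ[k] A).comp (r : A →ₐ[k] B)))⁻¹).ofConv = 1
      have e := UnipSplit.pull_mul ψ (AlgHom.id k A)
        ((toConv ((ψ : B →ₐ[k] A).comp (r : A →ₐ[k] B)))⁻¹).ofConv
      rw [← e, ← UnipSplit.pull_inv, mul_inv_eq_one]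
      refine WithConv.ext (AlgHom.ext fun c => ?_)
      exact (congrArg (fun f : B →ₐc[k] B => ψ (f c)) hr).symm
    exact DFunLike.congr_fun (congrArg ofConv h1) b
  have hJπ : J ≤ RingHom.ker π.ofConv := by
    rw [hJe, Ideal.map_le_iff_le_comap]
    intro b hb
    show π.ofConv (ψ b) = 0
    rw [hπ, show Coalgebra.counit (R := k) b = 0 from hb, map_zero]
  let s : A ⧸ J →ₐ[k] A := Ideal.Quotient.liftₐ J π.ofConv hJπ
  let q := Bialgebra.Quotient.mkBialgHom (R := k) J
  have hqψ : ∀ b, q (ψ b) = algebraMap k (A ⧸ J) (Coalgebra.counit (R := k) b) := fun b => by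
    show Ideal.Quotient.mk J (ψ b) = Ideal.Quotient.mk J (algebraMap k A _)
    rw [Ideal.Quotient.eq, hJe, show algebraMap k A (Coalgebra.counit (R := k) b) =
      ψ (algebraMap k B (Coalgebra.counit (R := k) b)) from (AlgHomClass.commutes ψ _).symm, ← map_sub]
    exact Ideal.mem_map_of_mem _ (by simp [RingHom.mem_ker])
  have hqπ : UnipSplit.push (q : A →ₐ[k] A ⧸ J) π = toConv (q : A →ₐ[k] A ⧸ J) := by
    rw [UnipSplit.push_mul, UnipSplit.push_inv, UnipSplit.push_toConv, UnipSplit.push_toConv, AlgHom.comp_id]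
    rw [mul_inv_eq_iff_eq_mul, left_eq_mul]
    refine WithConv.ext (AlgHom.ext fun a => ?_)
    show q (ψ (r a)) = algebraMap k (A ⧸ J) (Coalgebra.counit (R := k) a)
    rw [hqψ, CoalgHomClass.counit_comp_apply]
  haveI : J.IsPrime := by
    rw [← Ideal.Quotient.isDomain_iff_prime]
    refine Function.Injective.isDomain s.toRingHom (fun z w hzw => ?_)
    obtain ⟨z, rfl⟩ := Ideal.Quotient.mk_surjective z
    obtain ⟨w, rfl⟩ := Ideal.Quotient.mk_surjective w
    have hz : ∀ v, q (s (Ideal.Quotient.mk J v)) = q v := fun v => DFunLike.congr_fun (congrArg ofConv hqπ) v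
    exact (hz z).symm.trans ((congrArg q hzw).trans (hz w))
  by_cases hJa : J = aug
  · left
    refine isDiagonalizable_of_surjective ψ (fun a => ⟨r a, ?_⟩) hB
    have h1 : π = 1 := WithConv.ext (AlgHom.ext fun c => by
      show π.ofConv c = algebraMap k A (Coalgebra.counit (R := k) c)
      rw [← sub_eq_zero]
      have hc : c - algebraMap k A (Coalgebra.counit (R := k) c) ∈ J := by rw [hJa]; simp [RingHom.mem_ker]
      simpa using hJπ hc)
    exact (DFunLike.congr_fun (congrArg ofConv (mul_inv_eq_one.1 h1)) a).symm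
  right
  haveI : IsNoetherianRing A := Algebra.FiniteType.isNoetherianRing k A
  obtain ⟨P, ⟨hPp, hPh, hJP, hPa⟩, hmax⟩ := set_has_maximal_iff_noetherian.2 (inferInstance : IsNoetherianRing A)
    {P : Ideal A | P.IsPrime ∧ P.IsHopfIdeal k ∧ J ≤ P ∧ P ≠ aug} ⟨J, inferInstance, hJ, le_rfl, hJa⟩
  haveI := hPp; haveI := hPh
  let qP := Bialgebra.Quotient.mkBialgHom (R := k) P
  haveI : Algebra.FiniteType k (A ⧸ P) := Algebra.FiniteType.of_surjective (qP : A →ₐ[k] A ⧸ P) Ideal.Quotient.mk_surjective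
  obtain ⟨x, hx0, hx⟩ : ∃ x : A ⧸ P, x ≠ 0 ∧
      CoalgebraStruct.comul (R := k) x = x ⊗ₜ[k] (1 : A ⧸ P) + (1 : A ⧸ P) ⊗ₜ[k] x := by
    let qJ := Bialgebra.Quotient.mkBialgHom (R := k) J
    let f : A ⧸ J →ₐc[k] A ⧸ P := BialgHom.ofAlgHom (Ideal.Quotient.factorₐ k hJP)
      (Ideal.Quotient.algHom_ext _ (AlgHom.ext fun a => by simp))
      (Ideal.Quotient.algHom_ext _ (AlgHom.ext fun a => by
        simp only [AlgHom.comp_apply]
        show TensorProduct.map (Ideal.Quotient.factorₐ k hJP).toLinearMap (Ideal.Quotient.factorₐ k hJP).toLinearMap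
          (CoalgebraStruct.comul (R := k) (qJ a)) = CoalgebraStruct.comul (R := k) (qP a)
        rw [← CoalgHomClass.map_comp_comul_apply qJ, ← CoalgHomClass.map_comp_comul_apply qP,
          ← LinearMap.comp_apply, ← TensorProduct.map_comp]
        rfl))
    haveI : (⊥ : Ideal (A ⧸ P)).IsHopfIdeal k :=
      { counit_eq_zero := fun z hz => by rw [(Submodule.mem_bot _).1 hz, map_zero]
        map_mkQ_comul_eq_zero := fun z hz => by rw [(Submodule.mem_bot _).1 hz, map_zero, map_zero]
        antipode_mem := fun z hz => by rw [(Submodule.mem_bot _).1 hz, map_zero]; exact zero_mem _ }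
    have hIh := UnipHopf.isHopfIdeal_comap f ⊥
    have hne : (⊥ : Ideal (A ⧸ P)).comap (f : A ⧸ J →ₐ[k] A ⧸ P) ≠
        RingHom.ker (Bialgebra.counitAlgHom k (A ⧸ J)) := fun h => hPa (le_antisymm
          (fun a ha => Submodule.IsCoideal.counit_eq_zero (I := P.restrictScalars k) ha) fun a ha => by
        have h' : qJ a ∈ RingHom.ker (Bialgebra.counitAlgHom k (A ⧸ J)) := by
          show Coalgebra.counit (R := k) (qJ a) = 0
          rw [CoalgHomClass.counit_comp_apply]; exact ha
        rw [← h] at h'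
        exact Ideal.Quotient.eq_zero_iff_mem.1 h')
    obtain ⟨y, hy0, hy⟩ := (S3264.result k (A ⧸ J)).1 hU _ hne
    obtain ⟨y, rfl⟩ := Ideal.Quotient.mk_surjective y
    refine ⟨f y, fun h => hy0 (Ideal.Quotient.eq_zero_iff_mem.2 h), ?_⟩
    let I := (⊥ : Ideal (A ⧸ P)).comap (f : A ⧸ J →ₐ[k] A ⧸ P)
    let j : (A ⧸ J) ⧸ I →ₐ[k] A ⧸ P := Ideal.Quotient.liftₐ I (f : A ⧸ J →ₐ[k] A ⧸ P) fun z hz => hz
    have h := congrArg (TensorProduct.map j.toLinearMap j.toLinearMap) hy
    rw [map_add, TensorProduct.map_tmul, TensorProduct.map_tmul] at h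
    simp only [AlgHom.toLinearMap_apply, map_one] at h
    refine Eq.trans ?_ h
    rw [← CoalgHomClass.map_comp_comul_apply f y]
    show _ = TensorProduct.map j.toLinearMap j.toLinearMap
      (CoalgebraStruct.comul (R := k) (Bialgebra.Quotient.mkBialgHom (R := k) I y))
    rw [← CoalgHomClass.map_comp_comul_apply (Bialgebra.Quotient.mkBialgHom (R := k) I) y]
    show _ = (TensorProduct.map j.toLinearMap j.toLinearMap ∘ₗ
      TensorProduct.map (Ideal.Quotient.mkₐ k I).toLinearMap (Ideal.Quotient.mkₐ k I).toLinearMap)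
        (CoalgebraStruct.comul (R := k) y)
    rw [← TensorProduct.map_comp]
    rfl
  have hdim : ringKrullDim (A ⧸ P) = 1 := by
    refine dim_eq_one hx0 hx fun Q _ hQ hQ0 => ?_
    haveI := hQ
    have hQa : Q ≤ RingHom.ker (Bialgebra.counitAlgHom k (A ⧸ P)) := fun a ha =>
      Submodule.IsCoideal.counit_eq_zero (I := Q.restrictScalars k) ha
    have hcomap := UnipHopf.isHopfIdeal_comap qP Q
    have hlt : P < Q.comap (qP : A →ₐ[k] A ⧸ P) := by
      refine lt_of_le_of_ne (fun a ha => ?_) fun h => hQ0 (eq_bot_iff.2 fun z hz => ?_)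
      · show qP a ∈ Q
        rw [show qP a = 0 from Ideal.Quotient.eq_zero_iff_mem.2 ha]
        exact zero_mem _
      · obtain ⟨z, rfl⟩ := Ideal.Quotient.mk_surjective z
        exact Ideal.Quotient.eq_zero_iff_mem.2 (h ▸ (hz : z ∈ Q.comap (qP : A →ₐ[k] A ⧸ P)))
    by_contra hne
    refine hmax _ ⟨inferInstance, hcomap, hJP.trans hlt.le, fun h => hne (le_antisymm hQa fun z hz => ?_)⟩ hlt
    obtain ⟨z, rfl⟩ := Ideal.Quotient.mk_surjective z
    have : z ∈ aug := by
      show Coalgebra.counit (R := k) z = 0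
      rw [← CoalgHomClass.counit_comp_apply qP]; exact hz
    rw [← h] at this
    exact this
  rcases S7976.result k (A ⧸ P) (fun e he => IsIdempotentElem.iff_eq_zero_or_one.1 he) hdim with ⟨⟨e⟩⟩ | ⟨⟨e⟩⟩
  · exfalso
    refine hx0 (DiagHopfLib.primitive_eq_zero (isDiagonalizable_of_surjective e.symm.toBialgHom
      (fun a => ⟨e a, e.symm_apply_apply a⟩) ?_) hx)
    rw [IsDiagonalizable, eq_top_iff]
    intro z _
    induction z using MonoidAlgebra.induction_on with
    | of m => exact Submodule.subset_span (MonoidAlgebra.isGroupLikeElem_of m)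
    | add p q hp hq => exact add_mem (hp trivial) (hq trivial)
    | smul c p hp => exact Submodule.smul_mem _ c (hp trivial)
  · exact ⟨(e : A ⧸ P →ₐc[k] SymmetricAlgebra k k).comp qP, e.surjective.comp Ideal.Quotient.mk_surjective⟩

/-- A connected commutative affine group is diagonalizable or maps non-trivially to the additive group. -/
theorem exists_primitive [IsDomain A] [Coalgebra.IsCocomm k A] :
    IsDiagonalizable k A ∨ ∃ x : A, x ≠ 0 ∧
      CoalgebraStruct.comul (R := k) x = x ⊗ₜ[k] (1 : A) + (1 : A) ⊗ₜ[k] x := by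
  obtain ⟨B, _, _, ψ, J, hJ, hψ, hB, hJe, hU⟩ := (S7967.result k A).1 (S3308.result k A)
  haveI := hJ
  obtain ⟨r, hr⟩ := S4128.result k A B (isDiag_of_isDiagonalizable hB) ψ hψ J hJe hU
  let π : WithConv (A →ₐ[k] A) := toConv (AlgHom.id k A) *
    (toConv ((ψ : B →ₐ[k] A).comp (r : A →ₐ[k] B)))⁻¹
  have hπ : ∀ b, π.ofConv (ψ b) = algebraMap k A (Coalgebra.counit (R := k) b) := fun b => by
    have h1 : UnipSplit.pull ψ π.ofConv = 1 := by
      show UnipSplit.pull ψ (toConv (AlgHom.id k A) *
        (toConv ((ψ : B →ₐ[k] A).comp (r : A →ₐ[k] B)))⁻¹).ofConv = 1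
      have e := UnipSplit.pull_mul ψ (AlgHom.id k A)
        ((toConv ((ψ : B →ₐ[k] A).comp (r : A →ₐ[k] B)))⁻¹).ofConv
      rw [← e, ← UnipSplit.pull_inv, mul_inv_eq_one]
      refine WithConv.ext (AlgHom.ext fun c => ?_)
      exact (congrArg (fun f : B →ₐc[k] B => ψ (f c)) hr).symm
    exact DFunLike.congr_fun (congrArg ofConv h1) b
  have hJπ : J ≤ RingHom.ker π.ofConv := by
    rw [hJe, Ideal.map_le_iff_le_comap]
    intro b hb
    show π.ofConv (ψ b) = 0
    rw [hπ, show Coalgebra.counit (R := k) b = 0 from hb, map_zero]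
  let s : A ⧸ J →ₐ[k] A := Ideal.Quotient.liftₐ J π.ofConv hJπ
  let q := Bialgebra.Quotient.mkBialgHom (R := k) J
  have hqψ : ∀ b, q (ψ b) = algebraMap k (A ⧸ J) (Coalgebra.counit (R := k) b) := fun b => by
    show Ideal.Quotient.mk J (ψ b) = Ideal.Quotient.mk J (algebraMap k A _)
    rw [Ideal.Quotient.eq, hJe, show algebraMap k A (Coalgebra.counit (R := k) b) =
      ψ (algebraMap k B (Coalgebra.counit (R := k) b)) from (AlgHomClass.commutes ψ _).symm, ← map_sub]
    exact Ideal.mem_map_of_mem _ (by simp [RingHom.mem_ker])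
  have hqπ : UnipSplit.push (q : A →ₐ[k] A ⧸ J) π = toConv (q : A →ₐ[k] A ⧸ J) := by
    rw [UnipSplit.push_mul, UnipSplit.push_inv, UnipSplit.push_toConv, UnipSplit.push_toConv, AlgHom.comp_id]
    rw [mul_inv_eq_iff_eq_mul, left_eq_mul]
    refine WithConv.ext (AlgHom.ext fun a => ?_)
    show q (ψ (r a)) = algebraMap k (A ⧸ J) (Coalgebra.counit (R := k) a)
    rw [hqψ, CoalgHomClass.counit_comp_apply]
  haveI : J.IsPrime := by
    rw [← Ideal.Quotient.isDomain_iff_prime]
    refine Function.Injective.isDomain s.toRingHom (fun z w hzw => ?_)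
    obtain ⟨z, rfl⟩ := Ideal.Quotient.mk_surjective z
    obtain ⟨w, rfl⟩ := Ideal.Quotient.mk_surjective w
    have hz : ∀ v, q (s (Ideal.Quotient.mk J v)) = q v := fun v => DFunLike.congr_fun (congrArg ofConv hqπ) v
    exact (hz z).symm.trans ((congrArg q hzw).trans (hz w))
  by_cases hJa : J = aug
  · left
    refine isDiagonalizable_of_surjective ψ (fun a => ⟨r a, ?_⟩) hB
    have h1 : π = 1 := WithConv.ext (AlgHom.ext fun c => by
      show π.ofConv c = algebraMap k A (Coalgebra.counit (R := k) c)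
      rw [← sub_eq_zero]
      have hc : c - algebraMap k A (Coalgebra.counit (R := k) c) ∈ J := by rw [hJa]; simp [RingHom.mem_ker]
      simpa using hJπ hc)
    exact (DFunLike.congr_fun (congrArg ofConv (mul_inv_eq_one.1 h1)) a).symm
  right
  let qJ := Bialgebra.Quotient.mkBialgHom (R := k) J
  haveI : (⊥ : Ideal (A ⧸ J)).IsHopfIdeal k :=
    { counit_eq_zero := fun z hz => by rw [(Submodule.mem_bot _).1 hz, map_zero]
      map_mkQ_comul_eq_zero := fun z hz => by rw [(Submodule.mem_bot _).1 hz, map_zero, map_zero]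
      antipode_mem := fun z hz => by rw [(Submodule.mem_bot _).1 hz, map_zero]; exact zero_mem _ }
  have hne : (⊥ : Ideal (A ⧸ J)) ≠ RingHom.ker (Bialgebra.counitAlgHom k (A ⧸ J)) := fun h => hJa (le_antisymm
    (fun a ha => Submodule.IsCoideal.counit_eq_zero (I := J.restrictScalars k) ha) fun a ha => by
      have h' : qJ a ∈ RingHom.ker (Bialgebra.counitAlgHom k (A ⧸ J)) := by
        show Coalgebra.counit (R := k) (qJ a) = 0
        rw [CoalgHomClass.counit_comp_apply]; exact ha
      rw [← h] at h'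
      exact Ideal.Quotient.eq_zero_iff_mem.1 h')
  obtain ⟨y', hy0', hy⟩ := (S3264.result k (A ⧸ J)).1 hU ⊥ hne
  obtain ⟨y, rfl⟩ := Ideal.Quotient.mk_surjective y'
  let j : (A ⧸ J) ⧸ (⊥ : Ideal (A ⧸ J)) →ₐ[k] A ⧸ J :=
    Ideal.Quotient.liftₐ _ (AlgHom.id k _) fun z hz => (Submodule.mem_bot _).1 hz
  have h3 := congrArg (TensorProduct.map j.toLinearMap j.toLinearMap) hy
  rw [map_add, TensorProduct.map_tmul, TensorProduct.map_tmul] at h3
  simp only [AlgHom.toLinearMap_apply, map_one] at h3
  have hy' : CoalgebraStruct.comul (R := k) y = y ⊗ₜ[k] (1 : A ⧸ J) + (1 : A ⧸ J) ⊗ₜ[k] y := by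
    refine Eq.trans ?_ h3
    show _ = TensorProduct.map j.toLinearMap j.toLinearMap
      (CoalgebraStruct.comul (R := k) (Bialgebra.Quotient.mkBialgHom (R := k) (⊥ : Ideal (A ⧸ J)) y))
    rw [← CoalgHomClass.map_comp_comul_apply (Bialgebra.Quotient.mkBialgHom (R := k) (⊥ : Ideal (A ⧸ J))) y]
    show _ = (TensorProduct.map j.toLinearMap j.toLinearMap ∘ₗ
      TensorProduct.map (Ideal.Quotient.mkₐ k (⊥ : Ideal (A ⧸ J))).toLinearMap
        (Ideal.Quotient.mkₐ k (⊥ : Ideal (A ⧸ J))).toLinearMap) (CoalgebraStruct.comul (R := k) y)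
    rw [← TensorProduct.map_comp, show j.toLinearMap ∘ₗ (Ideal.Quotient.mkₐ k (⊥ : Ideal (A ⧸ J))).toLinearMap =
      LinearMap.id from rfl, TensorProduct.map_id, LinearMap.id_apply]
  -- the retraction is a homomorphism of groups
  let i1 : A →ₐ[k] A ⊗[k] A := Algebra.TensorProduct.includeLeft
  let i2 : A →ₐ[k] A ⊗[k] A := Algebra.TensorProduct.includeRight
  have hc : toConv (Bialgebra.comulAlgHom k A) = toConv i1 * toConv i2 := DiagRep.toConv_comul
  have hπc : UnipSplit.push (Bialgebra.comulAlgHom k A) π = UnipSplit.push i1 π * UnipSplit.push i2 π := by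
    simp only [π, UnipSplit.push_mul, UnipSplit.push_inv, UnipSplit.push_toConv, AlgHom.comp_id]
    let g : A →ₐc[k] A := ψ.comp r
    have hg : toConv ((Bialgebra.comulAlgHom k A).comp ((ψ : B →ₐ[k] A).comp (r : A →ₐ[k] B))) =
        toConv (i1.comp ((ψ : B →ₐ[k] A).comp (r : A →ₐ[k] B))) *
          toConv (i2.comp ((ψ : B →ₐ[k] A).comp (r : A →ₐ[k] B))) := by
      have e := UnipSplit.pull_mul g i1 i2
      rw [← hc] at e
      exact e.symm
    rw [hc, hg, mul_inv_rev]
    have hcomm : ∀ a b : WithConv (A →ₐ[k] A ⊗[k] A), a * b = b * a := fun a b => mul_comm a b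
    have key : ∀ a b c d : WithConv (A →ₐ[k] A ⊗[k] A), a * b * (d⁻¹ * c⁻¹) = a * c⁻¹ * (b * d⁻¹) := fun a b c d => by
      rw [hcomm d⁻¹ c⁻¹, _root_.mul_assoc a b, ← _root_.mul_assoc b, hcomm b c⁻¹, _root_.mul_assoc, _root_.mul_assoc]
    exact key _ _ _ _
  have hπt : ∀ a, CoalgebraStruct.comul (R := k) (π.ofConv a) =
      TensorProduct.map π.ofConv.toLinearMap π.ofConv.toLinearMap (CoalgebraStruct.comul (R := k) a) := fun a => by
    have h := DFunLike.congr_fun (congrArg ofConv hπc) a
    refine h.trans ?_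
    show (UnipSplit.push i1 π * UnipSplit.push i2 π) a = _
    rw [AlgHom.convMul_apply]
    generalize CoalgebraStruct.comul (R := k) a = z
    induction z using TensorProduct.induction_on with
    | zero => simp
    | add p q hp hq => simp only [map_add, hp, hq]
    | tmul p q => simp [UnipSplit.push, i1, i2, Algebra.TensorProduct.tmul_mul_tmul]
  refine ⟨s y, fun h0 => hy0' ?_, ?_⟩
  · obtain ⟨a, rfl⟩ := Ideal.Quotient.mk_surjective y
    have e : q (π.ofConv a) = q a := DFunLike.congr_fun (congrArg ofConv hqπ) a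
    show Ideal.Quotient.mk ⊥ (q a) = 0
    rw [← e, show π.ofConv a = 0 from h0, map_zero, map_zero]
  · obtain ⟨a, rfl⟩ := Ideal.Quotient.mk_surjective y
    have h := congrArg (TensorProduct.map s.toLinearMap s.toLinearMap) hy'
    rw [map_add, TensorProduct.map_tmul, TensorProduct.map_tmul] at h
    simp only [AlgHom.toLinearMap_apply, map_one] at h
    refine Eq.trans ?_ h
    rw [show s (Ideal.Quotient.mk J a) = π.ofConv a from rfl, hπt,
      show (Ideal.Quotient.mk J a) = qJ a from rfl, ← CoalgHomClass.map_comp_comul_apply qJ a]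
    show _ = (TensorProduct.map s.toLinearMap s.toLinearMap ∘ₗ
      TensorProduct.map (Ideal.Quotient.mkₐ k J).toLinearMap (Ideal.Quotient.mkₐ k J).toLinearMap)
        (CoalgebraStruct.comul (R := k) a)
    rw [← TensorProduct.map_comp]
    rfl

end SemiAbLib

end
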