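import Groth.Agent.SemiAbLib.Basic
import Groth.Agent.FibDimLib.SchemeInv
import Groth.Agent.FibDimLib.Comps
import Groth.Agent.AlgSpLib.RelDim
import Groth.Agent.UOpenLib.FibreDim
import Groth.Agent.GrpHomLib.Field

/-!
Surjective homomorphisms between connected group varieties of the same dimension are finite.
-/

set_option autoImplicit false
set_option linter.style.haveILetI false
set_option backward.isDefEq.respectTransparency false
set_option maxHeartbeats 1000000

noncomputable section

universe u

open CategoryTheory CategoryTheory.Limits MonoidalCategory CartesianMonoidalCategory AlgebraicGeometry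
open scoped MonObj
open Groth.Agent AVAmpleLib

attribute [-instance] CategoryTheory.Hom.commGroup

namespace SemiAbLib

variable {k : Type u} [Field k]

/-- A surjective homomorphism between connected group varieties of the same dimension is finite. -/
theorem isFinite_of_surjective_of_dim {G H : Over (Spec (CommRingCat.of k))} [GrpObj G] [GrpObj H]
    [Smooth G.hom] [QuasiCompact G.hom] [ConnectedSpace G.left] [Smooth H.hom] [QuasiCompact H.hom]
    [ConnectedSpace H.left] (f : G ⟶ H) [IsMonHom f] [Surjective f.left]
    (hdim : topologicalKrullDim G.left = topologicalKrullDim H.left) : IsFinite f.left := by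
  haveI := AlbLib.geometricallyIntegral_grp G
  haveI := AlbLib.geometricallyIntegral_grp H
  haveI : IsIntegral G.left := GeometricallyIntegral.isIntegral_of_subsingleton G.hom
  haveI : IsIntegral H.left := GeometricallyIntegral.isIntegral_of_subsingleton H.hom
  haveI : IsSeparated H.hom := Groth.Agent.GrpField.isSeparated_grp (G := H)
  haveI : Flat f.left := AntiAffLib.flat_of_surjective f
  haveI : LocallyOfFinitePresentation f.left := AntiAffLib.lfp_of_lft f
  haveI : QuasiCompact f.left := by
    haveI : QuasiCompact (f.left ≫ H.hom) := by rw [Over.w f]; infer_instance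
    exact QuasiCompact.of_comp f.left H.hom
  haveI : LocallyQuasiFinite f.left := by
    rw [AlgSpLib.lqf_iff_fibreDimAt_eq_zero]
    intro x
    obtain ⟨n, hn⟩ := UOpenLib.exists_fibreDimAt_eq_nat f.left x
    obtain ⟨m, hm⟩ := UOpenLib.exists_fibreDimAt_eq_nat H.hom (f.left x)
    have e := FibDimLib.localDim_eq_add_fibreDimAt H.hom f.left x
    rw [FibDimLib.localDim_of_irreducible G.hom x, FibDimLib.localDim_of_irreducible H.hom (f.left x), hn, hdim] at e
    have hH : FlatMor.fibreDimAt H.hom (f.left x) = topologicalKrullDim H.left := by
      rw [AlgSpLib.fibreDimAt_eq_localDim, FibDimLib.localDim_of_irreducible H.hom (f.left x)]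
    rw [← hH, hm] at e
    rw [hn]
    have : (m : ℕ) = m + n := by exact_mod_cast e
    exact_mod_cast (show n = 0 by omega)
  exact Groth.Agent.GrpHom.isFinite_of_lqf f

/-- A surjective endomorphism of a connected group variety is finite. -/
theorem isFinite_of_surjective {G : Over (Spec (CommRingCat.of k))} [GrpObj G] [Smooth G.hom] [QuasiCompact G.hom]
    [ConnectedSpace G.left] (f : G ⟶ G) [IsMonHom f] [Surjective f.left] : IsFinite f.left :=
  isFinite_of_surjective_of_dim f rfl

end SemiAbLib

end
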