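import Groth.Agent.SemiAbLib.LargestSub
import Groth.Agent.ChevThmLib.Proper

/-!
The quotient by the largest semi-abelian subvariety has no semi-abelian subvariety.
-/

set_option autoImplicit false
set_option linter.style.haveILetI false
set_option backward.isDefEq.respectTransparency false
set_option maxHeartbeats 1000000

noncomputable section

universe u

open CategoryTheory CategoryTheory.Limits MonoidalCategory CartesianMonoidalCategory AlgebraicGeometry
open scoped MonObj
open Groth.Agent

attribute [-instance] CategoryTheory.Hom.commGroup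

namespace SemiAbLib

variable {k : Type u} [Field k] {G Q S : Over (Spec (CommRingCat.of k))} [GrpObj G] [GrpObj Q] [GrpObj S]

/-- A flat surjective homomorphism with smooth kernel is smooth. -/
theorem smooth_of_kernel [QuasiCompact G.hom] [LocallyOfFiniteType Q.hom] [Smooth S.hom] (s : S ⟶ G) (q : G ⟶ Q)
    [IsMonHom q] [Surjective q.left] [Flat q.left] (hk : AlgGrp.IsKernel s q) : Smooth q.left := by
  haveI : IsSeparated Q.hom := GrpField.isSeparated_grp (G := Q)
  haveI : QuasiCompact q.left := by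
    haveI : QuasiCompact (q.left ≫ Q.hom) := by rw [Over.w q]; infer_instance
    exact QuasiCompact.of_comp q.left Q.hom
  have hh : s ≫ q = 1 := by rw [hk.w, Hom.one_def]
  have sq : IsPullback ((fst S G ≫ s) * snd S G) (snd S G) q q := by
    refine IsPullback.of_isLimit' ⟨by rw [MonObj.mul_comp, Category.assoc, hh, MonObj.comp_one, _root_.one_mul]⟩
      (Limits.PullbackCone.IsLimit.mk _ (fun c =>
      lift (hk.lift (c.fst * c.snd⁻¹) (toUnit _) (by
        rw [MonObj.mul_comp, GrpObj.inv_comp, c.condition, mul_inv_cancel, Hom.one_def])) c.snd)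
      (fun c => ?_) (fun c => ?_) (fun c m hm₁ hm₂ => ?_))
    · simp [MonObj.comp_mul]
    · simp
    · refine CartesianMonoidalCategory.hom_ext _ _ ?_ (by simpa using hm₂)
      rw [lift_fst]
      refine hk.hom_ext ?_ (toUnit_unique _ _)
      rw [hk.lift_fst, ← hm₁, ← hm₂]
      simp [MonObj.comp_mul]
  haveI hsnd : Smooth (snd S G).left := MorphismProperty.pullback_snd (P := @Smooth) S.hom G.hom ‹Smooth S.hom›
  exact MorphismProperty.of_isPullback_of_descendsAlong (P := @Smooth)
    (Q := @Surjective ⊓ @Flat ⊓ @QuasiCompact) (sq.map (Over.forget _)).flip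
    ⟨⟨‹Surjective q.left›, ‹Flat q.left›⟩, ‹QuasiCompact q.left›⟩ hsnd

/-- Semi-abelian subvarieties of the quotient by the largest semi-abelian subvariety are trivial. -/
theorem isIso_eta_of_quot [IsCommMonObj G] [LocallyOfFiniteType G.hom] [QuasiCompact G.hom]
    [LocallyOfFiniteType Q.hom] [QuasiCompact Q.hom] (s : S ⟶ G) [IsMonHom s] [IsClosedImmersion s.left]
    (hS : IsSemiAb S)
    (hmax : ∀ (A : Over (Spec (CommRingCat.of k))) [GrpObj A] (a : A ⟶ G), IsMonHom a → IsClosedImmersion a.left →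
      IsSemiAb A → ∃ g : A ⟶ S, g ≫ s = a)
    (q : G ⟶ Q) [IsMonHom q] [Surjective q.left] [Flat q.left] (hk : AlgGrp.IsKernel s q)
    {R : Over (Spec (CommRingCat.of k))} [GrpObj R] (r : R ⟶ Q) [IsMonHom r] [IsClosedImmersion r.left]
    (hR : IsSemiAb R) : IsIso (η[R] : 𝟙_ (Over (Spec (CommRingCat.of k))) ⟶ R) := by
  haveI : LocallyOfFiniteType S.hom := by rw [← Over.w s]; infer_instance
  haveI : QuasiCompact S.hom := by rw [← Over.w s]; infer_instance
  haveI : LocallyOfFiniteType R.hom := by rw [← Over.w r]; infer_instance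
  haveI : QuasiCompact R.hom := by rw [← Over.w r]; infer_instance
  obtain ⟨hSs, hSc⟩ := hS.props
  obtain ⟨hRs, hRc⟩ := hR.props
  haveI := hSs; haveI := hSc; haveI := hRs; haveI := hRc
  haveI := smooth_of_kernel s q hk
  haveI : Mono r := Over.mono_of_mono_left r
  haveI : Mono s := Over.mono_of_mono_left s
  let sq := IsPullback.of_hasPullback q r
  let P := pullback q r
  let i : P ⟶ G := pullback.fst q r
  let π : P ⟶ R := pullback.snd q r
  haveI : IsClosedImmersion i.left := MorphismProperty.of_isPullback (P := @IsClosedImmersion)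
    (sq.map (Over.forget _)).flip ‹_›
  haveI : Smooth π.left := MorphismProperty.of_isPullback (P := @Smooth) (sq.map (Over.forget _)) ‹_›
  haveI : Surjective π.left := MorphismProperty.of_isPullback (P := @Surjective) (sq.map (Over.forget _)) ‹_›
  haveI : Mono i := Over.mono_of_mono_left i
  have hl : ∀ {T : Over (Spec (CommRingCat.of k))} (g : T ⟶ G) (t : T ⟶ R), g ≫ q = t ≫ r →
      ∃ l : T ⟶ P, l ≫ i = g := fun g t h => ⟨pullback.lift g t h, pullback.lift_fst _ _ _⟩
  have hc : i ≫ q = π ≫ r := pullback.condition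
  obtain ⟨_, hm⟩ := Groth.Agent.SubDesc.exists_grpObj_of_mono i
    (hl _ ((fst P P ≫ π) * (snd P P ≫ π)) (by
      rw [MonObj.mul_comp, MonObj.mul_comp, Category.assoc, Category.assoc, hc, Category.assoc, Category.assoc]))
    (hl 1 1 (by rw [MonObj.one_comp, MonObj.one_comp]))
    (hl _ π⁻¹ (by rw [GrpObj.inv_comp, GrpObj.inv_comp, hc]))
  haveI := hm
  haveI : IsMonHom π := by
    refine ⟨?_, ?_⟩
    · rw [← cancel_mono r, Category.assoc, ← hc, IsMonHom.one_hom r, ← Category.assoc, IsMonHom.one_hom i,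
        IsMonHom.one_hom q]
    · rw [← cancel_mono r, Category.assoc, ← hc, Category.assoc, IsMonHom.mul_hom r, ← Category.assoc μ[P],
        IsMonHom.mul_hom i, Category.assoc, IsMonHom.mul_hom q, ← Category.assoc, ← Category.assoc,
        tensorHom_comp_tensorHom, tensorHom_comp_tensorHom, hc]
  haveI : Smooth P.hom := by rw [← Over.w π]; infer_instance
  haveI : LocallyOfFiniteType P.hom := by rw [← Over.w i]; infer_instance
  haveI : QuasiCompact P.hom := by rw [← Over.w i]; infer_instance
  haveI : IsSeparated P.hom := GrpField.isSeparated_grp (G := P)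
  obtain ⟨P₀, _, i₀, hi₀, hi₀c, hi₀f, hi₀r, hP₀g, -⟩ := GrpField.exists_identity_component (G := P)
  haveI := hi₀; haveI := hi₀c; haveI := hi₀f; haveI := hP₀g
  haveI : LocallyOfFiniteType P₀.hom := by rw [← Over.w i₀]; infer_instance
  haveI : QuasiCompact P₀.hom := by rw [← Over.w i₀]; infer_instance
  haveI := AntiAffLib.lfp_of_lft i₀
  haveI : IsOpenImmersion i₀.left := IsOpenImmersion.of_flat_of_mono _
  haveI : Smooth P₀.hom := by rw [← Over.w i₀]; infer_instance
  haveI : IrreducibleSpace P₀.left := GeometricallyIrreducible.irreducibleSpace_of_subsingleton P₀.hom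
  haveI : Mono i₀ := Over.mono_of_mono_left i₀
  -- the lift of `S`
  obtain ⟨l, hli⟩ := hl s 1 (by rw [hk.w, ← Hom.one_def, MonObj.one_comp])
  haveI : IsMonHom l := by
    refine ⟨?_, ?_⟩
    · rw [← cancel_mono i, Category.assoc, hli, IsMonHom.one_hom s, IsMonHom.one_hom i]
    · rw [← cancel_mono i, Category.assoc, hli, IsMonHom.mul_hom s, Category.assoc, IsMonHom.mul_hom i,
        ← Category.assoc, tensorHom_comp_tensorHom, hli]
  have hrange : Set.range l.left ⊆ Set.range i₀.left := by
    rw [hi₀r, ← Groth.Agent.GrpField.connectedComponent_unit]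
    refine (isPreconnected_range l.left.continuous).subset_connectedComponent
      ⟨(η[S] : 𝟙_ (Over (Spec (CommRingCat.of k))) ⟶ S).left (IsLocalRing.closedPoint k), ?_⟩
    show ((η[S] : 𝟙_ (Over (Spec (CommRingCat.of k))) ⟶ S) ≫ l).left (IsLocalRing.closedPoint k) = _
    rw [IsMonHom.one_hom l]
    rfl
  let l₀ : S ⟶ P₀ := Over.homMk (IsOpenImmersion.lift i₀.left l.left hrange) (by
    rw [← Over.w i₀, ← Category.assoc, IsOpenImmersion.lift_fac]
    exact Over.w l)
  have hl₀ : l₀ ≫ i₀ = l := Over.OverMorphism.ext (IsOpenImmersion.lift_fac _ _ _)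
  haveI : IsMonHom l₀ := by
    refine ⟨?_, ?_⟩
    · rw [← cancel_mono i₀, Category.assoc, hl₀, IsMonHom.one_hom l, IsMonHom.one_hom i₀]
    · rw [← cancel_mono i₀, Category.assoc, hl₀, IsMonHom.mul_hom l, Category.assoc, IsMonHom.mul_hom i₀,
        ← Category.assoc, tensorHom_comp_tensorHom, hl₀]
  have hker₀ : AlgGrp.IsKernel l₀ (i₀ ≫ π) := by
    haveI : Mono l₀ := ⟨fun {Z} a b e => by
      rw [← cancel_mono s, ← hli, ← hl₀]
      simp only [← Category.assoc, e]⟩
    refine AntiAffLib.isKernel_of_forall _ _ ?_ fun T g hg => ?_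
    · rw [← Category.assoc, hl₀, ← cancel_mono r, Category.assoc, ← hc, ← Category.assoc, hli, MonObj.one_comp, hk.w,
        ← Hom.one_def]
    · obtain ⟨t, ht⟩ := AntiAffLib.exists_lift_kernel hk ((g ≫ i₀) ≫ i) (by
        rw [Category.assoc, hc, ← Category.assoc, Category.assoc g, hg, MonObj.one_comp])
      refine ⟨t, ?_⟩
      rw [← cancel_mono i₀, ← cancel_mono i, Category.assoc t, hl₀, Category.assoc t, hli, ht]
  have hP₀ : IsSemiAb P₀ := IsSemiAb.extension' hS hR l₀ (i₀ ≫ π) hker₀
  obtain ⟨g, hg⟩ := hmax P₀ (i₀ ≫ i) inferInstance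
    (by rw [Over.comp_left]; infer_instance) hP₀
  have h1 : (i₀ ≫ π) = 1 := by
    rw [← cancel_mono r, Category.assoc, ← hc, ← Category.assoc, ← hg, Category.assoc, hk.w, MonObj.one_comp,
      ← Hom.one_def, MonObj.comp_one]
  -- the component maps onto the connected group `R`
  have hcov : Set.range (i₀ ≫ π).left = Set.univ := by
    haveI : UniversallyOpen π.left := inferInstance
    haveI : IsOpenImmersion i₀.left := inferInstance
    have ho : IsOpen (Set.range (i₀ ≫ π).left) := by
      rw [Over.comp_left, Scheme.Hom.comp_base, TopCat.coe_comp, Set.range_comp]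
      exact π.left.isOpenMap _ i₀.left.isOpenEmbedding.isOpen_range
    haveI : IsSeparated R.hom := GrpField.isSeparated_grp (G := R)
    have hcl : IsClosed (Set.range (i₀ ≫ π).left) := by
      rw [h1, Hom.one_def, Over.comp_left, Scheme.Hom.comp_base, TopCat.coe_comp, Set.range_comp]
      haveI : IsClosedImmersion ((η[R] : 𝟙_ (Over (Spec (CommRingCat.of k))) ⟶ R).left ≫ R.hom) := by
        rw [Over.w]; exact inferInstanceAs (IsClosedImmersion (𝟙 (Spec (CommRingCat.of k))))
      haveI := IsClosedImmersion.of_comp (η[R] : 𝟙_ (Over (Spec (CommRingCat.of k))) ⟶ R).left R.hom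
      refine (η[R] : 𝟙_ (Over (Spec (CommRingCat.of k))) ⟶ R).left.isClosedEmbedding.isClosedMap _ ?_
      rw [show Set.range (toUnit P₀).left = Set.univ from Set.eq_univ_of_forall fun x =>
        ⟨(η[P₀] : 𝟙_ (Over (Spec (CommRingCat.of k))) ⟶ P₀).left (IsLocalRing.closedPoint k),
          @Subsingleton.elim (PrimeSpectrum k) _ _ _⟩]
      exact isClosed_univ
    exact IsClopen.eq_univ ⟨hcl, ho⟩
      ⟨_, (η[P₀] : 𝟙_ (Over (Spec (CommRingCat.of k))) ⟶ P₀).left (IsLocalRing.closedPoint k), rfl⟩
  haveI : Surjective (i₀ ≫ π).left := ⟨Set.range_eq_univ.1 hcov⟩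
  haveI : Flat (i₀ ≫ π).left := by rw [Over.comp_left]; infer_instance
  haveI := AntiAffLib.lfp_of_lft (i₀ ≫ π)
  haveI := Groth.Agent.MonoQuot.epi_over (i₀ ≫ π)
  have h2 : 𝟙 R = 1 := by rw [← cancel_epi (i₀ ≫ π), Category.comp_id, MonObj.comp_one, h1]
  exact ⟨toUnit R, toUnit_unique _ _, by rw [← Hom.one_def, h2]⟩

end SemiAbLib

end
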