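import Groth.Agent.SemiAbLib.Basic
import Groth.Agent.AlbLib.AffineHom
import Groth.Agent.AlbLib.Albanese
import Groth.Agent.S3030

/-!
In positive characteristic a connected commutative group whose multiplication by the characteristic is
surjective is semi-abelian.
-/

set_option autoImplicit false
set_option linter.style.haveILetI false
set_option backward.isDefEq.respectTransparency false
set_option maxHeartbeats 1000000

noncomputable section

universe u

open CategoryTheory CategoryTheory.Limits MonoidalCategory CartesianMonoidalCategory AlgebraicGeometry WithConv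
open scoped MonObj TensorProduct
open Groth.Agent CoactBr

attribute [-instance] CategoryTheory.Hom.commGroup
attribute [local instance] HopfFF.pointsGroup

namespace SemiAbLib

variable {k : Type u} [Field k] [IsAlgClosed k] (p : ℕ) (hp : (p : k) = 0) (hp0 : p ≠ 0)
include hp hp0

omit hp0 in
/-- The value of a power of the universal point on a primitive element. -/
theorem pow_primitive {A : Type u} [CommRing A] [HopfAlgebra k A] {x : A}
    (hx : CoalgebraStruct.comul (R := k) x = x ⊗ₜ[k] (1 : A) + (1 : A) ⊗ₜ[k] x) :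
    ((toConv (AlgHom.id k A)) ^ p).ofConv x = 0 := by
  have h : ∀ n : ℕ, ((toConv (AlgHom.id k A)) ^ n).ofConv x = n • x := fun n => by
    induction n with
    | zero =>
      rw [pow_zero, zero_smul]
      show algebraMap k A (Coalgebra.counit (R := k) x) = 0
      rw [show Coalgebra.counit (R := k) x = 0 from UnipHopf.counit_primitive hx, map_zero]
    | succ n ih => rw [pow_succ, UnipSplit.add_of_primitive hx, ih, succ_nsmul]; rfl
  rw [h, nsmul_eq_mul, ← map_natCast (algebraMap k A), hp, map_zero, zero_mul]

omit hp0 in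
/-- A connected affine commutative group on which multiplication by the characteristic is surjective is a torus. -/
theorem isTorus_of_pow_surjective (L : Over (Spec (CommRingCat.of k))) [GrpObj L] [IsCommMonObj L] [Smooth L.hom]
    [ConnectedSpace L.left] [IsAffine L.left] [Surjective (𝟙 L ^ p).left] : Red.IsTorus L := by
  obtain ⟨A, _, _, v, hv, hv', hft, hdom, hcc⟩ := exists_hopf_rep L
  haveI := hv; haveI := hv'; haveI := hft; haveI := hdom; haveI := hcc
  rcases exists_primitive (k := k) (A := A) with h | ⟨x, hx0, hx⟩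
  · exact isTorus_of_diag v h
  exfalso
  let φ : A →ₐ[k] A := ((toConv (AlgHom.id k A)) ^ p).ofConv
  have hφ : pt φ = v.hom ≫ (𝟙 L ^ p) ≫ v.inv := by
    rw [MonObj.pow_comp, MonObj.comp_pow, Category.id_comp, Iso.hom_inv_id, ← pt_id]
    exact map_pow Spec.mapMulEquiv (toConv (AlgHom.id k A)) p
  haveI : IsIso v.hom.left := (Over.forget _).map_isIso v.hom
  haveI : IsIso v.inv.left := (Over.forget _).map_isIso v.inv
  haveI hs : Surjective (pt φ).left := by rw [hφ, Over.comp_left, Over.comp_left]; infer_instance
  rw [pt_left] at hs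
  obtain ⟨P, hP⟩ := hs.surj (⟨⊥, Ideal.isPrime_bot⟩ : PrimeSpectrum A)
  have h0 : φ x ∈ P.asIdeal := by rw [pow_primitive p hp hx]; exact zero_mem _
  have h1 : x ∈ (⊥ : Ideal A) := by
    rw [show (⊥ : Ideal A) = P.asIdeal.comap φ.toRingHom from (congrArg PrimeSpectrum.asIdeal hP).symm]
    exact h0
  exact hx0 ((Submodule.mem_bot A).1 h1)

/-- A connected commutative group on which multiplication by the characteristic is surjective is semi-abelian. -/
theorem isSemiAb_of_pow_surjective (G : Over (Spec (CommRingCat.of k))) [GrpObj G] [IsCommMonObj G] [Smooth G.hom]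
    [QuasiCompact G.hom] [ConnectedSpace G.left] [Surjective (𝟙 G ^ p).left] : IsSemiAb G := by
  obtain ⟨N, _, i, hi, hmax⟩ := ChevThmLib.exists_gAff G
  obtain ⟨A, _, q, hqm, hqf, hqs, hker, hAp, hAs, hAc⟩ := ChevThmLib.exists_chevalley i hi hmax
  haveI := hi.hom; haveI := hi.closed; haveI := hi.smooth; haveI := hi.conn; haveI := hi.affine
  haveI := hqm; haveI := hqf; haveI := hqs; haveI := hAp; haveI := hAs; haveI := hAc
  haveI : Mono i := Over.mono_of_mono_left i
  haveI : IsCommMonObj N := AntiAffLib.CommCat.isComm_of_mono i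
  suffices h : Surjective (𝟙 N ^ p).left by
    exact ⟨N, inferInstance, i, A, inferInstance, q, hi.hom, hi.closed, isTorus_of_pow_surjective p hp N,
      hqm, hqs, hqf, hker, hAp, hAs, hAc⟩
  haveI : IsSeparated G.hom := GrpField.isSeparated_grp (G := G)
  haveI : CompactSpace G.left := QuasiCompact.compactSpace_of_compactSpace G.hom
  haveI : CompactSpace N.left := inferInstance
  haveI : QuasiCompact N.hom := quasiCompact_of_compactSpace _
  haveI : IsSeparated N.hom := GrpField.isSeparated_grp (G := N)
  let f := 𝟙 N ^ p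
  haveI hfm : IsMonHom f := by
    show IsMonHom (𝟙 N ^ p)
    rw [← zpow_natCast]; exact AbSchLib.isMonHom_zpow N (p : ℤ)
  haveI : QuasiCompact f.left := by
    haveI : QuasiCompact (f.left ≫ N.hom) := by rw [Over.w f]; infer_instance
    exact QuasiCompact.of_comp f.left N.hom
  obtain ⟨P, _, π, h, hpm, hhm, hph, hpf, hps, -, hhc⟩ :=
    GrpHom.exists_fppf_image f (GrpField.flat_field _)
  haveI := hhm; haveI := hhc; haveI := hps
  haveI : IsClosedImmersion (h ≫ i).left := by rw [Over.comp_left]; infer_instance
  haveI : Mono (h ≫ i) := Over.mono_of_mono_left _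
  haveI : LocallyOfFiniteType P.hom := by rw [← Over.w h]; infer_instance
  haveI : QuasiCompact P.hom := by rw [← Over.w h]; infer_instance
  haveI : Flat P.hom := GrpField.flat_field _
  haveI : Flat G.hom := inferInstance
  letI : CommGroup (P ⟶ G) := Hom.commGroup
  obtain ⟨Q, _, r, hrm, hrf, hrs, -, hrk, hQsep, -, hQsm⟩ := Groth.Agent.S3030.result k P G (h ≫ i)
    (fun T g m => ⟨m, by
      letI : CommGroup (T ⟶ G) := Hom.commGroup
      rw [_root_.mul_comm g, mul_inv_cancel_right]⟩)
  haveI := hrm; haveI := hrf; haveI := hrs; haveI := hQsm inferInstance; haveI := hQsep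
  haveI : CompactSpace Q.left := ⟨by rw [← r.left.surjective.range_eq]; exact isCompact_range r.left.continuous⟩
  haveI : QuasiCompact Q.hom := quasiCompact_of_compactSpace _
  haveI : LocallyOfFinitePresentation q.left := AntiAffLib.lfp_of_lft q
  haveI : IsMonHom ((𝟙 G ^ p) ≫ r) := by
    haveI : IsMonHom (𝟙 G ^ p) := by rw [← zpow_natCast]; exact AbSchLib.isMonHom_zpow G (p : ℤ)
    infer_instance
  have hiP : i ≫ (𝟙 G ^ p) ≫ r = 1 := by
    rw [← Category.assoc, MonObj.comp_pow, Category.comp_id, ← Category.id_comp i, ← MonObj.pow_comp]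
    show (f ≫ i) ≫ r = 1
    rw [← hph, Category.assoc, Category.assoc, ← Category.assoc h, AntiAffLib.kernel_comp hrk, MonObj.comp_one]
  obtain ⟨y, hy, hym⟩ := AntiAffLib.CommCat.exists_descend q ((𝟙 G ^ p) ≫ r) fun T a ha => by
    obtain ⟨t, rfl⟩ := AntiAffLib.exists_lift_kernel hker a ha
    rw [Category.assoc, hiP, MonObj.comp_one]
  haveI := hym
  haveI : Surjective y.left := by
    haveI : Surjective (q.left ≫ y.left) := by rw [← Over.comp_left, hy, Over.comp_left]; infer_instance
    exact Surjective.of_comp q.left y.left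
  haveI : IsProper Q.hom := by
    haveI : UniversallyClosed (y.left ≫ Q.hom) := by rw [Over.w y]; infer_instance
    haveI : UniversallyClosed Q.hom := UniversallyClosed.of_comp_surjective y.left Q.hom
    exact ⟨⟩
  obtain ⟨l, hl⟩ := AntiAffLib.exists_lift_kernel hrk i (AlbLib.eq_one_of_affine (i ≫ r))
  have hlh : l ≫ h = 𝟙 N := by rw [← cancel_mono i, Category.assoc, hl, Category.id_comp]
  refine ⟨fun x => ?_⟩
  obtain ⟨z, hz⟩ := π.left.surjective (l.left x)
  refine ⟨z, ?_⟩
  show f.left z = x
  rw [← hph, Over.comp_left, Scheme.Hom.comp_apply, hz, ← Scheme.Hom.comp_apply, ← Over.comp_left, hlh]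
  rfl

end SemiAbLib

end
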