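import Groth.Agent.SemiAbLib.CompExp
import Groth.Agent.SemiAbLib.CharP
import Groth.Agent.SemiAbLib.OverField
import Groth.Agent.DenseSubLib.Basic
import Groth.Agent.ChevThmLib.PtSub

/-!
In positive characteristic a power map lands in a semi-abelian subvariety.
-/

set_option autoImplicit false
set_option linter.style.haveILetI false
set_option backward.isDefEq.respectTransparency false
set_option maxHeartbeats 1000000

noncomputable section

universe u

open CategoryTheory CategoryTheory.Limits MonoidalCategory CartesianMonoidalCategory AlgebraicGeometry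
open scoped MonObj
open Groth.Agent AVAmpleLib

attribute [-instance] CategoryTheory.Hom.commGroup

namespace SemiAbLib

variable {k : Type u} [Field k]

/-- A power of a power map has stable image. -/
theorem exists_stable_image (p : ℕ) (G : Over (Spec (CommRingCat.of k))) [GrpObj G] [IsCommMonObj G]
    [LocallyOfFiniteType G.hom] [QuasiCompact G.hom] :
    ∃ (j : ℕ) (C : Over (Spec (CommRingCat.of k))) (_ : GrpObj C) (π : G ⟶ C) (i : C ⟶ G), IsMonHom π ∧
      IsMonHom i ∧ IsClosedImmersion i.left ∧ Surjective π.left ∧ π ≫ i = 𝟙 G ^ p ^ j ∧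
      Surjective (𝟙 C ^ p).left := by
  haveI : IsSeparated G.hom := GrpField.isSeparated_grp (G := G)
  haveI : Flat G.hom := GrpField.flat_field _
  have him : ∀ j : ℕ, ∃ (C : Over (Spec (CommRingCat.of k))) (_ : GrpObj C) (π : G ⟶ C) (i : C ⟶ G), IsMonHom π ∧
      IsMonHom i ∧ IsClosedImmersion i.left ∧ Surjective π.left ∧ π ≫ i = 𝟙 G ^ p ^ j := fun j => by
    haveI : IsMonHom (𝟙 G ^ p ^ j) := by rw [← zpow_natCast (𝟙 G) (p ^ j)]; exact AbSchLib.isMonHom_zpow G _
    haveI : QuasiCompact (𝟙 G ^ p ^ j).left := by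
      haveI : QuasiCompact ((𝟙 G ^ p ^ j).left ≫ G.hom) := by rw [Over.w]; infer_instance
      exact QuasiCompact.of_comp _ G.hom
    obtain ⟨C, _, π, i, hπ, hi, hπi, -, hπs, -, hic⟩ :=
      GrpHom.exists_fppf_image (𝟙 G ^ p ^ j) (GrpField.flat_field _)
    exact ⟨C, inferInstance, π, i, hπ, hi, hic, hπs, hπi⟩
  choose C hC π i hπm him hic hπs hπi using him
  have hr : ∀ j, Set.range (i j).left = Set.range (𝟙 G ^ p ^ j).left := fun j => by
    rw [← hπi j, Over.comp_left, Scheme.Hom.comp_base, TopCat.coe_comp]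
    exact ((hπs j).surj.range_comp _).symm
  haveI : IsLocallyNoetherian G.left := LocallyOfFiniteType.isLocallyNoetherian G.hom
  haveI : CompactSpace G.left := QuasiCompact.compactSpace_of_compactSpace G.hom
  haveI : IsNoetherian G.left := {}
  haveI : TopologicalSpace.NoetherianSpace G.left := inferInstance
  let Z : ℕ → TopologicalSpace.Closeds G.left := fun j =>
    ⟨Set.range (i j).left, by haveI := hic j; exact (i j).left.isClosedEmbedding.isClosed_range⟩
  obtain ⟨_, ⟨j, rfl⟩, hmin⟩ := WellFounded.has_min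
    (wellFounded_lt (α := TopologicalSpace.Closeds G.left)) (Set.range Z) (Set.range_nonempty _)
  refine ⟨j, C j, hC j, π j, i j, hπm j, him j, hic j, hπs j, hπi j, ?_⟩
  letI := hC j; haveI := him j; haveI := hπm j; haveI := hic j
  have hstep : Set.range (i (j + 1)).left = (𝟙 G ^ p).left '' Set.range (i j).left := by
    rw [hr, hr, ← Set.range_comp, ← TopCat.coe_comp, ← Scheme.Hom.comp_base, ← Over.comp_left, MonObj.comp_pow,
      Category.comp_id, ← pow_mul, ← pow_succ]
  have hle : Z (j + 1) ≤ Z j := by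
    intro x hx
    have hx' : x ∈ Set.range (i (j + 1)).left := hx
    rw [hr] at hx'
    obtain ⟨y, rfl⟩ := hx'
    show _ ∈ Set.range (i j).left
    rw [hr]
    refine ⟨(𝟙 G ^ p).left y, ?_⟩
    rw [← Scheme.Hom.comp_apply, ← Over.comp_left, MonObj.comp_pow, Category.comp_id, ← pow_mul, ← pow_succ']
  have heq : Z (j + 1) = Z j := by
    by_contra hne
    exact hmin _ ⟨_, rfl⟩ (lt_of_le_of_ne hle hne)
  refine ⟨fun c => ?_⟩
  have hc : (i j).left c ∈ Set.range (i (j + 1)).left := by
    show _ ∈ (Z (j + 1) : Set G.left)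
    rw [heq]; exact ⟨c, rfl⟩
  rw [hstep] at hc
  obtain ⟨_, ⟨d, rfl⟩, hd⟩ := hc
  refine ⟨d, (i j).left.isClosedEmbedding.injective ?_⟩
  have e : (𝟙 (C j) ^ p) ≫ i j = i j ≫ (𝟙 G ^ p) := by
    rw [MonObj.pow_comp, Category.id_comp, MonObj.comp_pow, Category.comp_id]
  rw [← Scheme.Hom.comp_apply, ← Over.comp_left, e, Over.comp_left, Scheme.Hom.comp_apply]
  exact hd



/-- In positive characteristic some power map factors through a semi-abelian subvariety. -/
theorem exists_semiAb_exponent (p : ℕ) [Fact p.Prime] [CharP k p] (G : Over (Spec (CommRingCat.of k))) [GrpObj G] [IsCommMonObj G]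
    [LocallyOfFiniteType G.hom] [QuasiCompact G.hom] :
    ∃ (S : Over (Spec (CommRingCat.of k))) (_ : GrpObj S) (s : S ⟶ G) (n : ℕ), IsMonHom s ∧
      IsClosedImmersion s.left ∧ IsSemiAb S ∧ 0 < n ∧ ∃ g : G ⟶ S, g ≫ s = 𝟙 G ^ n := by
  haveI : IsSeparated G.hom := GrpField.isSeparated_grp (G := G)
  obtain ⟨G₀, _, i₀, hi₀, hi₀c, hi₀f, -, hG₀g, -⟩ := GrpField.exists_identity_component (G := G)
  haveI := hi₀; haveI := hi₀c; haveI := hi₀f; haveI := hG₀g
  haveI : LocallyOfFiniteType G₀.hom := by rw [← Over.w i₀]; infer_instance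
  haveI : QuasiCompact G₀.hom := by rw [← Over.w i₀]; infer_instance
  haveI : Mono i₀ := Over.mono_of_mono_left i₀
  haveI : IsCommMonObj G₀ := AntiAffLib.CommCat.isComm_of_mono i₀
  haveI := AntiAffLib.lfp_of_lft i₀
  haveI : IsOpenImmersion i₀.left := IsOpenImmersion.of_flat_of_mono _
  obtain ⟨n₀, hn₀, c, hc⟩ := exists_pow_component i₀
  obtain ⟨j, C, _, π, iC, hπm, hiC, hiCc, hπs, hπi, hCp⟩ := exists_stable_image p G₀
  haveI := hπm; haveI := hiC; haveI := hiCc; haveI := hπs
  haveI : LocallyOfFiniteType C.hom := by rw [← Over.w iC]; infer_instance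
  haveI : QuasiCompact C.hom := by rw [← Over.w iC]; infer_instance
  haveI : Mono iC := Over.mono_of_mono_left iC
  haveI : IsCommMonObj C := AntiAffLib.CommCat.isComm_of_mono iC
  let K := AlgebraicClosure k
  let F := AVAmpleLib.bcF (k := k) K
  letI : GrpObj (F.obj C) := Functor.grpObjObj
  haveI : IsCommMonObj (F.obj C) := Functor.isCommMonObj_obj (F := F)
  haveI : LocallyOfFiniteType (F.obj C).hom := inferInstanceAs (LocallyOfFiniteType (pullback.snd C.hom _))
  haveI : QuasiCompact (F.obj C).hom := inferInstanceAs (QuasiCompact (pullback.snd C.hom _))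
  haveI : GeometricallyIrreducible (F.obj G₀).hom :=
    inferInstanceAs (GeometricallyIrreducible (pullback.snd G₀.hom _))
  haveI : IrreducibleSpace (F.obj G₀).left :=
    GeometricallyIrreducible.irreducibleSpace_of_subsingleton (F.obj G₀).hom
  haveI : Surjective (F.map π).left :=
    MorphismProperty.of_isPullback (P := @Surjective) (AVAmpleLib.isPullback_bc _ π) hπs
  haveI : ConnectedSpace (F.obj C).left := (F.map π).left.surjective.connectedSpace (F.map π).left.continuous
  obtain ⟨R, _, r, hrm, hrc, hRs, hRr⟩ := DenseSubLib.exists_smooth_subgroup (A := F.obj C) ⊤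
  haveI := hrm; haveI := hrc; haveI := hRs
  haveI : Mono r := Over.mono_of_mono_left r
  haveI : QuasiCompact R.hom := by rw [← Over.w r]; infer_instance
  haveI hrs : Surjective r.left := ⟨fun y => by
    rw [← Set.mem_range, hRr]
    exact ChevThmLib.forall_mem_of_points isClosed_closure
      (fun x => subset_closure (Set.mem_image_of_mem _ (Subgroup.mem_top x))) y⟩
  haveI : ConnectedSpace R.left :=
    let h := r.left.isClosedEmbedding.isEmbedding.toHomeomorphOfSurjective r.left.surjective
    h.symm.surjective.connectedSpace h.symm.continuous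
  haveI : IsReduced R.left := AlgSpLib.isReduced_of_smooth R.hom
  haveI : IsCommMonObj R := AntiAffLib.CommCat.isComm_of_mono r
  haveI : Surjective (𝟙 R ^ p).left := by
    haveI : Surjective (F.map (𝟙 C ^ p)).left :=
      MorphismProperty.of_isPullback (P := @Surjective) (AVAmpleLib.isPullback_bc _ (𝟙 C ^ p)) hCp
    refine ⟨fun x => ?_⟩
    obtain ⟨y, hy⟩ := (F.map (𝟙 C ^ p)).left.surjective (r.left x)
    obtain ⟨y', rfl⟩ := r.left.surjective y
    refine ⟨y', r.left.isClosedEmbedding.injective ?_⟩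
    have e : (𝟙 R ^ p) ≫ r = r ≫ F.map (𝟙 C ^ p) := by
      rw [map_pow_id, MonObj.pow_comp, Category.id_comp, MonObj.comp_pow, Category.comp_id]
    rw [← Scheme.Hom.comp_apply, ← Over.comp_left, e, Over.comp_left, Scheme.Hom.comp_apply]
    exact hy
  haveI : CharP K p := charP_of_injective_algebraMap (algebraMap k K).injective p
  have hR : IsSemiAb R := isSemiAb_of_pow_surjective p (CharP.cast_eq_zero K p) (Fact.out : p.Prime).ne_zero R
  obtain ⟨m, S, _, s, ρ, e, hm, hs, hsc, hρ, -, -, hρs, he, -, hSs⟩ :=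
    exists_smooth_sub K C R r fun m hm => (hR.pow_spec hm).2.1
  haveI := hs; haveI := hsc; haveI := hSs; haveI := he
  haveI : LocallyOfFiniteType S.hom := by rw [← Over.w s]; infer_instance
  haveI : QuasiCompact S.hom := by rw [← Over.w s]; infer_instance
  letI : GrpObj (F.obj S) := Functor.grpObjObj
  haveI : Smooth (F.obj S).hom := inferInstanceAs (Smooth (pullback.snd S.hom _))
  haveI : QuasiCompact (F.obj S).hom := inferInstanceAs (QuasiCompact (pullback.snd S.hom _))
  haveI : IsIso e.inv.left := inferInstanceAs (IsIso ((Over.forget _).map e.inv))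
  haveI : ConnectedSpace (F.obj S).left := e.inv.left.surjective.connectedSpace e.inv.left.continuous
  haveI : IsMonHom e.inv := inferInstance
  have hS : IsSemiAb S := isSemiAb_of_bc K S (hR.quotient (H := F.obj S) e.inv)
  refine ⟨S, inferInstance, s ≫ iC ≫ i₀, n₀ * p ^ j * m, inferInstance,
    by rw [Over.comp_left, Over.comp_left]; infer_instance, hS,
    Nat.pos_of_ne_zero (Nat.mul_ne_zero (Nat.mul_ne_zero hn₀ (pow_ne_zero _ (Fact.out : p.Prime).ne_zero)) hm),
    c ≫ π ≫ ρ, ?_⟩
  have e1 : 𝟙 G ^ (n₀ * p ^ j) = c ≫ π ≫ iC ≫ i₀ := by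
    rw [← Category.assoc π, hπi, pow_mul, ← hc, MonObj.pow_comp, Category.id_comp, MonObj.comp_pow]
  rw [pow_mul, e1, Category.assoc, Category.assoc, ← Category.assoc ρ, hρs, MonObj.pow_comp, Category.id_comp,
    MonObj.comp_pow, MonObj.comp_pow]

end SemiAbLib

end
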