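import Groth.Agent.SemiAbLib.OverField
import Groth.Agent.SemiAbLib.FinIsog

/-!
Powers on a semi-abelian variety over any field.
-/

set_option autoImplicit false
set_option linter.style.haveILetI false
set_option backward.isDefEq.respectTransparency false
set_option maxHeartbeats 1000000

noncomputable section

universe u

open CategoryTheory CategoryTheory.Limits MonoidalCategory CartesianMonoidalCategory AlgebraicGeometry
open scoped MonObj
open Groth.Agent

attribute [-instance] CategoryTheory.Hom.commGroup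

namespace SemiAbLib

variable {k : Type u} [Field k]

/-- Nonzero powers on a semi-abelian variety are isogenies. -/
theorem IsSemiAb.pow_spec' {S : Over (Spec (CommRingCat.of k))} [GrpObj S] [LocallyOfFiniteType S.hom]
    [QuasiCompact S.hom] (hS : IsSemiAb S) {n : ℕ} (hn : n ≠ 0) :
    IsMonHom (𝟙 S ^ n) ∧ Surjective (𝟙 S ^ n).left ∧ Flat (𝟙 S ^ n).left ∧ IsFinite (𝟙 S ^ n).left := by
  obtain ⟨hs, hc⟩ := hS.props
  haveI := hs; haveI := hc
  let K := AlgebraicClosure k
  let F := AVAmpleLib.bcF (k := k) K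
  letI : GrpObj (F.obj S) := Functor.grpObjObj
  have hB := isSemiAb_bc K hS
  haveI hcB : IsCommMonObj (F.obj S) := hB.comm.2
  haveI : IsCommMonObj S := ⟨by
    have h3 : fst S S * snd S S = snd S S * fst S S := by
      refine AVAmpleLib.map_injective K ?_
      letI : CommGroup (F.obj (S ⊗ S) ⟶ F.obj S) := Hom.commGroup
      rw [show F.map (fst S S * snd S S) = F.map (fst S S) * F.map (snd S S) from
          map_mul (Functor.homMonoidHom F : (S ⊗ S ⟶ S) →* _) _ _,
        show F.map (snd S S * fst S S) = F.map (snd S S) * F.map (fst S S) from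
          map_mul (Functor.homMonoidHom F : (S ⊗ S ⟶ S) →* _) _ _, _root_.mul_comm]
    have hb : (β_ S S).hom = lift (snd S S) (fst S S) := CartesianMonoidalCategory.hom_ext _ _ (by simp) (by simp)
    have hm : μ[S] = fst S S * snd S S := by rw [Hom.mul_def, lift_fst_snd, Category.id_comp]
    rw [hb]
    show lift (snd S S) (fst S S) ≫ μ[S] = μ[S]
    conv_rhs => rw [hm, h3]
    rw [Hom.mul_def]⟩
  haveI hm : IsMonHom (𝟙 S ^ n) := by rw [← zpow_natCast (𝟙 S) n]; exact AbSchLib.isMonHom_zpow S _
  haveI : Surjective (F.map (𝟙 S ^ n)).left := by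
    rw [map_pow_id K S n]; exact (hB.pow_spec hn).2.1
  haveI : Surjective (pullback.fst S.hom (Spec.map (CommRingCat.ofHom (algebraMap k K)))) :=
    MorphismProperty.pullback_fst (P := @Surjective) _ _ (surjective_spec K)
  haveI : Surjective (pullback.fst S.hom (Spec.map (CommRingCat.ofHom (algebraMap k K))) ≫ (𝟙 S ^ n).left) := by
    rw [(AVAmpleLib.isPullback_bc K (𝟙 S ^ n)).w]; infer_instance
  haveI hsurj : Surjective (𝟙 S ^ n).left :=
    Surjective.of_comp (pullback.fst S.hom (Spec.map (CommRingCat.ofHom (algebraMap k K)))) _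
  haveI : IsReduced S.left := AlgSpLib.isReduced_of_smooth S.hom
  exact ⟨hm, hsurj, AntiAffLib.flat_of_surjective _, isFinite_of_surjective _⟩

/-- A semi-abelian variety of finite exponent is trivial. -/
theorem IsSemiAb.isIso_eta_of_pow_eq_one {S : Over (Spec (CommRingCat.of k))} [GrpObj S] [LocallyOfFiniteType S.hom]
    [QuasiCompact S.hom] (hS : IsSemiAb S) {n : ℕ} (hn : n ≠ 0) (h : 𝟙 S ^ n = 1) :
    IsIso (η[S] : 𝟙_ (Over (Spec (CommRingCat.of k))) ⟶ S) := by
  obtain ⟨-, h2, h3, -⟩ := hS.pow_spec' hn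
  haveI := AntiAffLib.lfp_of_lft (𝟙 S ^ n)
  haveI := h2; haveI := h3
  haveI := Groth.Agent.MonoQuot.epi_over (𝟙 S ^ n)
  have e : 𝟙 S = 1 := by
    rw [← cancel_epi (𝟙 S ^ n), Category.comp_id, MonObj.comp_one, h]
  exact ⟨toUnit S, toUnit_unique _ _, by rw [← Hom.one_def, e]⟩

end SemiAbLib

end
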