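import Groth.Agent.SemiAbLib.SemiDescent
import Groth.Agent.AlbLib.Albanese
import Groth.Agent.S3030

/-!
A power map of a commutative algebraic group lands in the identity component.
-/

set_option autoImplicit false
set_option linter.style.haveILetI false
set_option backward.isDefEq.respectTransparency false
set_option maxHeartbeats 1000000

noncomputable section

universe u

open CategoryTheory CategoryTheory.Limits MonoidalCategory CartesianMonoidalCategory AlgebraicGeometry
open scoped MonObj
open Groth.Agent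

attribute [-instance] CategoryTheory.Hom.commGroup

namespace SemiAbLib

variable {k : Type u} [Field k]

/-- A commutative group with open unit section is killed by a positive integer. -/
theorem exists_pow_eq_one_of_etale (E : Over (Spec (CommRingCat.of k))) [GrpObj E] [IsCommMonObj E] [Etale E.hom]
    [IsFinite E.hom] : ∃ n : ℕ, n ≠ 0 ∧ (𝟙 E) ^ n = 1 := by
  let K := AlgebraicClosure k
  let F := AVAmpleLib.bcF (k := k) K
  letI : GrpObj (F.obj E) := Functor.grpObjObj
  haveI : IsFinite (F.obj E).hom := inferInstanceAs (IsFinite (pullback.snd E.hom _))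
  haveI : Etale (F.obj E).hom := inferInstanceAs (Etale (pullback.snd E.hom _))
  haveI : IsReduced (F.obj E).left := AlgSpLib.isReduced_of_smooth (F.obj E).hom
  haveI : IsSeparated (F.obj E).hom := inferInstance
  haveI : LocallyOfFiniteType (F.obj E).hom := inferInstance
  haveI : Finite ↥(F.obj E).left := by
    have h := (F.obj E).hom.finite_preimage_singleton (IsLocalRing.closedPoint K)
    rw [show (F.obj E).hom ⁻¹' {IsLocalRing.closedPoint K} = Set.univ from
      Set.eq_univ_of_forall fun x => @Subsingleton.elim (PrimeSpectrum K) _ _ _] at h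
    exact Set.finite_univ_iff.1 h
  haveI : Finite (𝟙_ (Over (Spec (CommRingCat.of K))) ⟶ F.obj E) :=
    Finite.of_injective (fun x => x.left (IsLocalRing.closedPoint K)) fun x y h =>
      Over.OverMorphism.ext (ext_of_apply_closedPoint_eq (F.obj E).hom (Over.w _) (Over.w _) h)
  refine ⟨Nat.card (𝟙_ (Over (Spec (CommRingCat.of K))) ⟶ F.obj E), Nat.card_pos.ne', ?_⟩
  refine AVAmpleLib.map_injective K ?_
  rw [map_pow_id, map_one_pt]
  refine hom_ext_of_dense Set.univ (closure_pt_univ _) _ _ fun x _ => ?_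
  rw [MonObj.comp_pow, Category.comp_id, MonObj.comp_one, pow_card_eq_one']

/-- A power map of a commutative algebraic group lands in the identity component. -/
theorem exists_pow_component {G G₀ : Over (Spec (CommRingCat.of k))} [GrpObj G] [IsCommMonObj G]
    [LocallyOfFiniteType G.hom] [QuasiCompact G.hom] [GrpObj G₀] (i₀ : G₀ ⟶ G) [IsMonHom i₀]
    [IsClosedImmersion i₀.left] [IsOpenImmersion i₀.left] :
    ∃ n : ℕ, n ≠ 0 ∧ ∃ c : G ⟶ G₀, c ≫ i₀ = 𝟙 G ^ n := by
  haveI : IsSeparated G.hom := GrpField.isSeparated_grp (G := G)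
  haveI : LocallyOfFiniteType G₀.hom := by rw [← Over.w i₀]; infer_instance
  haveI : QuasiCompact G₀.hom := by rw [← Over.w i₀]; infer_instance
  haveI : Flat G₀.hom := GrpField.flat_field _
  haveI : Flat G.hom := GrpField.flat_field _
  haveI : Mono i₀ := Over.mono_of_mono_left i₀
  obtain ⟨Q, _, q, hqm, hqf, hqs, hqp, hqk, hQsep, -, -⟩ := Groth.Agent.S3030.result k G₀ G i₀
    (fun T g m => ⟨m, by
      letI : CommGroup (T ⟶ G) := Hom.commGroup
      rw [_root_.mul_comm g, mul_inv_cancel_right]⟩)
  haveI := hqm; haveI := hqf; haveI := hqs; haveI := hqp; haveI := hQsep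
  haveI : IsCommMonObj Q := AntiAffLib.CommCat.isComm_of_epi q
  haveI : LocallyOfFiniteType Q.hom := by
    haveI : LocallyOfFiniteType (q.left ≫ Q.hom) := by rw [Over.w q]; infer_instance
    exact Groth.Agent.S5938.result q.left Q.hom
  haveI : IsFinite Q.hom := AlbLib.isFinite_of_open_kernel i₀ q hqk
  haveI : IsOpenImmersion (η[Q] : 𝟙_ (Over (Spec (CommRingCat.of k))) ⟶ Q).left := by
    haveI : IsClosedImmersion (η[Q] : 𝟙_ (Over (Spec (CommRingCat.of k))) ⟶ Q).left := by
      haveI : IsClosedImmersion ((η[Q] : 𝟙_ (Over (Spec (CommRingCat.of k))) ⟶ Q).left ≫ Q.hom) := by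
        rw [Over.w]; exact inferInstanceAs (IsClosedImmersion (𝟙 (Spec (CommRingCat.of k))))
      exact IsClosedImmersion.of_comp _ Q.hom
    haveI : QuasiCompact q.left := by
      haveI : QuasiCompact (q.left ≫ Q.hom) := by rw [Over.w q]; infer_instance
      exact QuasiCompact.of_comp q.left Q.hom
    haveI : Flat (η[Q] : 𝟙_ (Over (Spec (CommRingCat.of k))) ⟶ Q).left :=
      MorphismProperty.of_isPullback_of_descendsAlong (P := @Flat) (Q := @Surjective ⊓ @Flat ⊓ @QuasiCompact)
        (hqk.map (Over.forget _)) ⟨⟨‹Surjective q.left›, ‹Flat q.left›⟩, ‹QuasiCompact q.left›⟩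
        (inferInstance : Flat i₀.left)
    haveI : LocallyOfFiniteType (𝟙_ (Over (Spec (CommRingCat.of k)))).hom :=
      inferInstanceAs (LocallyOfFiniteType (𝟙 _))
    haveI := AntiAffLib.lfp_of_lft (η[Q] : 𝟙_ (Over (Spec (CommRingCat.of k))) ⟶ Q)
    exact IsOpenImmersion.of_flat_of_mono _
  haveI := AntiAffLib.etale_of_open_unit (P := Q)
  obtain ⟨n, hn, hnQ⟩ := exists_pow_eq_one_of_etale Q
  obtain ⟨c, hc⟩ := AntiAffLib.exists_lift_kernel hqk (𝟙 G ^ n) (by
    rw [MonObj.pow_comp, Category.id_comp, ← Category.comp_id q, ← MonObj.comp_pow, hnQ, MonObj.comp_one])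
  exact ⟨n, hn, c, hc⟩

end SemiAbLib

end
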