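import Groth.Agent.SemiAbLib.TorusOrGa
import Groth.Agent.AVAmpleLib.BcTate

/-!
The base change of a torus to an algebraically closed field.
-/

set_option autoImplicit false
set_option linter.style.haveILetI false
set_option backward.isDefEq.respectTransparency false
set_option maxHeartbeats 1000000

noncomputable section

universe u

open CategoryTheory CategoryTheory.Limits MonoidalCategory CartesianMonoidalCategory AlgebraicGeometry
open scoped MonObj TensorProduct
open Groth.Agent CoactBr

attribute [-instance] CategoryTheory.Hom.commGroup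

namespace SemiAbLib

variable {k : Type u} [Field k] (K : Type u) [Field K] [Algebra k K]

/-- A splitting is a basis of group-like elements. -/
theorem exists_glBasis_of_split {A : Type u} [CommRing A] [HopfAlgebra k A] {M : Type} [AddCommGroup M]
    (E : TorusField.Split k A M K) : Nonempty (DiagRep.GLBasis K M (K ⊗[k] A)) := by
  let c : (K ⊗[k] A) ⊗[K] (K ⊗[k] A) →ₐ[K] K ⊗[k] (A ⊗[k] A) :=
    Algebra.TensorProduct.lift (TorusField.J₁ k A K) (TorusField.J₂ k A K) fun _ _ => Commute.all _ _
  let d : K ⊗[k] (A ⊗[k] A) →ₐ[K] (K ⊗[k] A) ⊗[K] (K ⊗[k] A) :=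
    Algebra.TensorProduct.lift (Algebra.ofId K _)
      (Algebra.TensorProduct.productMap
        (((Algebra.TensorProduct.includeLeft : K ⊗[k] A →ₐ[K] (K ⊗[k] A) ⊗[K] (K ⊗[k] A)).restrictScalars k).comp
          Algebra.TensorProduct.includeRight)
        (((Algebra.TensorProduct.includeRight : K ⊗[k] A →ₐ[K] (K ⊗[k] A) ⊗[K] (K ⊗[k] A)).restrictScalars k).comp
          Algebra.TensorProduct.includeRight)) fun _ _ => Commute.all _ _
  have hdc : d.comp c = AlgHom.id K _ := by
    refine Algebra.TensorProduct.ext ?_ ?_ <;>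
      refine Algebra.TensorProduct.ext (Subsingleton.elim _ _) (AlgHom.ext fun a => ?_) <;>
      simp [c, d, TorusField.J₁, TorusField.J₂, ← Algebra.TensorProduct.one_def]
  have hc : Function.Injective c := fun z w h => by
    simpa [← AlgHom.comp_apply, hdc] using congrArg d h
  have e : c.comp (Bialgebra.comulAlgHom K (K ⊗[k] A)) = TorusField.D k A K := by
    refine Algebra.TensorProduct.ext (Subsingleton.elim _ _) (AlgHom.ext fun a => ?_)
    simp only [AlgHom.comp_apply, AlgHom.coe_restrictScalars', Algebra.TensorProduct.includeRight_apply,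
      Bialgebra.comulAlgHom_apply, TensorProduct.comul_tmul, CommSemiring.comul_apply, TorusField.D,
      Algebra.TensorProduct.map_tmul, AlgHom.id_apply]
    generalize CoalgebraStruct.comul (R := k) a = z
    induction z using TensorProduct.induction_on with
    | zero => simp
    | add p q hp hq => simp only [TensorProduct.tmul_add, map_add, hp, hq]
    | tmul p q =>
      simp [c, TorusField.J₁, TorusField.J₂, TensorProduct.AlgebraTensorModule.tensorTensorTensorComm_tmul,
        Algebra.TensorProduct.tmul_mul_tmul]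
  have e' : Bialgebra.counitAlgHom K (K ⊗[k] A) = TorusField.ev1 k A K := by
    refine Algebra.TensorProduct.ext (Subsingleton.elim _ _) (AlgHom.ext fun a => ?_)
    simp [TorusField.ev1, TensorProduct.counit_tmul, Algebra.smul_def]
  refine ⟨⟨E.e, E.e_zero, fun a b => (E.e_add a b).symm, fun a => hc ?_, fun a => ?_⟩⟩
  · show c.comp (Bialgebra.comulAlgHom K (K ⊗[k] A)) (E.e a) = _
    rw [e, (E.gl a).1]
    simp [c]
  · show Bialgebra.counitAlgHom K (K ⊗[k] A) (E.e a) = 1
    rw [e', (E.gl a).2]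

/-- The base change of a torus to an algebraically closed field is a torus. -/
theorem isTorus_bc [IsAlgClosed K] {T : Over (Spec (CommRingCat.of k))} [GrpObj T] (hT : Red.IsTorus T) :
    Red.IsTorus (Red.bc (Spec.map (CommRingCat.ofHom (algebraMap k K))) T) := by
  obtain ⟨S', f, -, hfs, -, hloc⟩ := hT
  obtain ⟨s', -⟩ := hfs.surj (IsLocalRing.closedPoint k)
  obtain ⟨U, hU, r, ⟨e⟩⟩ := hloc s'
  let u : U.toScheme := ⟨s', hU⟩
  let L : Type u := U.toScheme.residueField u
  let g : Spec (CommRingCat.of L) ⟶ U.toScheme := U.toScheme.fromSpecResidueField u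
  letI : Algebra k L := (Spec.preimage (g ≫ U.ι ≫ f)).hom.toAlgebra
  have hh : Spec.map (CommRingCat.ofHom (algebraMap k L)) = g ≫ U.ι ≫ f := Spec.map_preimage _
  have hsplit : Red.IsSplitTorusWith (Fin r → ℤ) (Red.bc (DiagRep.baseHom k L) T) := by
    show Red.IsSplitTorusWith (Fin r → ℤ) (Red.bc (Spec.map (CommRingCat.ofHom (algebraMap k L))) T)
    rw [hh]
    obtain ⟨ψ, h1, h2⟩ := AlbLib.exists_split_at g (U.ι ≫ f) T _ e
    haveI := h1; haveI := h2
    exact ⟨Grp.mkIso (asIso ψ) (IsMonHom.one_hom ψ) (IsMonHom.mul_hom ψ)⟩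
  obtain ⟨A, _, _, v, hv, hv', ⟨E⟩⟩ := TorusField.exists_torus_rep T K ⟨L, inferInstance, inferInstance, hsplit⟩
  obtain ⟨E'⟩ := exists_glBasis_of_split K E
  obtain ⟨w₀, hw₀, hw₀'⟩ := TorusField.exists_iso_of_basis (DiagRep.monoidAlgebraBasis K (Fin r → ℤ)) E'
  obtain ⟨w, hw, hw'⟩ := TorusField.exists_DS_iso K (Fin r → ℤ)
  let ξ : Spec (CommRingCat.of K) ⟶ Spec (CommRingCat.of k) := Spec.map (CommRingCat.ofHom (algebraMap k K))
  haveI hb : IsMonHom (M := Red.bc ξ (sp k A)) (N := Red.bc ξ T) ((Over.pullback ξ).map v.hom) :=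
    @Functor.map.instIsMonHom _ _ _ _ _ _ (Over.pullback ξ) _ _ _ _ _ v.hom _
  haveI : IsMonHom (asIso (DiagRep.bcHom k K A)).hom := DiagRep.isMonHom_bcHom k K A
  let t : sp K (K ⊗[k] A) ≅ Red.bc ξ T :=
    (asIso (DiagRep.bcHom k K A)).symm ≪≫ (Over.pullback ξ).mapIso v
  haveI : IsMonHom t.hom := by
    show IsMonHom ((asIso (DiagRep.bcHom k K A)).inv ≫ (Over.pullback ξ).map v.hom)
    infer_instance
  haveI : IsMonHom (t.symm ≪≫ w₀ ≪≫ w).hom := by
    dsimp only [Iso.trans_hom, Iso.symm_hom]; infer_instance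
  exact isTorus_of_iso _ (t.symm ≪≫ w₀ ≪≫ w)

end SemiAbLib

end
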