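import Groth.Agent.SemiAbLib.SemiDescent
import Groth.Agent.SemiAbLib.TorusBC

/-!
The base change of a semi-abelian variety.
-/

set_option autoImplicit false
set_option linter.style.haveILetI false
set_option backward.isDefEq.respectTransparency false
set_option maxHeartbeats 1000000

noncomputable section

universe u

open CategoryTheory CategoryTheory.Limits MonoidalCategory CartesianMonoidalCategory AlgebraicGeometry
open scoped MonObj
open Groth.Agent AVAmpleLib

attribute [-instance] CategoryTheory.Hom.commGroup

namespace SemiAbLib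

variable {k : Type u} [Field k] (K : Type u) [Field K] [Algebra k K]

local notation "𝔅" => AVAmpleLib.bcF (k := k) K

local instance grpB₃ (Z : Over (Spec (CommRingCat.of k))) [GrpObj Z] : GrpObj ((𝔅).obj Z) := Functor.grpObjObj

/-- Base change takes kernels to kernels. -/
theorem isKernel_map {N G Q : Over (Spec (CommRingCat.of k))} [GrpObj Q] {i : N ⟶ G} {q : G ⟶ Q}
    (h : AlgGrp.IsKernel i q) : AlgGrp.IsKernel ((𝔅).map i) ((𝔅).map q) := by
  haveI : Mono i := ⟨fun {Z} a b e => h.hom_ext e (toUnit_unique _ _)⟩
  exact AntiAffLib.isKernel_of_forall _ _ (by rw [← Functor.map_comp, AntiAffLib.kernel_comp h, map_one_pt])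
    fun T g hg => exists_lift_map K h g hg

/-- The base change of a semi-abelian variety to an algebraically closed field is semi-abelian. -/
theorem isSemiAb_bc [IsAlgClosed K] {G : Over (Spec (CommRingCat.of k))} [GrpObj G] (hG : IsSemiAb G) :
    IsSemiAb ((𝔅).obj G) := by
  obtain ⟨T, _, i, A, _, q, hi, hic, hT, hq, hqs, hqf, hker, hAp, hAs, hAc⟩ := hG
  haveI := hi; haveI := hic; haveI := hq; haveI := hAp; haveI := hAs; haveI := hAc
  refine ⟨(𝔅).obj T, inferInstance, (𝔅).map i, (𝔅).obj A, inferInstance, (𝔅).map q,
    @Functor.map.instIsMonHom _ _ _ _ _ _ (𝔅) _ _ _ _ _ i _, isClosedImmersion_map K i, isTorus_bc K hT,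
    @Functor.map.instIsMonHom _ _ _ _ _ _ (𝔅) _ _ _ _ _ q _,
    MorphismProperty.of_isPullback (P := @Surjective) (AVAmpleLib.isPullback_bc K q) hqs,
    MorphismProperty.of_isPullback (P := @Flat) (AVAmpleLib.isPullback_bc K q) hqf,
    isKernel_map K hker, inferInstanceAs (IsProper (pullback.snd A.hom _)),
    inferInstanceAs (Smooth (pullback.snd A.hom _)), ?_⟩
  haveI := AlbLib.geometricallyIntegral_grp A
  haveI : GeometricallyIntegral ((𝔅).obj A).hom := inferInstanceAs (GeometricallyIntegral (pullback.snd A.hom _))
  exact AlbLib.connectedSpace_gi _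

end SemiAbLib

end
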