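import Groth.Agent.SemiAbLib.SemiDescent
import Groth.Agent.SemiAbLib.Stability
import Groth.Agent.DenseSubLib.Basic
import Groth.Agent.ChevThmLib.PtSub

/-!
The reduced identity component of a group without geometric additive subgroups is smooth.
-/

set_option autoImplicit false
set_option linter.style.haveILetI false
set_option backward.isDefEq.respectTransparency false
set_option maxHeartbeats 1000000

noncomputable section

universe u

open CategoryTheory CategoryTheory.Limits MonoidalCategory CartesianMonoidalCategory AlgebraicGeometry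
open scoped MonObj
open Groth.Agent AVAmpleLib

attribute [-instance] CategoryTheory.Hom.commGroup

namespace SemiAbLib

variable {k : Type u} [Field k] (K : Type u) [Field K] [Algebra k K] [IsAlgClosed K]

local notation "𝔅" => AVAmpleLib.bcF (k := k) K

/-- Without additive subgroups over an algebraically closed field the reduced identity component is smooth. -/
theorem exists_smooth_component (G : Over (Spec (CommRingCat.of k))) [GrpObj G] [IsCommMonObj G]
    [LocallyOfFiniteType G.hom] [QuasiCompact G.hom] (g : Spec (CommRingCat.of K) ⟶ Spec (CommRingCat.of k))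
    (hg : g = Spec.map (CommRingCat.ofHom (algebraMap k K)))
    (hGa : ∀ j : Red.Ga (Spec (CommRingCat.of K)) ⟶ Red.bc g G, IsMonHom j → IsClosedImmersion j.left → False) :
    ∃ (H : Over (Spec (CommRingCat.of k))) (_ : GrpObj H) (i : H ⟶ G), IsMonHom i ∧ IsClosedImmersion i.left ∧
      Smooth H.hom ∧ Set.range i.left = GrpField.Z0 G := by
  subst hg
  haveI : IsSeparated G.hom := GrpField.isSeparated_grp (G := G)
  obtain ⟨N, _, i₀, hi₀, hi₀c, -, hi₀r, hNg, -⟩ := GrpField.exists_identity_component (G := G)
  haveI := hi₀; haveI := hi₀c; haveI := hNg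
  haveI : Mono i₀ := Over.mono_of_mono_left i₀
  haveI : IsCommMonObj N := AntiAffLib.CommCat.isComm_of_mono i₀
  haveI : LocallyOfFiniteType N.hom := by rw [← Over.w i₀]; infer_instance
  haveI : QuasiCompact N.hom := by rw [← Over.w i₀]; infer_instance
  letI : GrpObj ((𝔅).obj N) := Functor.grpObjObj
  letI : GrpObj ((𝔅).obj G) := Functor.grpObjObj
  haveI : IsMonHom ((𝔅).map i₀) := @Functor.map.instIsMonHom _ _ _ _ _ _ (𝔅) _ _ _ _ _ i₀ _
  haveI := isClosedImmersion_map K i₀
  haveI : GeometricallyIrreducible ((𝔅).obj N).hom :=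
    inferInstanceAs (GeometricallyIrreducible (pullback.snd N.hom _))
  haveI : IrreducibleSpace ((𝔅).obj N).left :=
    GeometricallyIrreducible.irreducibleSpace_of_subsingleton ((𝔅).obj N).hom
  haveI : LocallyOfFiniteType ((𝔅).obj N).hom := inferInstanceAs (LocallyOfFiniteType (pullback.snd N.hom _))
  haveI : QuasiCompact ((𝔅).obj N).hom := inferInstanceAs (QuasiCompact (pullback.snd N.hom _))
  haveI : IsCommMonObj ((𝔅).obj G) := inferInstanceAs (IsCommMonObj ((Over.pullback (Spec.map (CommRingCat.ofHom (algebraMap k K)))).obj G))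
  obtain ⟨R, _, r, hr, hrc, hRs, hRr⟩ := DenseSubLib.exists_smooth_subgroup (A := (𝔅).obj N) ⊤
  haveI := hr; haveI := hrc; haveI := hRs
  haveI : Mono r := Over.mono_of_mono_left r
  haveI : Mono ((𝔅).map i₀) := Over.mono_of_mono_left _
  haveI : QuasiCompact R.hom := by rw [← Over.w r]; infer_instance
  haveI : Surjective r.left := ⟨fun y => by
    rw [← Set.mem_range, hRr]
    exact ChevThmLib.forall_mem_of_points isClosed_closure
      (fun x => subset_closure (Set.mem_image_of_mem _ (Subgroup.mem_top x))) y⟩
  haveI : ConnectedSpace R.left :=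
    let h := r.left.isClosedEmbedding.isEmbedding.toHomeomorphOfSurjective r.left.surjective
    h.symm.surjective.connectedSpace h.symm.continuous
  haveI : IsReduced R.left := AlgSpLib.isReduced_of_smooth R.hom
  haveI : IsCommMonObj R := AntiAffLib.CommCat.isComm_of_mono (r ≫ (𝔅).map i₀)
  have hR : IsSemiAb R := isSemiAb_of_no_ga fun j hj hjc => hGa (j ≫ r ≫ (𝔅).map i₀) inferInstance
    (by rw [Over.comp_left, Over.comp_left]; infer_instance)
  obtain ⟨m, S, _, s, π, e, -, hs, hsc, -, -, -, -, he, her, hSs⟩ :=
    exists_smooth_sub K N R r fun m hm => (hR.pow_spec hm).2.1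
  haveI := hs; haveI := hsc
  refine ⟨S, inferInstance, s ≫ i₀, inferInstance, inferInstanceAs (IsClosedImmersion (s.left ≫ i₀.left)), hSs, ?_⟩
  haveI : IsIso e.hom.left := inferInstanceAs (IsIso ((Over.forget _).map e.hom))
  haveI : Surjective ((𝔅).map s).left := by rw [← her, Over.comp_left]; infer_instance
  haveI : Surjective (pullback.fst N.hom (Spec.map (CommRingCat.ofHom (algebraMap k K)))) :=
    MorphismProperty.pullback_fst (P := @Surjective) _ _ (surjective_spec K)
  haveI : Surjective (pullback.fst S.hom (Spec.map (CommRingCat.ofHom (algebraMap k K))) ≫ s.left) := by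
    rw [(AVAmpleLib.isPullback_bc K s).w]; infer_instance
  haveI : Surjective s.left := Surjective.of_comp (pullback.fst S.hom (Spec.map (CommRingCat.ofHom (algebraMap k K)))) _
  rw [Over.comp_left, ← hi₀r]
  exact Function.Surjective.range_comp s.left.surjective _

end SemiAbLib

end
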