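import Groth.Agent.SemiAbLib.FinFieldProper
import Groth.Agent.GrpLimLib.Group
import Groth.Agent.ConsLib.General
import Groth.Agent.AlbNormLib.FinOrbit
import Groth.Agent.AntiAffLib.BaseChange

/-!
Anti-affine groups over algebraic extensions of finite fields are proper.
-/

set_option autoImplicit false
set_option linter.style.haveILetI false
set_option backward.isDefEq.respectTransparency false
set_option maxHeartbeats 1000000

noncomputable section

universe u

open CategoryTheory CategoryTheory.Limits MonoidalCategory CartesianMonoidalCategory AlgebraicGeometry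
open Groth.Agent
open scoped MonObj

attribute [-instance] CategoryTheory.Hom.commGroup
attribute [local instance] ConsLib.zAlgebra

namespace SemiAbLib

/-- Anti-affine groups defined over a finite subfield are proper. -/
theorem isProper_of_finite_model {K k : Type u} [Field K] [Finite K] [Field k] [Algebra K k]
    (G : Over (Spec (CommRingCat.of k))) [GrpObj G]
    (hG : Function.Bijective ((Scheme.ΓSpecIso (CommRingCat.of k)).inv ≫ G.hom.appTop).hom)
    (Gj : Over (Spec (CommRingCat.of K))) [GrpObj Gj] [LocallyOfFiniteType Gj.hom] [QuasiCompact Gj.hom]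
    (e : G ≅ Red.bc (AntiAffLib.extMap (k := K) k) Gj) : IsProper G.hom := by
  haveI h0 : AntiAffLib.IsΓIso (toUnit G) := (AntiAffLib.bijective_iff G).1 hG
  haveI : IsSeparated Gj.hom := GrpField.isSeparated_grp (G := Gj)
  haveI : AntiAffLib.IsΓIso (toUnit (Red.bc (AntiAffLib.extMap (k := K) k) Gj)) := by
    rw [show toUnit (Red.bc (AntiAffLib.extMap (k := K) k) Gj) = e.inv ≫ toUnit G from toUnit_unique _ _]
    exact AntiAffLib.isΓIso_comp _ _ inferInstance h0
  haveI : Nonempty Gj.left := AntiAffLib.nonempty_grp Gj
  have h1 : AntiAffLib.IsΓIso (toUnit Gj) := (AntiAffLib.antiAff_bc_iff k Gj).1 inferInstance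
  haveI : IsProper Gj.hom := isProper_of_antiAff_finite Gj ((AntiAffLib.bijective_iff Gj).2 h1)
  haveI : IsProper (Red.bc (AntiAffLib.extMap (k := K) k) Gj).hom :=
    MorphismProperty.pullback_snd (P := @IsProper) _ _ inferInstance
  haveI : IsIso e.hom.left := inferInstanceAs (IsIso ((Over.forget _).map e.hom))
  rw [← Over.w e.hom]
  infer_instance

/-- Over an algebraic extension of a finite field anti-affine groups are proper. -/
theorem isProper_of_antiAff_algebraic {k : Type u} [Field k] (p : ℕ) [Fact p.Prime] [CharP k p]
    (halg : ∀ x : k, ∃ n : ℕ, 0 < n ∧ x ^ p ^ n = x)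
    (G : Over (Spec (CommRingCat.of k))) [GrpObj G] [LocallyOfFiniteType G.hom] [QuasiCompact G.hom]
    (hG : Function.Bijective ((Scheme.ΓSpecIso (CommRingCat.of k)).inv ≫ G.hom.appTop).hom) : IsProper G.hom := by
  classical
  haveI : IsSeparated G.hom := GrpField.isSeparated_grp (G := G)
  haveI : LocallyOfFinitePresentation G.hom := LocallyOfFinitePresentation.iff_locallyOfFiniteType.2 inferInstance
  let A := ConsLib.zSys k
  haveI : ∀ i i' (f : i ⟶ i'), IsAffineHom (A.D.map f) := fun _ _ f => A.affine_map f
  haveI : ∀ i, IsNoetherian (A.D.obj i) := fun i => ConsLib.zSys_obj _ i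
  haveI : ∀ i, CompactSpace (A.D.obj i) := fun i => inferInstance
  haveI : ∀ i, QuasiSeparatedSpace (A.D.obj i) := fun i => inferInstance
  obtain ⟨j, Gj, inst, e, -, lfp, qc, -⟩ := GrpLimLib.exists_grp (c := A.c) A.hc (show Over A.c.pt from G)
  letI := inst
  let B : Subalgebra (ULift.{u} ℤ) k := j.unop.1
  obtain ⟨s, hs⟩ := j.unop.2
  obtain ⟨F, hF, hFfin⟩ := AlbNormLib.exists_finite_subfield halg s
  have hBF : (B : Set k) ⊆ F := by
    show (j.unop.1 : Set k) ⊆ F
    rw [← hs]
    intro x hx
    induction hx using Algebra.adjoin_induction with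
    | mem x hx => exact hF hx
    | algebraMap r => exact intCast_mem F _
    | add x y _ _ hx hy => exact add_mem hx hy
    | mul x y _ _ hx hy => exact mul_mem hx hy
  haveI : Finite B := (hFfin.subset hBF).to_subtype
  letI : Field B := (Finite.isField_of_domain B).toField
  haveI : LocallyOfFiniteType (show Over (Spec (CommRingCat.of B)) from Gj).hom := by
    haveI := lfp
    infer_instance
  haveI : QuasiCompact (show Over (Spec (CommRingCat.of B)) from Gj).hom := qc
  exact isProper_of_finite_model (K := B) G hG (show Over (Spec (CommRingCat.of B)) from Gj) e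

end SemiAbLib

end
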