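import Groth.Agent.SemiAbLib.OverField
import Groth.Agent.AlbLib.MaxAV

/-!
The largest semi-abelian subvariety of a commutative algebraic group.
-/

set_option autoImplicit false
set_option linter.style.haveILetI false
set_option backward.isDefEq.respectTransparency false
set_option maxHeartbeats 1000000

noncomputable section

universe u

open CategoryTheory CategoryTheory.Limits MonoidalCategory CartesianMonoidalCategory AlgebraicGeometry
open scoped MonObj
open Groth.Agent

attribute [-instance] CategoryTheory.Hom.commGroup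

namespace SemiAbLib

variable {k : Type u} [Field k] {G : Over (Spec (CommRingCat.of k))} [GrpObj G] [LocallyOfFiniteType G.hom]
  [QuasiCompact G.hom]

/-- The image of a semi-abelian variety is a semi-abelian variety. -/
theorem exists_semi_subgroup {B : Over (Spec (CommRingCat.of k))} [GrpObj B] [LocallyOfFiniteType B.hom]
    [QuasiCompact B.hom] (hB : IsSemiAb B) (f : B ⟶ G) [IsMonHom f] :
    ∃ (C : Over (Spec (CommRingCat.of k))) (_ : GrpObj C) (i : C ⟶ G) (p : B ⟶ C), IsMonHom i ∧
      IsClosedImmersion i.left ∧ IsSemiAb C ∧ GeometricallyIntegral C.hom ∧ p ≫ i = f ∧ IsMonHom p ∧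
      Surjective p.left := by
  obtain ⟨hBs, hBc⟩ := hB.props
  haveI := hBs; haveI := hBc
  haveI : IsSeparated G.hom := GrpField.isSeparated_grp (G := G)
  haveI : QuasiCompact f.left := by
    haveI : QuasiCompact (f.left ≫ G.hom) := by rw [Over.w f]; infer_instance
    exact QuasiCompact.of_comp f.left G.hom
  obtain ⟨C, _, p, i, hp, hi, hpi, hpf, hps, hpl, hci⟩ := GrpHom.exists_fppf_image f (GrpField.flat_field _)
  haveI := hp; haveI := hi; haveI := hpf; haveI := hps; haveI := hpl; haveI := hci
  haveI : LocallyOfFiniteType C.hom := by rw [← Over.w i]; infer_instance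
  haveI : QuasiCompact C.hom := by rw [← Over.w i]; infer_instance
  haveI : Smooth C.hom := by
    haveI : Smooth (p.left ≫ C.hom) := by rw [Over.w p]; infer_instance
    exact FlatLib.smooth_of_fppf_comp p.left C.hom
  haveI : ConnectedSpace C.left := p.left.surjective.connectedSpace p.left.continuous
  exact ⟨C, inferInstance, i, p, hi, hci, hB.quotient' p, AlbLib.geometricallyIntegral_grp C, hpi, hp, hps⟩

/-- A commutative algebraic group has a largest semi-abelian subvariety. -/
theorem exists_max_semiAb [IsCommMonObj G] :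
    ∃ (M : Over (Spec (CommRingCat.of k))) (_ : GrpObj M) (i : M ⟶ G), IsMonHom i ∧ IsClosedImmersion i.left ∧
      IsSemiAb M ∧
      ∀ (A : Over (Spec (CommRingCat.of k))) [GrpObj A] (_ : LocallyOfFiniteType A.hom) (_ : QuasiCompact A.hom)
        (_ : IsSemiAb A) (φ : A ⟶ G), IsMonHom φ → ∃ ψ : A ⟶ M, ψ ≫ i = φ := by
  haveI : Subsingleton ↥(Spec (CommRingCat.of k)) := inferInstanceAs (Subsingleton (PrimeSpectrum k))
  haveI : IsLocallyNoetherian G.left := LocallyOfFiniteType.isLocallyNoetherian G.hom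
  let Sset : Set G.left := {z | ∃ (M : Over (Spec (CommRingCat.of k))) (_ : GrpObj M) (i : M ⟶ G), IsMonHom i ∧
    IsClosedImmersion i.left ∧ IsSemiAb M ∧ GeometricallyIntegral M.hom ∧
    ∀ g : M.left, (∀ g', g ⤳ g') → i.left g = z}
  have mkS : ∀ (M : Over (Spec (CommRingCat.of k))) [GrpObj M] (i : M ⟶ G), IsMonHom i → IsClosedImmersion i.left →
      IsSemiAb M → ∀ [GeometricallyIntegral M.hom] [IrreducibleSpace M.left], i.left (genericPoint M.left) ∈ Sset :=
    fun M _ i h1 h2 h3 h4 _ => ⟨M, inferInstance, i, h1, h2, h3, h4, fun g hg =>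
      congrArg _ ((show IsGenericPoint g Set.univ from Set.eq_univ_of_forall fun g' =>
        specializes_iff_mem_closure.1 (hg g')).eq (genericPoint_spec M.left))⟩
  have hne : Sset.Nonempty := by
    haveI : Smooth (𝟙_ (Over (Spec (CommRingCat.of k)))).hom := inferInstanceAs (Smooth (𝟙 _))
    haveI : ConnectedSpace (𝟙_ (Over (Spec (CommRingCat.of k)))).left :=
      inferInstanceAs (ConnectedSpace ↥(Spec (CommRingCat.of k)))
    obtain ⟨C, _, i, p, h1, h2, h3, h4, -, -⟩ := exists_semi_subgroup (G := G) isSemiAb_unit (η[G] : 𝟙_ (Over (Spec (CommRingCat.of k))) ⟶ G)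
    haveI := h4
    haveI : IsIntegral C.left := GeometricallyIntegral.isIntegral_of_subsingleton C.hom
    exact ⟨_, mkS C i h1 h2 h3⟩
  obtain ⟨z, ⟨M, _, i, hi, hci, hMp, hMgi, hz⟩, hmin⟩ := WellFounded.has_min
    (InvImage.wf (fun z : G.left => ringKrullDim (G.left.presheaf.stalk z)) wellFounded_lt) Sset hne
  haveI := hi; haveI := hci; haveI := hMgi
  haveI : IsIntegral M.left := GeometricallyIntegral.isIntegral_of_subsingleton M.hom
  haveI : Flat M.hom := Groth.Agent.GrpField.flat_field _
  haveI : LocallyOfFiniteType M.hom := by rw [← Over.w i]; infer_instance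
  haveI : QuasiCompact M.hom := by rw [← Over.w i]; infer_instance
  haveI : Smooth M.hom := hMp.props.1
  refine ⟨M, inferInstance, i, hi, hci, hMp, fun A _ hAl hAq hA φ hφ => ?_⟩
  haveI := hAl; haveI := hAq
  haveI : Smooth A.hom := hA.props.1
  haveI : ConnectedSpace A.left := hA.props.2
  haveI := hφ
  haveI : GeometricallyIntegral A.hom := AlbLib.geometricallyIntegral_grp A
  haveI : Flat A.hom := Groth.Agent.GrpField.flat_field _
  haveI : QuasiCompact (M ⊗ A).hom := by rw [Over.tensorObj_hom]; infer_instance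
  haveI : LocallyOfFiniteType (M ⊗ A).hom := by rw [Over.tensorObj_hom]; infer_instance
  haveI : GeometricallyIntegral (M ⊗ A).hom := CubeConsLib.geometricallyIntegral_prod M.hom A.hom
  haveI : Smooth (M ⊗ A).hom := by rw [Over.tensorObj_hom]; infer_instance
  haveI : ConnectedSpace (M ⊗ A).left := AlbLib.connectedSpace_gi (M ⊗ A)
  let f : M ⊗ A ⟶ G := (fst M A ≫ i) * (snd M A ≫ φ)
  haveI : IsMonHom (fst M A) := inferInstance
  haveI : IsMonHom f := inferInstanceAs (IsMonHom (lift (fst M A ≫ i) (snd M A ≫ φ) ≫ μ[G]))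
  haveI : IsMonHom (1 : A ⟶ M) := by rw [Hom.one_def]; infer_instance
  haveI : IsMonHom (lift (1 : A ⟶ M) (𝟙 A)) := inferInstance
  have hk : AlgGrp.IsKernel (lift (1 : A ⟶ M) (𝟙 A)) (fst M A) := by
    haveI : Mono (lift (1 : A ⟶ M) (𝟙 A)) := SplitMono.mono ⟨snd M A, lift_snd _ _⟩
    refine AntiAffLib.isKernel_of_forall _ _ (lift_fst _ _) fun T g hg => ⟨g ≫ snd M A, ?_⟩
    refine CartesianMonoidalCategory.hom_ext _ _ ?_ (by simp)
    rw [Category.assoc, lift_fst, MonObj.comp_one, hg]
  have hMA : IsSemiAb (M ⊗ A) := IsSemiAb.extension' hA hMp (lift (1 : A ⟶ M) (𝟙 A)) (fst M A) hk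
  obtain ⟨C, _, iC, p, h1, h2, h3, h4, hpf, -⟩ := exists_semi_subgroup hMA f
  haveI := h1; haveI := h2; haveI := h4
  haveI : IsIntegral C.left := GeometricallyIntegral.isIntegral_of_subsingleton C.hom
  let l : M ⟶ C := lift (𝟙 M) 1 ≫ p
  have hl : l ≫ iC = i := by
    simp only [l, Category.assoc, hpf, f, MonObj.comp_mul, lift_fst_assoc, lift_snd_assoc, Category.id_comp,
      MonObj.one_comp, mul_one]
  have hψ : (lift (1 : A ⟶ M) (𝟙 A) ≫ p) ≫ iC = φ := by
    simp only [Category.assoc, hpf, f, MonObj.comp_mul, lift_fst_assoc, lift_snd_assoc, Category.id_comp,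
      MonObj.one_comp, one_mul]
  have hlc : l.left ≫ iC.left = i.left := congrArg CommaMorphism.left hl
  haveI : IsClosedImmersion l.left := by
    haveI : IsClosedImmersion (l.left ≫ iC.left) := by rw [hlc]; exact hci
    exact IsClosedImmersion.of_comp l.left iC.left
  have hzM : iC.left (l.left (genericPoint M.left)) = z := by
    rw [← Scheme.Hom.comp_apply, hlc]
    exact hz _ fun g' => (genericPoint_spec M.left).specializes trivial
  have hsp : iC.left (genericPoint C.left) ⤳ z := by
    rw [← hzM]; exact ((genericPoint_spec C.left).specializes trivial).map iC.left.continuous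
  have heq : l.left (genericPoint M.left) = genericPoint C.left := by
    refine iC.left.isClosedEmbedding.injective (hzM.trans ?_)
    by_contra hne'
    exact hmin _ (mkS C iC h1 h2 h3) (FibDimLib.ringKrullDim_stalk_lt hsp (Ne.symm hne'))
  haveI : Surjective l.left := ⟨fun c => by
    exact ((genericPoint_spec C.left).specializes trivial : genericPoint C.left ⤳ c).mem_closed l.left.isClosedEmbedding.isClosed_range ⟨_, heq⟩⟩
  haveI : IsIso l.left := isIso_of_isClosedImmersion_of_surjective l.left
  haveI : IsIso ((Over.forget _).map l) := ‹IsIso l.left›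
  haveI : IsIso l := isIso_of_reflects_iso l (Over.forget _)
  refine ⟨(lift (1 : A ⟶ M) (𝟙 A) ≫ p) ≫ inv l, ?_⟩
  calc ((lift (1 : A ⟶ M) (𝟙 A) ≫ p) ≫ inv l) ≫ i
      = (lift (1 : A ⟶ M) (𝟙 A) ≫ p) ≫ iC := by rw [← hl, Category.assoc, IsIso.inv_hom_id_assoc]
    _ = φ := hψ

end SemiAbLib

end
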