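import Groth.Agent.SemiAbLib.FinFrob
import Groth.Agent.SemiAbLib.OverField
import Groth.Agent.AVAmpleLib.WeilRoots
import Groth.Agent.AVAmpleLib.BcDeg
import Groth.Agent.AVAmpleLib.CharPolyApp
import Groth.Agent.AlbLib.MaxAV
import Groth.Agent.AntiAffLib.AffineQuot
import Groth.Agent.S14600

/-!
Anti-affine groups over finite fields are proper.
-/

set_option autoImplicit false
set_option linter.style.haveILetI false
set_option backward.isDefEq.respectTransparency false
set_option maxHeartbeats 1000000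

noncomputable section

universe u

open CategoryTheory CategoryTheory.Limits MonoidalCategory CartesianMonoidalCategory AlgebraicGeometry Polynomial
open scoped MonObj
open Groth.Agent AVAmpleLib

attribute [-instance] CategoryTheory.Hom.commGroup

namespace SemiAbLib

variable {k : Type u} [Field k]

section

attribute [local instance] AVAmpleLib.proper_bc AVAmpleLib.gi_bc

local instance grpB₅ (Z : Over (Spec (CommRingCat.of k))) [GrpObj Z] :
    GrpObj ((AVAmpleLib.bcF (k := k) (AlgebraicClosure k)).obj Z) := Functor.grpObjObj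

local instance commB₅ (Z : Over (Spec (CommRingCat.of k))) [GrpObj Z] [IsCommMonObj Z] :
    IsCommMonObj ((AVAmpleLib.bcF (k := k) (AlgebraicClosure k)).obj Z) :=
  Functor.isCommMonObj_obj (F := AVAmpleLib.bcF (k := k) (AlgebraicClosure k))

/-- The Frobenius of an abelian variety minus its degree is surjective. -/
theorem surjective_frob_sub {A : Over (Spec (CommRingCat.of k))} [GrpObj A] [IsCommMonObj A] [IsProper A.hom]
    [GeometricallyIntegral A.hom] (π : A ⟶ A) [IsMonHom π] (hb : π.left.base = 𝟙 _)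
    (hle : ∀ U : A.left.Opens, U ≤ π.left ⁻¹ᵁ U) {Q : ℕ}
    (happ : ∀ (U : A.left.Opens) (s : Γ(A.left, U)), (π.left.appLE U U (hle U)).hom s = s ^ Q) (hQ : 1 < Q) :
    Surjective (π * (𝟙 A ^ Q)⁻¹).left := by
  let Ω := AlgebraicClosure k
  haveI : IsIntegral A.left := AVAmpleLib.isIntegral_left A
  haveI : IsIntegral ((AVAmpleLib.bcF (k := k) Ω).obj A).left := AVAmpleLib.isIntegral_left _
  obtain ⟨g, hg⟩ := AVAmpleLib.exists_dim ((AVAmpleLib.bcF (k := k) Ω).obj A)
  have hA : topologicalKrullDim A.left = (g : ℕ) := (AVAmpleLib.dim_pullback_eq A).symm.trans hg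
  obtain ⟨P, hP⟩ := AVAmpleLib.exists_isCharPoly hg (AVAmpleLib.endBc Ω A (EndAV.End.of π))
  obtain ⟨P₀, hm, -, hP₀⟩ := AVAmpleLib.exists_int hg hP
  subst hP₀
  have hroot := AVAmpleLib.norm_root_frob π hb hle happ (by omega) Ω hA hP
  have h0 : ndeg g (AVAmpleLib.endBc Ω A (EndAV.End.of π - ((Q : ℤ) : EndAV.End A))) ≠ 0 := by
    rw [map_sub, map_intCast, ← hP.2.2 (Q : ℤ), Polynomial.eval_map, ← eq_intCast (Int.castRingHom ℚ),
      Polynomial.eval₂_hom, eq_intCast]
    intro h
    have hC : (Q : ℂ) ∈ (P₀.map (Int.castRingHom ℂ)).roots := by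
      refine mem_roots'.2 ⟨(hm.map _).ne_zero, ?_⟩
      rw [IsRoot, Polynomial.eval_map, show (Q : ℂ) = Int.castRingHom ℂ (Q : ℤ) by simp, Polynomial.eval₂_hom,
        Int.cast_eq_zero.1 h, map_zero]
    have h1 := hroot _ hC
    rw [Complex.norm_natCast] at h1
    have h2 := congrArg (· ^ 2) h1
    simp only [Real.sq_sqrt (Nat.cast_nonneg Q)] at h2
    have hQr : (1 : ℝ) < Q := by exact_mod_cast hQ
    nlinarith
  have e : EndAV.Hom.toHom (EndAV.End.of π - ((Q : ℤ) : EndAV.End A)) = π * (𝟙 A ^ Q)⁻¹ := by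
    show EndAV.End.toHom _ = _
    rw [EndAV.End.toHom_sub, EndAV.End.toHom_of, EndAV.End.toHom_intCast, div_eq_mul_inv, zpow_natCast]
  have hfin : IsFinite (π * (𝟙 A ^ Q)⁻¹).left := by
    by_contra hnf
    exact h0 ((AVAmpleLib.finite_cases_bc Ω A hA _ (f := π * (𝟙 A ^ Q)⁻¹) e).2 hnf)
  exact AVAmpleLib.surjective_of_finite A _

end

/-- An anti-affine group over a finite field is proper. -/
theorem isProper_of_antiAff_finite [Finite k] (G : Over (Spec (CommRingCat.of k))) [GrpObj G]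
    [LocallyOfFiniteType G.hom] [QuasiCompact G.hom]
    (hG : Function.Bijective ((Scheme.ΓSpecIso (CommRingCat.of k)).inv ≫ G.hom.appTop).hom) : IsProper G.hom := by
  haveI h0 : AntiAffLib.IsΓIso (toUnit G) := (AntiAffLib.bijective_iff G).1 hG
  haveI : Smooth G.hom := AntiAffLib.smooth_of_antiAff G
  haveI : IsCommMonObj G := AntiAffLib.isCommMonObj_of_antiAff G
  haveI : IsSeparated G.hom := GrpField.isSeparated_grp (G := G)
  obtain ⟨p₀, hp₀⟩ := CharP.exists k
  haveI := hp₀
  haveI : Fact p₀.Prime := ⟨CharP.char_is_prime k p₀⟩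
  obtain ⟨T, _, i, A, _, q, hi, hic, hT, hq, hqs, hqf, hker, hAp, hAs, hAc⟩ :=
    Groth.Agent.S14600.result k p₀ G hG
  haveI := hi; haveI := hic; haveI := hq; haveI := hqs; haveI := hqf; haveI := hAp; haveI := hAs; haveI := hAc
  haveI := AntiAffLib.lfp_of_lft q
  haveI : GeometricallyIntegral A.hom := AlbLib.geometricallyIntegral_grp A
  haveI : IsCommMonObj A := AntiAffLib.CommCat.isComm_of_epi q
  haveI := AlbLib.isAffine_of_isTorus hT
  haveI : LocallyOfFiniteType T.hom := by rw [← Over.w i]; infer_instance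
  obtain ⟨p, N, hp, hc, hN, hfix, hkey⟩ := exists_frob_torus T hT
  haveI := hp; haveI := hc
  obtain ⟨fr, hnat, hmon, hspec, hsp⟩ := exists_frobNat (k := k) p N hfix
  have hTQ : fr T = 𝟙 T ^ p ^ N := hkey fr hnat hsp
  set Q := p ^ N with hQdef
  have hQ : 1 < Q := Nat.one_lt_pow hN.ne' hp.out.one_lt
  haveI := hmon G
  haveI := hmon A
  let φ : G ⟶ G := fr G * (𝟙 G ^ Q)⁻¹
  haveI : IsMonHom (𝟙 G ^ Q) := by rw [← zpow_natCast (𝟙 G) Q]; exact AbSchLib.isMonHom_zpow G _
  haveI : IsMonHom φ := by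
    show IsMonHom (fr G * (𝟙 G ^ Q)⁻¹)
    rw [Hom.mul_def, Hom.inv_def]
    infer_instance
  have hkill : ∀ (S : Over (Spec (CommRingCat.of k))) (a : S ⟶ G), a ≫ q = 1 → a ≫ φ = 1 := by
    intro S a ha
    obtain ⟨l, rfl⟩ := AntiAffLib.exists_lift_kernel hker a ha
    have h1 : i ≫ φ = 1 := by
      show i ≫ (fr G * (𝟙 G ^ Q)⁻¹) = 1
      rw [MonObj.comp_mul, GrpObj.comp_inv, ← hnat, hTQ, MonObj.comp_pow, Category.comp_id, MonObj.pow_comp,
        Category.id_comp, mul_inv_cancel]
    rw [Category.assoc, h1, MonObj.comp_one]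
  obtain ⟨ψ, hψ, hψm⟩ := AntiAffLib.CommCat.exists_descend q φ hkill
  haveI := hψm
  haveI : Epi q := Groth.Agent.MonoQuot.epi_over q
  have hψq : ψ ≫ q = fr A * (𝟙 A ^ Q)⁻¹ := by
    rw [← cancel_epi q, ← Category.assoc, hψ]
    show (fr G * (𝟙 G ^ Q)⁻¹) ≫ q = _
    rw [MonObj.mul_comp, GrpObj.inv_comp, hnat, MonObj.pow_comp, Category.id_comp, MonObj.comp_mul, GrpObj.comp_inv,
      MonObj.comp_pow, Category.comp_id]
  obtain ⟨hb, hle, happ⟩ := hspec A
  haveI : Surjective (ψ ≫ q).left := by rw [hψq]; exact surjective_frob_sub (fr A) hb hle happ hQ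
  obtain ⟨B, _, iB, pB, hiB, hiBc, hBp, hBg, hpB⟩ := AlbLib.exists_av_subgroup ψ
  haveI := hiB; haveI := hiBc; haveI := hBp; haveI := hBg
  haveI : Surjective (pB.left ≫ (iB ≫ q).left) := by
    rw [← Over.comp_left, ← Category.assoc, hpB]; infer_instance
  haveI : Surjective (iB ≫ q).left := Surjective.of_comp pB.left _
  haveI : Mono iB := Over.mono_of_mono_left iB
  -- `G` is covered by `T` and `B`
  have sq := IsPullback.of_hasPullback q (iB ≫ q)
  haveI : Surjective (pullback.fst q (iB ≫ q)).left :=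
    MorphismProperty.of_isPullback (P := @Surjective) (sq.map (Over.forget _)).flip ‹_›
  obtain ⟨l, hl⟩ := AntiAffLib.exists_lift_kernel hker
    (pullback.fst q (iB ≫ q) * (pullback.snd q (iB ≫ q) ≫ iB)⁻¹) (by
      rw [MonObj.mul_comp, GrpObj.inv_comp, pullback.condition, Category.assoc, mul_inv_cancel])
  haveI : Flat B.hom := GrpField.flat_field _
  haveI : Flat G.hom := GrpField.flat_field _
  haveI : LocallyOfFiniteType B.hom := inferInstance
  haveI : QuasiCompact iB.left := inferInstance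
  obtain ⟨R, _, r, hrm, hrf, hrs, hrp, hrk, hRsep, -, hRsm⟩ := Groth.Agent.S3030.result k B G iB
    (fun T g m => ⟨m, by
      letI : CommGroup (T ⟶ G) := Hom.commGroup
      rw [_root_.mul_comm g, mul_inv_cancel_right]⟩)
  haveI := hrm; haveI := hrf; haveI := hrs; haveI := hrp; haveI := hRsep
  haveI : LocallyOfFiniteType R.hom := by
    haveI : LocallyOfFiniteType (r.left ≫ R.hom) := by rw [Over.w r]; infer_instance
    exact Groth.Agent.S5938.result r.left R.hom
  have hlr : pullback.fst q (iB ≫ q) ≫ r = l ≫ i ≫ r := by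
    rw [← Category.assoc l, hl, MonObj.mul_comp, GrpObj.inv_comp, Category.assoc, AntiAffLib.kernel_comp hrk,
      MonObj.comp_one, inv_one, mul_one]
  haveI : Surjective ((l.left) ≫ (i ≫ r).left) := by
    rw [← Over.comp_left, ← hlr, Over.comp_left]; infer_instance
  haveI : Surjective (i ≫ r).left := Surjective.of_comp l.left _
  haveI := hRsm inferInstance
  haveI : IsReduced R.left := AlgSpLib.isReduced_of_smooth R.hom
  haveI : QuasiCompact T.hom := inferInstance
  haveI : Flat (i ≫ r).left := AntiAffLib.flat_of_surjective (i ≫ r)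
  haveI : IsAffine R.left := AntiAffLib.isAffine_of_surjective_hom (i ≫ r)
  have hr1 : r = 1 := AntiAffLib.comp_eq_one r (IsMonHom.one_hom r)
  obtain ⟨s, hs⟩ := AntiAffLib.exists_lift_kernel hrk (𝟙 G) (by rw [Category.id_comp, hr1])
  haveI : IsSplitEpi iB := IsSplitEpi.mk' ⟨s, hs⟩
  haveI : IsIso iB := isIso_of_mono_of_isSplitEpi iB
  haveI : IsIso iB.left := inferInstanceAs (IsIso ((Over.forget _).map iB))
  rw [show G.hom = inv iB.left ≫ B.hom by rw [← Over.w iB, IsIso.inv_hom_id_assoc]]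
  infer_instance

end SemiAbLib

end
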