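import Groth.Agent.SemiAbLib.TorusOrGa
import Groth.Agent.SemiAbLib.Torus
import Groth.Agent.ChevThmLib.Chevalley
import Groth.Agent.AlbLib.Semi
import Groth.Agent.AlbNormLib.InfNbhd
import Groth.Agent.AntiAffLib.CommCat
import Groth.Agent.AntiAffLib.KerSub
import Groth.Agent.AVAmpleLib.MulFinite

/-!
Semi-abelian varieties over algebraically closed fields.
-/

set_option autoImplicit false
set_option linter.style.haveILetI false
set_option backward.isDefEq.respectTransparency false
set_option maxHeartbeats 1000000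

noncomputable section

universe u

open CategoryTheory CategoryTheory.Limits MonoidalCategory CartesianMonoidalCategory AlgebraicGeometry
open scoped MonObj
open Groth.Agent

attribute [-instance] CategoryTheory.Hom.commGroup

namespace SemiAbLib

/-- An extension of an abelian variety by a torus. -/
def IsSemiAb {k : Type u} [Field k] (G : Over (Spec (CommRingCat.of k))) [GrpObj G] : Prop :=
  ∃ (T : Over (Spec (CommRingCat.of k))) (_ : GrpObj T) (i : T ⟶ G) (A : Over (Spec (CommRingCat.of k)))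
    (_ : GrpObj A) (q : G ⟶ A), IsMonHom i ∧ IsClosedImmersion i.left ∧ Red.IsTorus T ∧ IsMonHom q ∧
      Surjective q.left ∧ Flat q.left ∧ AlgGrp.IsKernel i q ∧ IsProper A.hom ∧ Smooth A.hom ∧ ConnectedSpace ↥A.left

variable {k : Type u} [Field k] [IsAlgClosed k] {G : Over (Spec (CommRingCat.of k))} [GrpObj G]

/-- A connected commutative group without additive subgroups is semi-abelian. -/
theorem isSemiAb_of_no_ga [IsCommMonObj G] [Smooth G.hom] [QuasiCompact G.hom] [ConnectedSpace G.left]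
    (h : ∀ j : Red.Ga (Spec (CommRingCat.of k)) ⟶ G, IsMonHom j → IsClosedImmersion j.left → False) :
    IsSemiAb G := by
  obtain ⟨N, _, i, hi, hmax⟩ := ChevThmLib.exists_gAff G
  obtain ⟨A, _, q, hqm, hqf, hqs, hker, hAp, hAs, hAc⟩ := ChevThmLib.exists_chevalley i hi hmax
  haveI := hi.hom; haveI := hi.closed; haveI := hi.smooth; haveI := hi.conn; haveI := hi.affine
  haveI : Mono i := Over.mono_of_mono_left i
  haveI : IsCommMonObj N := AntiAffLib.CommCat.isComm_of_mono i
  rcases isTorus_or_exists_ga N with hT | ⟨j, hj, hjc⟩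
  · exact ⟨N, inferInstance, i, A, inferInstance, q, hi.hom, hi.closed, hT, hqm, hqs, hqf, hker, hAp, hAs, hAc⟩
  · haveI := hj; haveI := hjc
    exact (h (j ≫ i) inferInstance (by rw [Over.comp_left]; infer_instance)).elim

variable [LocallyOfFiniteType G.hom] [QuasiCompact G.hom]

theorem IsSemiAb.comm (hG : IsSemiAb G) : GeometricallyIntegral G.hom ∧ IsCommMonObj G := by
  obtain ⟨T, _, i, A, _, q, hi, hic, hT, hq, hqs, hqf, hker, hAp, hAs, hAc⟩ := hG
  haveI := hi; haveI := hic; haveI := hq; haveI := hqs; haveI := hqf; haveI := hAp; haveI := hAs; haveI := hAc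
  exact AlbLib.semi_variety i hT q hker

theorem IsSemiAb.smooth (hG : IsSemiAb G) : Smooth G.hom := by
  haveI := hG.comm.1
  haveI : IsReduced G.left := by
    haveI : IsIntegral G.left := GeometricallyIntegral.isIntegral_of_subsingleton G.hom
    infer_instance
  exact GrpSchLib.smooth_of_isAlgClosed_of_isReduced G

/-- The rational points of a semi-abelian variety are divisible. -/
theorem IsSemiAb.exists_root (hG : IsSemiAb G) {n : ℕ} (hn : n ≠ 0)
    (x : 𝟙_ (Over (Spec (CommRingCat.of k))) ⟶ G) : ∃ y : 𝟙_ (Over (Spec (CommRingCat.of k))) ⟶ G, y ^ n = x := by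
  haveI := hG.comm.2
  letI : CommGroup (𝟙_ (Over (Spec (CommRingCat.of k))) ⟶ G) := Hom.commGroup
  obtain ⟨T, _, i, A, _, q, hi, hic, hT, hq, hqs, hqf, hker, hAp, hAs, hAc⟩ := hG
  haveI := hi; haveI := hq; haveI := hqs; haveI := hAp; haveI := hAs; haveI := hAc
  haveI : GeometricallyIntegral A.hom := AlbLib.geometricallyIntegral_grp A
  haveI : IsCommMonObj A := CubeConsLib.isCommMonObj_field
  haveI : Surjective (𝟙 A ^ n).left := by
    rw [← zpow_natCast]; exact AVAmpleLib.surjective_zpow A (Int.natCast_ne_zero.2 hn)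
  obtain ⟨b, hb⟩ := AVAmpleLib.exists_pt_lift (𝟙 A ^ n) (x ≫ q)
  rw [pt_pow] at hb
  obtain ⟨g, hg⟩ := AVAmpleLib.exists_pt_lift q b
  obtain ⟨t, ht⟩ := AntiAffLib.exists_lift_kernel hker (x * (g ^ n)⁻¹) (by
    rw [MonObj.mul_comp, GrpObj.inv_comp, MonObj.pow_comp, hg, hb, mul_inv_cancel])
  obtain ⟨s, rfl⟩ := torus_exists_root hT hn t
  refine ⟨g * (s ≫ i), ?_⟩
  rw [mul_pow, ← MonObj.pow_comp, ht, mul_comm x, ← mul_assoc, mul_inv_cancel, _root_.one_mul]

/-- Multiplication by a non-zero integer is a flat surjection of a semi-abelian variety. -/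
theorem IsSemiAb.pow_spec (hG : IsSemiAb G) {n : ℕ} (hn : n ≠ 0) :
    IsMonHom (𝟙 G ^ n) ∧ Surjective (𝟙 G ^ n).left ∧ Flat (𝟙 G ^ n).left := by
  haveI := hG.comm.1
  haveI := hG.comm.2
  haveI : IsReduced G.left := by
    haveI : IsIntegral G.left := GeometricallyIntegral.isIntegral_of_subsingleton G.hom
    infer_instance
  haveI : IsSeparated G.hom := GrpField.isSeparated_grp (G := G)
  haveI hm : IsMonHom (𝟙 G ^ n) := by rw [← zpow_natCast]; exact AbSchLib.isMonHom_zpow G (n : ℤ)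
  haveI hs : Surjective (𝟙 G ^ n).left := surjective_of_pts _ fun b => by
    obtain ⟨a, ha⟩ := hG.exists_root hn b
    exact ⟨a, by rw [pt_pow, ha]⟩
  exact ⟨hm, hs, AntiAffLib.flat_of_surjective _⟩

/-- A homomorphism killing the `n`-torsion is divisible by `n`. -/
theorem IsSemiAb.exists_div (hG : IsSemiAb G) {n : ℕ} (hn : n ≠ 0) {Z : Over (Spec (CommRingCat.of k))} [GrpObj Z]
    (w : G ⟶ Z) [IsMonHom w] (h : ∀ (T : Over (Spec (CommRingCat.of k))) (x : T ⟶ G), x ^ n = 1 → x ≫ w = 1) :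
    ∃ w' : G ⟶ Z, (𝟙 G ^ n) ≫ w' = w ∧ IsMonHom w' := by
  obtain ⟨h1, h2, h3⟩ := hG.pow_spec hn
  haveI := h1; haveI := h2; haveI := h3
  haveI := AntiAffLib.lfp_of_lft (𝟙 G ^ n)
  exact AntiAffLib.CommCat.exists_descend (𝟙 G ^ n) w fun T a ha => h T a (by rwa [MonObj.comp_pow, Category.comp_id] at ha)

/-- A homomorphism killing torsion points of `l`-power order is trivial. -/
theorem IsSemiAb.eq_one_of_torsion (hG : IsSemiAb G) (l : ℕ) [Fact l.Prime] (hl : (l : k) ≠ 0)
    {Z : Over (Spec (CommRingCat.of k))} [GrpObj Z] [IsSeparated Z.hom] (w : G ⟶ Z) [IsMonHom w]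
    (h : ∀ a ∈ AVAmpleLib.torsPow G l, a ≫ w = 1) : w = 1 := by
  haveI := hG.comm.2
  letI : CommGroup (𝟙_ (Over (Spec (CommRingCat.of k))) ⟶ G) := Hom.commGroup
  obtain ⟨T, _, i, A, _, q, hi, hic, hT, hq, hqs, hqf, hker, hAp, hAs, hAc⟩ := hG
  haveI := hi; haveI := hic; haveI := hq; haveI := hqs; haveI := hqf; haveI := hAp; haveI := hAs; haveI := hAc
  haveI : GeometricallyIntegral A.hom := AlbLib.geometricallyIntegral_grp A
  haveI : IsCommMonObj A := CubeConsLib.isCommMonObj_field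
  haveI : IsIntegral A.left := GeometricallyIntegral.isIntegral_of_subsingleton A.hom
  haveI : LocallyOfFiniteType T.hom := by rw [← Over.w i]; infer_instance
  obtain ⟨hTs, hTc⟩ := AlbLib.smooth_connected_of_isTorus hT
  haveI := hTs; haveI := hTc
  haveI : GeometricallyIntegral T.hom := AlbLib.geometricallyIntegral_grp T
  haveI : IsIntegral T.left := GeometricallyIntegral.isIntegral_of_subsingleton T.hom
  have h1 : i ≫ w = 1 := eq_one_of_dense _ (torus_dense_torsPow hT l hl) _ fun a ⟨m, ha⟩ => by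
    rw [← Category.assoc]
    exact h _ ⟨m, by rw [← MonObj.pow_comp, ha, MonObj.one_comp]⟩
  haveI := AntiAffLib.lfp_of_lft q
  obtain ⟨y, rfl, hy⟩ := AntiAffLib.CommCat.exists_descend q w fun S a ha => by
    obtain ⟨t, rfl⟩ := AntiAffLib.exists_lift_kernel hker a ha
    rw [Category.assoc, h1, MonObj.comp_one]
  haveI := hy
  suffices hy1 : y = 1 by rw [hy1, MonObj.comp_one]
  refine eq_one_of_dense _ (AVAmpleLib.dense_torsPow l hl) _ fun a ⟨m, ha⟩ => ?_
  obtain ⟨g, hg⟩ := AVAmpleLib.exists_pt_lift q a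
  obtain ⟨t, ht⟩ := AntiAffLib.exists_lift_kernel hker (g ^ (l ^ m)) (by rw [MonObj.pow_comp, hg, ha])
  obtain ⟨s, rfl⟩ := torus_exists_root hT (pow_ne_zero m (Fact.out : l.Prime).ne_zero) t
  have hg' : (g * (s ≫ i)⁻¹) ^ (l ^ m) = 1 := by
    rw [mul_pow, inv_pow, ← MonObj.pow_comp, ht, mul_inv_cancel]
  have h2 := h _ ⟨m, hg'⟩
  rwa [MonObj.mul_comp, GrpObj.inv_comp, Category.assoc s i, h1, MonObj.comp_one, inv_one, _root_.mul_one,
    ← Category.assoc, hg] at h2

omit [QuasiCompact G.hom] in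
/-- A homomorphism killing all infinitesimal neighbourhoods of the unit of a connected group is trivial. -/
theorem eq_one_of_inf [IsIntegral G.left] {Z : Over (Spec (CommRingCat.of k))} [GrpObj Z]
    [LocallyOfFiniteType Z.hom] (w : G ⟶ Z) [IsMonHom w] (h : ∀ n, AlbNormLib.infHom G n ≫ w = 1) : w = 1 := by
  obtain ⟨K, _, c, hc, hcc, hK, -⟩ := AntiAffLib.exists_kernel w
  haveI := hcc
  haveI : IsLocallyNoetherian G.left := LocallyOfFiniteType.isLocallyNoetherian G.hom
  haveI : IsIso c.left := AlbNormLib.isIso_of_inf_factor (x := AlbNormLib.ePt G) c.left fun n => by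
    obtain ⟨l, hl⟩ := AntiAffLib.exists_lift_kernel hK (AlbNormLib.infHom G n) (h n)
    exact ⟨l.left, by rw [← Over.comp_left, hl]; rfl⟩
  haveI : IsIso ((Over.forget _).map c) := ‹IsIso c.left›
  haveI : IsIso c := isIso_of_reflects_iso c (Over.forget _)
  rw [← cancel_epi c, AntiAffLib.kernel_comp hK, MonObj.comp_one]

/-- An endomorphism divisible by all powers of a prime is trivial. -/
theorem IsSemiAb.eq_one_of_divisible (hG : IsSemiAb G) (p : ℕ) [Fact p.Prime] (w : G ⟶ G) [IsMonHom w]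
    (h : ∀ m : ℕ, ∃ c : G ⟶ G, w = (𝟙 G ^ (p ^ m)) ≫ c ∧ IsMonHom c) : w = 1 := by
  haveI := hG.comm.2
  haveI := hG.comm.1
  haveI : IsSeparated G.hom := GrpField.isSeparated_grp (G := G)
  have key : ∀ {S : Over (Spec (CommRingCat.of k))} (a : S ⟶ G) (m : ℕ), a ^ (p ^ m) = 1 → a ≫ w = 1 := by
    intro S a m ha
    obtain ⟨c, rfl, hc⟩ := h m
    haveI := hc
    rw [← Category.assoc, MonObj.comp_pow, Category.comp_id, ha, MonObj.one_comp]
  by_cases hp : (p : k) = 0
  · haveI : IsIntegral G.left := GeometricallyIntegral.isIntegral_of_subsingleton G.hom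
    refine eq_one_of_inf w fun n => ?_
    obtain ⟨j, hj⟩ := AlbNormLib.exists_infHom_pow_eq_one G p hp n
    exact key _ (j + 1) hj
  · exact hG.eq_one_of_torsion p hp w fun a ⟨m, ha⟩ => key a m ha

end SemiAbLib

end
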