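import Mathlib.Algebra.Polynomial.AlgebraMap
import Mathlib.Data.Nat.Choose.Dvd
import Mathlib.RingTheory.Coprime.Basic
import Mathlib.Tactic

/-!
Minkowski's lemma in a ring which is separated for the adic topology of a prime.
-/

set_option autoImplicit false

namespace SemiAbLib

open Polynomial

theorem exists_binomial (q : ℕ) :
    ∃ P : ℤ[X], (1 + X) ^ q = 1 + C (q : ℤ) * X + C (q.choose 2 : ℤ) * X ^ 2 + X ^ 3 * P := by
  induction q with
  | zero => exact ⟨0, by simp⟩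
  | succ q ih =>
    obtain ⟨P, hP⟩ := ih
    refine ⟨C (q.choose 2 : ℤ) + P * (1 + X), ?_⟩
    rw [pow_succ, hP, Nat.choose_succ_succ', Nat.choose_one_right]
    simp only [Nat.cast_add, Nat.cast_one, map_add, map_one]
    ring

variable {R : Type*} [Ring R]

theorem exists_expand (q l : ℕ) (w : R) :
    ∃ P : R, (1 + (l : ℤ) • w) ^ q =
      1 + (l * q : ℤ) • w + ((l : ℤ) ^ 2 * (q.choose 2 : ℤ)) • w ^ 2 + ((l : ℤ) ^ 3) • (w ^ 3 * P) := by
  obtain ⟨P, hP⟩ := exists_binomial q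
  refine ⟨aeval ((l : ℤ) • w) P, ?_⟩
  have h := congrArg (aeval ((l : ℤ) • w)) hP
  simp only [map_add, map_mul, map_pow, map_one, aeval_X, map_zsmul, map_smul, eq_intCast,
    smul_pow, ← zsmul_eq_mul, smul_smul, smul_mul_assoc] at h
  rw [h]
  module

variable (p : ℕ) (hsep : ∀ w : R, (∀ m, ∃ c : R, w = ((p : ℤ) ^ m) • c) → w = 0)
include hsep

theorem eq_zero_of_coprime {l q : ℕ} (hpl : p ∣ l) (hql : Nat.Coprime q l) {w P : R}
    (h : (q : ℤ) • w = (l : ℤ) • (w ^ 2 * P)) : w = 0 := by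
  refine hsep _ fun m => ?_
  induction m with
  | zero => exact ⟨w, by simp⟩
  | succ m ih =>
    obtain ⟨c, hc⟩ := ih
    obtain ⟨d, rfl⟩ := hpl
    obtain ⟨a, b, hab⟩ := (Nat.isCoprime_iff_coprime.2 hql : IsCoprime (q : ℤ) ((p * d : ℕ) : ℤ))
    refine ⟨(a * d) • (c * (w * P)) + (b * d) • c, ?_⟩
    calc w = (a * q + b * ((p * d : ℕ) : ℤ)) • w := by rw [hab, one_smul]
      _ = (a * ((p * d : ℕ) : ℤ)) • ((((p : ℤ) ^ m) • c) * (w * P)) +
            (b * ((p * d : ℕ) : ℤ)) • (((p : ℤ) ^ m) • c) := by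
          rw [add_smul, mul_smul a (q : ℤ) w, h, ← mul_smul, ← hc, ← mul_assoc, ← sq]
      _ = _ := by
          rw [smul_mul_assoc]
          push_cast
          module

variable (htf : ∀ (n : ℤ) (w : R), n ≠ 0 → n • w = 0 → w = 0)
include htf

theorem eq_one_of_prime_pow {q : ℕ} (hq : q.Prime) {l : ℕ} (hl : p.Prime ∧ (l = p ∧ p ≠ 2 ∨ p = 2 ∧ l = 4))
    {u w : R} (hu : u = 1 + (l : ℤ) • w) (huq : u ^ q = 1) : u = 1 := by
  suffices hw : w = 0 by rw [hu, hw, smul_zero, add_zero]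
  obtain ⟨P, hP⟩ := exists_expand q l w
  rw [← hu, huq] at hP
  have hl0 : (l : ℤ) ≠ 0 := by
    rcases hl.2 with ⟨rfl, -⟩ | ⟨-, rfl⟩
    · exact_mod_cast hl.1.ne_zero
    · norm_num
  have h2 : (q : ℤ) • w + ((l : ℤ) * q.choose 2) • w ^ 2 + ((l : ℤ) ^ 2) • (w ^ 3 * P) = 0 := by
    refine htf l _ hl0 ?_
    have h := sub_eq_zero.2 hP.symm
    rw [← h]
    module
  have hw3 : w ^ 3 * P = w ^ 2 * (w * P) := by rw [← mul_assoc, ← pow_succ]
  rcases hl.2 with ⟨rfl, h2'⟩ | ⟨rfl, rfl⟩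
  · by_cases hql : q = l
    · subst hql
      obtain ⟨e, he⟩ : q ∣ q.choose 2 :=
        hq.dvd_choose_self (by norm_num) (lt_of_le_of_ne hq.two_le (Ne.symm h2'))
      refine eq_zero_of_coprime q hsep dvd_rfl (Nat.coprime_one_left q)
        (P := -((e : ℤ) • (1 : R)) - w * P) (w := w) ?_
      rw [← sub_eq_zero]
      refine htf q _ hl0 ?_
      rw [← h2, he, hw3]
      simp only [mul_sub, mul_neg, mul_smul_comm, mul_one]
      push_cast
      module
    · refine eq_zero_of_coprime l hsep dvd_rfl ((Nat.coprime_primes hq hl.1).2 hql)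
        (P := -((q.choose 2 : ℤ) • (1 : R)) - (l : ℤ) • (w * P)) ?_
      rw [← sub_eq_zero, ← h2, hw3]
      simp only [mul_sub, mul_neg, mul_smul_comm, mul_one]
      module
  · by_cases hq' : q = 2
    · subst hq'
      refine eq_zero_of_coprime 2 hsep (dvd_refl 2) (Nat.coprime_one_left 2)
        (P := -1 - (4 : ℤ) • (w * P)) (w := w) ?_
      rw [← sub_eq_zero]
      refine htf 2 _ two_ne_zero ?_
      rw [← h2, hw3, Nat.choose_self]
      simp only [mul_sub, mul_neg, mul_smul_comm, mul_one]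
      push_cast
      module
    · refine eq_zero_of_coprime 2 hsep (l := 4) (by norm_num)
        (((Nat.coprime_primes hq Nat.prime_two).2 hq').pow_right 2)
        (P := -((q.choose 2 : ℤ) • (1 : R)) - (4 : ℤ) • (w * P)) ?_
      rw [← sub_eq_zero, ← h2, hw3]
      simp only [mul_sub, mul_neg, mul_smul_comm, mul_one]
      push_cast
      module

/-- An element of finite order which is congruent to one modulo an odd prime, or modulo four, is one. -/
theorem eq_one_of_congr {l : ℕ} (hl : p.Prime ∧ (l = p ∧ p ≠ 2 ∨ p = 2 ∧ l = 4)) :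
    ∀ {N : ℕ}, 0 < N → ∀ {u w : R}, u = 1 + (l : ℤ) • w → u ^ N = 1 → u = 1 := by
  intro N
  induction N using Nat.strong_induction_on with
  | _ N ih =>
    intro hN u w hu huN
    rcases eq_or_ne N 1 with rfl | hN1
    · rwa [pow_one] at huN
    obtain ⟨q, hq, d, rfl⟩ := Nat.exists_prime_and_dvd hN1
    have hd : 0 < d := Nat.pos_of_mul_pos_left hN
    obtain ⟨P, hP⟩ := exists_expand d l w
    have hud : u ^ d = 1 := by
      refine eq_one_of_prime_pow p hsep htf hq hl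
        (w := (d : ℤ) • w + ((l : ℤ) * d.choose 2) • w ^ 2 + ((l : ℤ) ^ 2) • (w ^ 3 * P)) ?_
        (by rw [← pow_mul, mul_comm]; exact huN)
      rw [hu, hP]
      module
    exact ih d (lt_mul_left hd hq.one_lt) hd hu hud

omit hsep htf in
/-- Minkowski: an element of finite order congruent to one modulo `n` is one, or an involution if `n = 2`. -/
theorem eq_one_or_involution (hsep : ∀ p : ℕ, p.Prime → ∀ w : R, (∀ m, ∃ c : R, w = ((p : ℤ) ^ m) • c) → w = 0)
    (htf : ∀ (m : ℤ) (w : R), m ≠ 0 → m • w = 0 → w = 0) {n N : ℕ} (hN : 0 < N) {u w : R}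
    (hu : u = 1 + (n : ℤ) • w) (huN : u ^ N = 1) : (3 ≤ n → u = 1) ∧ (n = 2 → u * u = 1) := by
  refine ⟨fun h3 => ?_, fun h2 => ?_⟩
  · rcases Nat.four_dvd_or_exists_odd_prime_and_dvd_of_two_lt h3 with ⟨d, rfl⟩ | ⟨p, hp, ⟨d, rfl⟩, hodd⟩
    · refine eq_one_of_congr (l := 4) 2 (hsep 2 Nat.prime_two) htf ⟨Nat.prime_two, Or.inr ⟨rfl, rfl⟩⟩ hN
        (w := (d : ℤ) • w) ?_ huN
      rw [hu]; push_cast; module
    · refine eq_one_of_congr (l := p) p (hsep p hp) htf ⟨hp, Or.inl ⟨rfl, fun h => by subst h; revert hodd; decide⟩⟩ hN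
        (w := (d : ℤ) • w) ?_ huN
      rw [hu]; push_cast; module
  · subst h2
    refine eq_one_of_congr (l := 4) 2 (hsep 2 Nat.prime_two) htf ⟨Nat.prime_two, Or.inr ⟨rfl, rfl⟩⟩ hN
      (w := w + w * w) ?_ (by rw [← pow_two, ← pow_mul, mul_comm, pow_mul, huN, one_pow])
    rw [hu]
    simp only [mul_add, add_mul, one_mul, mul_one, smul_mul_smul_comm]
    push_cast
    module

end SemiAbLib
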