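import Groth.Agent.SemiAbLib.Points
import Groth.Agent.AlbNormLib.InfNbhd
import Groth.Agent.AffContLib.Semi
import Groth.Agent.AlgSpLib.ReducedStalk
import Groth.Agent.GrpSchLib.Cartier

/-!
An infinitesimal commutative group is killed by an integer.
-/

set_option autoImplicit false
set_option linter.style.haveILetI false
set_option backward.isDefEq.respectTransparency false
set_option maxHeartbeats 1000000

noncomputable section

universe u

open CategoryTheory CategoryTheory.Limits MonoidalCategory CartesianMonoidalCategory AlgebraicGeometry IsLocalRing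
open scoped MonObj
open Groth.Agent

attribute [-instance] CategoryTheory.Hom.commGroup

namespace SemiAbLib

/-- A one-point scheme is the spectrum of its local ring. -/
theorem isIso_fromSpecStalk (X : Scheme.{u}) [Subsingleton X] (x : X) : IsIso (X.fromSpecStalk x) := by
  haveI := AlgSpLib.flat_fromSpecStalk x
  rw [isIso_iff_isIso_stalkMap]
  refine ⟨(TopCat.isIso_iff_isHomeomorph _).2 ?_, fun y => AffContLib.isIso_stalkMap_of_flat_preimmersion _ y⟩
  refine isHomeomorph_iff_isEmbedding_surjective.2 ⟨(X.fromSpecStalk x).isEmbedding, fun y => ⟨closedPoint _, ?_⟩⟩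
  exact Subsingleton.elim _ _

/-- A one-point noetherian scheme is its own infinitesimal neighbourhood. -/
theorem exists_isIso_inf (X : Scheme.{u}) [Subsingleton X] [IsLocallyNoetherian X] (x : X) :
    ∃ n, IsIso (AlbNormLib.inf X x n) := by
  haveI := isIso_fromSpecStalk X x
  haveI : Subsingleton (PrimeSpectrum (X.presheaf.stalk x)) :=
    (X.fromSpecStalk x).isEmbedding.injective.subsingleton
  have h : maximalIdeal (X.presheaf.stalk x) = nilradical (X.presheaf.stalk x) := by
    refine le_antisymm (fun a ha => ?_) (IsLocalRing.le_maximalIdeal ?_)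
    · rw [nilradical_eq_sInf, Ideal.mem_sInf]
      intro P hP
      rw [show P = (closedPoint (X.presheaf.stalk x)).asIdeal from
        congrArg PrimeSpectrum.asIdeal (Subsingleton.elim (α := PrimeSpectrum _) ⟨P, hP⟩ _)]
      exact ha
    · exact fun h => (IsLocalRing.maximalIdeal.isMaximal _).ne_top (eq_top_iff.2 (by
        rw [← h]; exact nilradical_le_prime _))
  obtain ⟨n, hn⟩ := IsNoetherianRing.isNilpotent_nilradical (X.presheaf.stalk x)
  refine ⟨n, ?_⟩
  haveI : IsIso (AlbNormLib.infMk X x n) := by
    rw [ConcreteCategory.isIso_iff_bijective]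
    refine ⟨(injective_iff_map_eq_zero _).2 fun a ha => ?_, Ideal.Quotient.mk_surjective⟩
    have h' : a ∈ maximalIdeal (X.presheaf.stalk x) ^ n := Ideal.Quotient.eq_zero_iff_mem.1 ha
    rw [h, hn] at h'
    exact h'
  rw [AlbNormLib.inf]
  infer_instance

variable {k : Type u} [Field k] [IsAlgClosed k]

/-- A one-point commutative group is killed by a positive integer. -/
theorem exists_pow_eq_one (Q : Over (Spec (CommRingCat.of k))) [GrpObj Q] [IsCommMonObj Q]
    [LocallyOfFiniteType Q.hom] [Subsingleton Q.left] : ∃ m : ℕ, m ≠ 0 ∧ (𝟙 Q) ^ m = 1 := by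
  haveI : IsLocallyNoetherian Q.left := LocallyOfFiniteType.isLocallyNoetherian Q.hom
  rcases CharP.exists k with ⟨p, hp⟩
  by_cases hp0 : p = 0
  · subst hp0
    haveI : CharZero k := CharP.charP_to_charZero k
    haveI : Smooth Q.hom := GrpSchLib.smooth_of_charZero Q
    haveI : IsReduced Q.left := AlgSpLib.isReduced_of_smooth Q.hom
    haveI : IsSeparated Q.hom := GrpField.isSeparated_grp (G := Q)
    refine ⟨1, one_ne_zero, ?_⟩
    rw [pow_one]
    refine hom_ext_of_dense Set.univ (closure_pt_univ Q) _ _ fun s _ => ?_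
    rw [Category.comp_id, MonObj.comp_one]
    exact Over.OverMorphism.ext (ext_of_apply_closedPoint_eq Q.hom (Over.w _) (Over.w _) (Subsingleton.elim _ _))
  · obtain ⟨n, hn⟩ := exists_isIso_inf Q.left (AlbNormLib.ePt Q)
    obtain ⟨j, hj⟩ := AlbNormLib.exists_infHom_pow_eq_one Q p (CharP.cast_eq_zero k p) n
    haveI : IsIso ((Over.forget _).map (AlbNormLib.infHom Q n)) := hn
    haveI : IsIso (AlbNormLib.infHom Q n) := isIso_of_reflects_iso _ (Over.forget _)
    refine ⟨p ^ (j + 1), pow_ne_zero _ hp0, ?_⟩
    rw [← cancel_epi (AlbNormLib.infHom Q n), MonObj.comp_pow, Category.comp_id, hj, MonObj.comp_one]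

end SemiAbLib

end
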