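import Groth.Agent.SemiAbLib.Basic
import Groth.Agent.SemiAbLib.InfKill
import Groth.Agent.AVAmpleLib.BcTate
import Groth.Agent.AVAmpleLib.BcDeg
import Groth.Agent.S3030
import Groth.Agent.S5938

/-!
Descent of the reduced subgroup of a commutative group with divisible reduced geometric fibre.
-/

set_option autoImplicit false
set_option linter.style.haveILetI false
set_option backward.isDefEq.respectTransparency false
set_option maxHeartbeats 1000000

noncomputable section

universe u

open CategoryTheory CategoryTheory.Limits MonoidalCategory CartesianMonoidalCategory AlgebraicGeometry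
open scoped MonObj
open Groth.Agent AVAmpleLib

attribute [-instance] CategoryTheory.Hom.commGroup

namespace SemiAbLib

section

variable {K : Type u} [Field K] [IsAlgClosed K] {N R : Over (Spec (CommRingCat.of K))} [GrpObj N] [GrpObj R]

/-- A power map factors through a subgroup supported everywhere. -/
theorem exists_pow_factor [IsCommMonObj N] [LocallyOfFiniteType N.hom] [QuasiCompact N.hom] (r : R ⟶ N) [IsMonHom r]
    [IsClosedImmersion r.left] [Surjective r.left] [ConnectedSpace N.left] :
    ∃ m : ℕ, m ≠ 0 ∧ ∃ c : N ⟶ R, c ≫ r = 𝟙 N ^ m := by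
  haveI : Mono r := Over.mono_of_mono_left r
  haveI : LocallyOfFiniteType R.hom := by rw [← Over.w r]; infer_instance
  haveI : Flat R.hom := GrpField.flat_field _
  haveI : Flat N.hom := GrpField.flat_field _
  haveI : QuasiCompact r.left := inferInstance
  obtain ⟨Q, _, q, hqm, hqf, hqs, hqp, hqk, hQsep, -, -⟩ := Groth.Agent.S3030.result K R N r
    (fun T g m => ⟨m, by
      letI : CommGroup (T ⟶ N) := Hom.commGroup
      rw [_root_.mul_comm g, mul_inv_cancel_right]⟩)
  haveI := hqm; haveI := hqf; haveI := hqs; haveI := hqp; haveI := hQsep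
  haveI : IsCommMonObj Q := AntiAffLib.CommCat.isComm_of_epi q
  haveI : LocallyOfFiniteType Q.hom := by
    haveI : LocallyOfFiniteType (q.left ≫ Q.hom) := by rw [Over.w q]; infer_instance
    exact Groth.Agent.S5938.result q.left Q.hom
  haveI : Surjective (r ≫ q).left := by rw [Over.comp_left]; infer_instance
  haveI : Subsingleton Q.left := by
    refine ⟨fun x y => ?_⟩
    obtain ⟨x', rfl⟩ := (r ≫ q).left.surjective x
    obtain ⟨y', rfl⟩ := (r ≫ q).left.surjective y
    rw [AntiAffLib.kernel_comp hqk, Hom.one_def, Over.comp_left, Scheme.Hom.comp_apply, Scheme.Hom.comp_apply]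
    exact congrArg (η[Q]).left (@Subsingleton.elim (PrimeSpectrum K) _ _ _)
  obtain ⟨m, hm, hmQ⟩ := exists_pow_eq_one Q
  obtain ⟨c, hc⟩ := AntiAffLib.exists_lift_kernel hqk (𝟙 N ^ m) (by
    rw [MonObj.pow_comp, Category.id_comp, ← Category.comp_id q, ← MonObj.comp_pow, hmQ, MonObj.comp_one])
  exact ⟨m, hm, c, hc⟩

end

variable {k : Type u} [Field k] (K : Type u) [Field K] [Algebra k K]

local notation "B" => AVAmpleLib.bcF (k := k) K

local instance grpB (Z : Over (Spec (CommRingCat.of k))) [GrpObj Z] : GrpObj ((B).obj Z) := Functor.grpObjObj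

local instance commB (Z : Over (Spec (CommRingCat.of k))) [GrpObj Z] [IsCommMonObj Z] : IsCommMonObj ((B).obj Z) :=
  Functor.isCommMonObj_obj (F := B)

theorem surjective_spec : Surjective (Spec.map (CommRingCat.ofHom (algebraMap k K))) :=
  ⟨fun y => ⟨Classical.arbitrary (PrimeSpectrum K), Subsingleton.elim (α := PrimeSpectrum k) _ _⟩⟩

theorem map_pow_id (Z : Over (Spec (CommRingCat.of k))) [GrpObj Z] (m : ℕ) :
    (B).map (𝟙 Z ^ m) = 𝟙 ((B).obj Z) ^ m := by
  rw [show (B).map (𝟙 Z ^ m) = ((B).map (𝟙 Z)) ^ m from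
    map_pow (Functor.homMonoidHom (B) : (Z ⟶ Z) →* _) (𝟙 Z) m, CategoryTheory.Functor.map_id]

theorem isClosedImmersion_map {X Y : Over (Spec (CommRingCat.of k))} (f : X ⟶ Y) [h : IsClosedImmersion f.left] :
    IsClosedImmersion ((B).map f).left :=
  MorphismProperty.of_isPullback (P := @IsClosedImmersion) (AVAmpleLib.isPullback_bc K f) h

variable [IsAlgClosed K]

/-- A commutative group whose reduced geometric fibre is divisible has a smooth subgroup with that fibre. -/
theorem exists_smooth_sub (N : Over (Spec (CommRingCat.of k))) [GrpObj N] [IsCommMonObj N]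
    [LocallyOfFiniteType N.hom] [QuasiCompact N.hom] [ConnectedSpace ((B).obj N).left]
    (R : Over (Spec (CommRingCat.of K))) [GrpObj R] [IsReduced R.left] (r : R ⟶ (B).obj N) [IsMonHom r]
    [IsClosedImmersion r.left] [Surjective r.left] (hroot : ∀ m : ℕ, m ≠ 0 → Surjective (𝟙 R ^ m).left) :
    ∃ (m : ℕ) (S : Over (Spec (CommRingCat.of k))) (_ : GrpObj S) (s : S ⟶ N) (π : N ⟶ S)
      (e : (B).obj S ≅ R), m ≠ 0 ∧ IsMonHom s ∧ IsClosedImmersion s.left ∧ IsMonHom π ∧ Flat π.left ∧
      Surjective π.left ∧ π ≫ s = 𝟙 N ^ m ∧ IsMonHom e.hom ∧ e.hom ≫ r = (B).map s ∧ Smooth S.hom := by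
  haveI : LocallyOfFiniteType ((B).obj N).hom := inferInstanceAs (LocallyOfFiniteType (pullback.snd N.hom _))
  haveI : QuasiCompact ((B).obj N).hom := inferInstanceAs (QuasiCompact (pullback.snd N.hom _))
  haveI : Mono r := Over.mono_of_mono_left r
  obtain ⟨m, hm, c, hc⟩ := exists_pow_factor r
  haveI : IsSeparated N.hom := GrpField.isSeparated_grp (G := N)
  haveI : Flat N.hom := GrpField.flat_field _
  let f := 𝟙 N ^ m
  haveI hfm : IsMonHom f := by
    show IsMonHom (𝟙 N ^ m)
    rw [← zpow_natCast]; exact AbSchLib.isMonHom_zpow N (m : ℤ)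
  haveI : QuasiCompact f.left := by
    haveI : QuasiCompact (f.left ≫ N.hom) := by rw [Over.w f]; infer_instance
    exact QuasiCompact.of_comp f.left N.hom
  obtain ⟨S, _, π, s, hπm, hsm, hπs, hπf, hπsurj, hπp, hsc⟩ :=
    GrpHom.exists_fppf_image f (GrpField.flat_field _)
  haveI := hπm; haveI := hsm; haveI := hπf; haveI := hπsurj; haveI := hπp; haveI := hsc
  haveI : LocallyOfFiniteType S.hom := by rw [← Over.w s]; infer_instance
  haveI := isClosedImmersion_map K s
  haveI : Flat ((B).map π).left :=
    MorphismProperty.of_isPullback (P := @Flat) (AVAmpleLib.isPullback_bc K π) hπf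
  haveI : Surjective ((B).map π).left :=
    MorphismProperty.of_isPullback (P := @Surjective) (AVAmpleLib.isPullback_bc K π) hπsurj
  haveI : LocallyOfFinitePresentation ((B).map π).left :=
    MorphismProperty.of_isPullback (P := @LocallyOfFinitePresentation) (AVAmpleLib.isPullback_bc K π) hπp
  have hB : (B).map π ≫ (B).map s = c ≫ r := by rw [← Functor.map_comp, hπs, hc, map_pow_id]
  obtain ⟨y, hy⟩ := AntiAffLib.exists_factor_of_cover ((B).map π) r ((B).map s) c hB.symm
  haveI : IsClosedImmersion (y.left ≫ r.left) := by rw [← Over.comp_left, hy]; infer_instance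
  haveI : IsClosedImmersion y.left := IsClosedImmersion.of_comp y.left r.left
  haveI : Surjective y.left := by
    refine ⟨fun x => ?_⟩
    obtain ⟨z, hz⟩ := (hroot m hm).surj x
    refine ⟨((B).map π).left (r.left z), ?_⟩
    have hcy : (B).map π ≫ y = c := by rw [← cancel_mono r, Category.assoc, hy, hB]
    have hrc : r ≫ c = 𝟙 R ^ m := by
      rw [← cancel_mono r, Category.assoc, hc, MonObj.comp_pow, Category.comp_id, MonObj.pow_comp, Category.id_comp]
    rw [← Scheme.Hom.comp_apply, ← Over.comp_left, hcy, ← Scheme.Hom.comp_apply, ← Over.comp_left, hrc]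
    exact hz
  haveI : IsIso y.left := isIso_of_isClosedImmersion_of_surjective y.left
  haveI : IsIso ((Over.forget _).map y) := ‹IsIso y.left›
  haveI : IsIso y := isIso_of_reflects_iso y (Over.forget _)
  haveI : IsMonHom ((B).map s) := @Functor.map.instIsMonHom _ _ _ _ _ _ (B) _ _ _ _ _ s _
  haveI : IsMonHom (y ≫ r) := hy ▸ inferInstance
  haveI hym : IsMonHom y := DiagRep.isMonHom_of_comp_mono y r
  refine ⟨m, S, inferInstance, s, π, asIso y, hm, hsm, hsc, hπm, hπf, hπsurj, hπs, hym, hy, ?_⟩
  haveI := surjective_spec (k := k) K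
  haveI : Flat (Spec.map (CommRingCat.ofHom (algebraMap k K))) := GrpField.flat_field _
  haveI : IsReduced ((B).obj S).left := isReduced_of_isOpenImmersion y.left
  haveI : LocallyOfFiniteType ((B).obj S).hom := inferInstanceAs (LocallyOfFiniteType (pullback.snd S.hom _))
  have hs : Smooth (pullback.snd S.hom (Spec.map (CommRingCat.ofHom (algebraMap k K)))) :=
    GrpSchLib.smooth_of_isAlgClosed_of_isReduced ((B).obj S)
  haveI : QuasiCompact (Spec.map (CommRingCat.ofHom (algebraMap k K))) := quasiCompact_of_compactSpace _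
  exact MorphismProperty.of_pullback_snd_of_descendsAlong (P := @Smooth) (Q := @Surjective ⊓ @Flat ⊓ @QuasiCompact)
    (g := Spec.map (CommRingCat.ofHom (algebraMap k K))) ⟨⟨inferInstance, inferInstance⟩, inferInstance⟩ hs

end SemiAbLib

end
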