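import Groth.Agent.SemiAbLib.TorusFrob
import Groth.Agent.AVAmpleLib.FrobExist
import Groth.Agent.OrbitLib.ToAffineMain
import Groth.Agent.AlbLib.Torus

/-!
Frobenius endomorphisms of group schemes over a finite field and their restriction to tori.
-/

set_option autoImplicit false
set_option linter.style.haveILetI false
set_option backward.isDefEq.respectTransparency false
set_option maxHeartbeats 1000000

noncomputable section

universe u

open CategoryTheory CategoryTheory.Limits MonoidalCategory CartesianMonoidalCategory AlgebraicGeometry CoactBr WithConv FrobSch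
open scoped MonObj TensorProduct
open Groth.Agent

attribute [-instance] CategoryTheory.Hom.commGroup

namespace SemiAbLib

variable {k : Type u} [Field k] [Finite k]

/-- Iterated Frobenius endomorphisms fixing a finite field. -/
theorem exists_frobNat (p N : ℕ) [Fact p.Prime] [CharP k p] (hN : ∀ c : k, c ^ p ^ N = c) :
    ∃ fr : ∀ Z : Over (Spec (CommRingCat.of k)), Z ⟶ Z,
      (∀ (Z Z' : Over (Spec (CommRingCat.of k))) (f : Z ⟶ Z'), fr Z ≫ f = f ≫ fr Z') ∧
      (∀ (Z : Over (Spec (CommRingCat.of k))) [GrpObj Z], IsMonHom (fr Z)) ∧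
      (∀ Z : Over (Spec (CommRingCat.of k)), (fr Z).left.base = 𝟙 _ ∧
        ∃ hle : ∀ U : Z.left.Opens, U ≤ (fr Z).left ⁻¹ᵁ U,
          ∀ (U : Z.left.Opens) (s : Γ(Z.left, U)), ((fr Z).left.appLE U U (hle U)).hom s = s ^ p ^ N) ∧
      ∀ (A : Type u) [CommRing A] [Algebra k A] [Nontrivial A] (φ : A →ₐ[k] A), (∀ a, φ a = a ^ p ^ N) →
        fr (sp k A) = pt φ := by
  haveI : ExpChar k p := ExpChar.prime Fact.out
  have hid : frobIter (Spec (CommRingCat.of k)) p N = 𝟙 _ := by
    rw [CurveFFLib.frobIter_spec, ← Spec.map_id]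
    congr 1
    refine CommRingCat.hom_ext (RingHom.ext fun x => ?_)
    show iterateFrobenius k p N x = x
    rw [iterateFrobenius_def, hN]
  haveI : ∀ T : Over (Spec (CommRingCat.of k)), IsCharP T.left p := fun T => IsCharP.of_hom T.hom p
  let fr : ∀ T : Over (Spec (CommRingCat.of k)), T ⟶ T := fun T => Over.homMk (frobIter T.left p N) (by
    rw [CurveFFLib.frobIter_comp, hid, Category.comp_id])
  have hnat : ∀ (T T' : Over (Spec (CommRingCat.of k))) (f : T ⟶ T'), fr T ≫ f = f ≫ fr T' := fun T T' f =>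
    Over.OverMorphism.ext (CurveFFLib.frobIter_comp f.left N)
  refine ⟨fr, hnat, fun Z _ => ?_, fun Z => ?_, ?_⟩
  · have h1 : fr (𝟙_ (Over (Spec (CommRingCat.of k)))) = 𝟙 _ := toUnit_unique _ _
    have h2 : fr (Z ⊗ Z) = fr Z ⊗ₘ fr Z := by
      refine CartesianMonoidalCategory.hom_ext _ _ ?_ ?_
      · rw [tensorHom_fst]; exact hnat _ _ _
      · rw [tensorHom_snd]; exact hnat _ _ _
    exact ⟨by rw [← hnat, h1, Category.id_comp], by rw [← hnat, h2]⟩
  · obtain ⟨hle, happ⟩ := AVAmpleLib.frobIter_appLE (X := Z.left) (p := p) N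
    exact ⟨by ext x; exact CurveFFLib.frobIter_apply N x, hle, fun U s => happ U s⟩
  · intro A _ _ _ φ hφ
    haveI : CharP A p := charP_of_injective_algebraMap (algebraMap k A).injective p
    haveI : ExpChar A p := ExpChar.prime Fact.out
    refine Over.OverMorphism.ext ?_
    show frobIter (Spec (CommRingCat.of A)) p N = Spec.map (CommRingCat.ofHom φ.toRingHom)
    rw [CurveFFLib.frobIter_spec]
    congr 1
    refine CommRingCat.hom_ext (RingHom.ext fun x => ?_)
    show iterateFrobenius A p N x = φ x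
    rw [iterateFrobenius_def, hφ]

/-- Powers of the identity point. -/
theorem pt_pow_id {A : Type u} [CommRing A] [HopfAlgebra k A] (Q : ℕ) :
    (𝟙 (sp k A)) ^ Q = pt ((toConv (AlgHom.id k A)) ^ Q).ofConv := by
  induction Q with
  | zero =>
    rw [pow_zero, pow_zero, ← DiagRep.pt_one]
    congr 1
  | succ Q ih =>
    rw [pow_succ, pow_succ, ih]
    conv_lhs => arg 2; rw [← pt_id (R := k)]
    rw [DiagRep.pt_mul_conv, WithConv.toConv_ofConv]

/-- On a torus over a finite field some iterated Frobenius is a power map. -/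
theorem exists_frob_torus (T : Over (Spec (CommRingCat.of k))) [GrpObj T] (hT : Red.IsTorus T) :
    ∃ (p N : ℕ) (_ : Fact p.Prime) (_ : CharP k p), 0 < N ∧ (∀ c : k, c ^ p ^ N = c) ∧
      ∀ fr : ∀ Z : Over (Spec (CommRingCat.of k)), Z ⟶ Z,
        (∀ (Z Z' : Over (Spec (CommRingCat.of k))) (f : Z ⟶ Z'), fr Z ≫ f = f ≫ fr Z') →
        (∀ (A : Type u) [CommRing A] [Algebra k A] [Nontrivial A] (φ : A →ₐ[k] A), (∀ a, φ a = a ^ p ^ N) →
          fr (sp k A) = pt φ) →
        fr T = 𝟙 T ^ p ^ N := by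
  obtain ⟨p, n, hp, hc, hn, -⟩ := AVAmpleLib.frobIter_spec_card k
  haveI := hp; haveI := hc
  obtain ⟨S', f, -, hfs, -, hloc⟩ := hT
  obtain ⟨s', -⟩ := hfs.surj (IsLocalRing.closedPoint k)
  obtain ⟨U, hU, r, ⟨e⟩⟩ := hloc s'
  let u : U.toScheme := ⟨s', hU⟩
  let L : Type u := U.toScheme.residueField u
  let g : Spec (CommRingCat.of L) ⟶ U.toScheme := U.toScheme.fromSpecResidueField u
  letI : Algebra k L := (Spec.preimage (g ≫ U.ι ≫ f)).hom.toAlgebra
  have hh : Spec.map (CommRingCat.ofHom (algebraMap k L)) = g ≫ U.ι ≫ f := Spec.map_preimage _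
  have hsplit : Red.IsSplitTorusWith (Fin r → ℤ) (Red.bc (DiagRep.baseHom k L) T) := by
    show Red.IsSplitTorusWith (Fin r → ℤ) (Red.bc (Spec.map (CommRingCat.ofHom (algebraMap k L))) T)
    rw [hh]
    obtain ⟨ψ, h1, h2⟩ := AlbLib.exists_split_at g (U.ι ≫ f) T _ e
    haveI := h1; haveI := h2
    exact ⟨Grp.mkIso (asIso ψ) (IsMonHom.one_hom ψ) (IsMonHom.mul_hom ψ)⟩
  obtain ⟨A, _, _, v, hv, hv', ⟨E⟩⟩ :=
    TorusField.exists_torus_rep T (AlgebraicClosure k) ⟨L, inferInstance, inferInstance, hsplit⟩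
  obtain ⟨m, hm, φ, hφ, hφe⟩ := exists_frob_eq_pow (AlgebraicClosure k) p n hn E
  have hcard : 1 < Nat.card k := Finite.one_lt_card
  have hn0 : 0 < n := by
    rcases Nat.eq_zero_or_pos n with h | h
    · subst h; simp [hn] at hcard
    · exact h
  refine ⟨p, n * m, hp, hc, Nat.mul_pos hn0 hm, fun c => ?_, fun fr hnat hfr => ?_⟩
  · letI := Fintype.ofFinite k
    rw [pow_mul, ← hn, Nat.card_eq_fintype_card, FiniteField.pow_card_pow]
  haveI : Nontrivial A := (Bialgebra.counitAlgHom k A).toRingHom.domain_nontrivial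
  have h1 : fr (sp k A) = 𝟙 (sp k A) ^ p ^ (n * m) := by rw [pt_pow_id, hfr A φ hφ, hφe]
  haveI := hv
  rw [← cancel_epi v.hom, ← hnat, h1, MonObj.pow_comp, Category.id_comp, MonObj.comp_pow, Category.comp_id]

end SemiAbLib

end
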