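import Groth.Agent.SemiAbLib.TorusBC
import Groth.Agent.AVAmpleLib.FrobExist
import Groth.Agent.TorusFieldLib.Cochar
import Mathlib.FieldTheory.Finite.Basic

/-!
A high power of Frobenius on a torus over a finite field is a power map.
-/

set_option autoImplicit false
set_option linter.style.haveILetI false
set_option backward.isDefEq.respectTransparency false
set_option maxHeartbeats 1000000

noncomputable section

universe u

open CategoryTheory CategoryTheory.Limits MonoidalCategory CartesianMonoidalCategory AlgebraicGeometry CoactBr WithConv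
open scoped MonObj TensorProduct
open Groth.Agent TorusField

attribute [-instance] CategoryTheory.Hom.commGroup

namespace SemiAbLib

variable {k : Type u} [Field k] {A : Type u} [CommRing A] [HopfAlgebra k A]
variable (F : Type u) [Field F] [Algebra k F]

/-- Extension of scalars of an algebra map. -/
def extAt {B : Type u} [CommRing B] [Algebra k B] (x : A →ₐ[k] B) : F ⊗[k] A →ₐ[F] F ⊗[k] B :=
  Algebra.TensorProduct.map (AlgHom.id F F) x

theorem extAt_tmul {B : Type u} [CommRing B] [Algebra k B] (x : A →ₐ[k] B) (c : F) (a : A) :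
    extAt F x (c ⊗ₜ[k] a) = c ⊗ₜ[k] x a := rfl

theorem extAt_mul {B : Type u} [CommRing B] [Algebra k B] {x y : WithConv (A →ₐ[k] B)} {z : F ⊗[k] A}
    (hz : IsGL k A F z) : extAt F (x * y).ofConv z = extAt F x.ofConv z * extAt F y.ofConv z := by
  let W : F ⊗[k] (A ⊗[k] A) →ₐ[F] F ⊗[k] B := Algebra.TensorProduct.map (AlgHom.id F F)
    (Algebra.TensorProduct.lift x.ofConv y.ofConv fun _ _ => Commute.all _ _)
  have h1 : W.comp (J₁ k A F) = extAt F x.ofConv :=
    Algebra.TensorProduct.ext (Subsingleton.elim _ _) (AlgHom.ext fun a => by simp [W, J₁, extAt])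
  have h2 : W.comp (J₂ k A F) = extAt F y.ofConv :=
    Algebra.TensorProduct.ext (Subsingleton.elim _ _) (AlgHom.ext fun a => by simp [W, J₂, extAt])
  have h3 : W.comp (D k A F) = extAt F (x * y).ofConv := by
    refine Algebra.TensorProduct.ext (Subsingleton.elim _ _) (AlgHom.ext fun a => ?_)
    have e : (x * y).ofConv a =
        Algebra.TensorProduct.lift x.ofConv y.ofConv (fun _ _ => Commute.all _ _) (CoalgebraStruct.comul a) :=
      AlgHom.convMul_apply _ _ _
    simp [W, D, extAt, e]
  rw [← h3, AlgHom.comp_apply, hz.1, map_mul, ← AlgHom.comp_apply, h1, ← AlgHom.comp_apply, h2]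

theorem extAt_pow_id {z : F ⊗[k] A} (hz : IsGL k A F z) (Q : ℕ) :
    extAt F ((toConv (AlgHom.id k A)) ^ Q).ofConv z = z ^ Q := by
  induction Q with
  | zero =>
    rw [pow_zero, pow_zero]
    have h : extAt F (1 : WithConv (A →ₐ[k] A)).ofConv =
        ((Algebra.ofId F (F ⊗[k] A))).comp (ev1 k A F) := by
      refine Algebra.TensorProduct.ext (Subsingleton.elim _ _) (AlgHom.ext fun a => ?_)
      simp [extAt, ev1, AlgHom.convOne_def, Algebra.algebraMap_eq_smul_one, TensorProduct.smul_tmul', Algebra.TensorProduct.one_def]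
    rw [h, AlgHom.comp_apply, hz.2, map_one]
  | succ Q ih =>
    rw [pow_succ, extAt_mul F hz, ih, pow_succ]
    congr 1
    rw [WithConv.ofConv_toConv, extAt, Algebra.TensorProduct.map_id, AlgHom.id_apply]

omit [HopfAlgebra k A] in
/-- A tensor is fixed by all large powers of the arithmetic Frobenius. -/
theorem exists_fixing [Algebra k A] (z : F ⊗[k] A) (p : ℕ) [Fact p.Prime] [CharP (F ⊗[k] A) p] :
    ∃ s : Finset F, ∀ (N : ℕ) (φ : A →ₐ[k] A), (∀ a, φ a = a ^ p ^ N) → (∀ c ∈ s, c ^ p ^ N = c) →
      Algebra.TensorProduct.map (AlgHom.id F F) φ z = z ^ p ^ N := by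
  classical
  induction z using TensorProduct.induction_on with
  | zero =>
    exact ⟨∅, fun N φ _ _ => by rw [map_zero, zero_pow (pow_ne_zero _ (Fact.out : p.Prime).ne_zero)]⟩
  | tmul c a =>
    refine ⟨{c}, fun N φ hφ h => ?_⟩
    rw [Algebra.TensorProduct.tmul_pow, h c (Finset.mem_singleton_self c), ← hφ]
    rfl
  | add x y hx hy =>
    obtain ⟨s, hs⟩ := hx
    obtain ⟨t, ht⟩ := hy
    refine ⟨s ∪ t, fun N φ hφ h => ?_⟩
    rw [map_add, hs N φ hφ fun c hc => h c (Finset.mem_union_left _ hc),
      ht N φ hφ fun c hc => h c (Finset.mem_union_right _ hc), add_pow_char_pow]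

/-- On a split Hopf algebra a high power of Frobenius is a convolution power of the identity. -/
theorem exists_frob_eq_pow [Finite k] [Algebra.IsAlgebraic k F] (p n : ℕ) [Fact p.Prime] [CharP k p]
    (hn : Nat.card k = p ^ n) {r : ℕ} (E : TorusField.Split k A (Fin r → ℤ) F) :
    ∃ m : ℕ, 0 < m ∧ ∃ φ : A →ₐ[k] A, (∀ a, φ a = a ^ p ^ (n * m)) ∧
      φ = ((toConv (AlgHom.id k A)) ^ p ^ (n * m)).ofConv := by
  classical
  haveI : Nontrivial A := (Bialgebra.counitAlgHom k A).toRingHom.domain_nontrivial
  haveI : CharP A p := charP_of_injective_algebraMap (algebraMap k A).injective p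
  haveI : Nontrivial (F ⊗[k] A) :=
    (Algebra.TensorProduct.lift (AlgHom.id F F) ((Algebra.ofId k F).comp (Bialgebra.counitAlgHom k A))
      fun _ _ => Commute.all _ _).toRingHom.domain_nontrivial
  haveI : CharP (F ⊗[k] A) p := charP_of_injective_algebraMap (algebraMap k (F ⊗[k] A)).injective p
  let gens : Finset (Fin r → ℤ) := Finset.univ.image fun i => Pi.single i (1 : ℤ)
  choose s hs using fun g : Fin r → ℤ => exists_fixing F (E.e g) p
  let S : Finset F := gens.biUnion s
  let L := IntermediateField.adjoin k (S : Set F)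
  haveI : FiniteDimensional k L :=
    IntermediateField.finiteDimensional_adjoin fun c _ => Algebra.IsIntegral.isIntegral c
  haveI : Finite L := Module.finite_of_finite k
  have hm : 0 < Module.finrank k L := Module.finrank_pos
  set m := Module.finrank k L with hmdef
  set Q := p ^ (n * m) with hQ
  have hcard : Nat.card L = Q := by rw [hQ, pow_mul, ← hn, Module.natCard_eq_pow_finrank (K := k), hmdef]
  have hfix : ∀ c ∈ S, c ^ Q = c := by
    intro c hc
    letI := Fintype.ofFinite L
    have h := FiniteField.pow_card (⟨c, IntermediateField.subset_adjoin k _ hc⟩ : L)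
    rw [← Nat.card_eq_fintype_card, hcard] at h
    exact congrArg Subtype.val h
  let φ : A →ₐ[k] A :=
    { toRingHom := iterateFrobenius A p (n * m)
      commutes' := fun c => by
        show iterateFrobenius A p (n * m) (algebraMap k A c) = algebraMap k A c
        letI := Fintype.ofFinite k
        rw [iterateFrobenius_def, ← map_pow, pow_mul, ← hn, Nat.card_eq_fintype_card, FiniteField.pow_card_pow] }
  have hφ : ∀ a, φ a = a ^ Q := fun a => iterateFrobenius_def p (n * m) a
  refine ⟨m, hm, φ, hφ, ?_⟩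
  let ψ : A →ₐ[k] A := ((toConv (AlgHom.id k A)) ^ Q).ofConv
  let f₁ : Multiplicative (Fin r → ℤ) →* F ⊗[k] A := (extAt F φ).toRingHom.toMonoidHom.comp E.hom
  let f₂ : Multiplicative (Fin r → ℤ) →* F ⊗[k] A := (extAt F ψ).toRingHom.toMonoidHom.comp E.hom
  have hgen : ∀ i, f₁ (Multiplicative.ofAdd (Pi.single i 1)) = f₂ (Multiplicative.ofAdd (Pi.single i 1)) := by
    intro i
    have hi : Pi.single i (1 : ℤ) ∈ gens := Finset.mem_image_of_mem _ (Finset.mem_univ i)
    show extAt F φ (E.e (Pi.single i 1)) = extAt F ψ (E.e (Pi.single i 1))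
    rw [extAt_pow_id F (E.gl _)]
    exact hs _ (n * m) φ hφ fun c hc => hfix c (Finset.mem_biUnion.2 ⟨_, hi, hc⟩)
  have hu : f₁.toHomUnits = f₂.toHomUnits := by
    refine MonoidHom.ext fun x => ?_
    conv_lhs => rw [← ofAdd_toAdd x, ← Finset.univ_sum_single x.toAdd, ofAdd_sum, map_prod]
    conv_rhs => rw [← ofAdd_toAdd x, ← Finset.univ_sum_single x.toAdd, ofAdd_sum, map_prod]
    refine Finset.prod_congr rfl fun i _ => ?_
    rw [← mul_one (x.toAdd i), ← smul_eq_mul, Pi.single_smul, ofAdd_zsmul, map_zpow, map_zpow]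
    congr 1
    exact Units.ext (hgen i)
  have hEq : extAt F φ = extAt F ψ := by
    refine AlgHom.toLinearMap_injective (E.e.ext fun g => ?_)
    exact congrArg Units.val (DFunLike.congr_fun hu (Multiplicative.ofAdd g))
  refine AlgHom.ext fun a => Algebra.TensorProduct.includeRight_injective (A := F) (algebraMap k F).injective ?_
  exact DFunLike.congr_fun hEq (1 ⊗ₜ a)

end SemiAbLib

end
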